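import Cfsg.Agent.SYL.NE6
import Cfsg.Agent.INV.Four
import Cfsg.Agent.INV.SecRkTwo
import Cfsg.Agent.INV.NC.Aut3

/-!
2-groups without normal elementary abelian subgroup of order eight whose normal four-group is fused:
construction of the automorphism of order three.
-/

set_option autoImplicit false

namespace CL.NE

open Subgroup CL.MSS Cfsg

variable {G : Type*} [Group G] [Finite G] {S T U : Subgroup G} {z u : G}

theorem exists_pow3 {K : Subgroup G} {r : G} (h3 : r ^ 3 ∈ K) (h1 : r ∉ K) :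
    ∃ m k : ℕ, (r ^ m) ^ 3 ^ k = 1 ∧ r ^ m ∉ K := by
  obtain ⟨k, m, hm, e⟩ := Nat.exists_eq_pow_mul_and_not_dvd (orderOf_pos r).ne' 3 (by norm_num)
  refine ⟨m, k, by rw [← pow_mul, mul_comm, ← e, pow_orderOf_eq_one], fun e' => h1 ?_⟩
  obtain ⟨i, j, e⟩ := Nat.isCoprime_iff_coprime.2 ((Nat.Prime.coprime_iff_not_dvd Nat.prime_three).2 hm)
  have := mul_mem (zpow_mem h3 i) (zpow_mem e' j)
  rwa [← zpow_natCast, ← zpow_natCast, ← zpow_mul, ← zpow_mul, ← zpow_add, mul_comm, mul_comm (m : ℤ),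
    e, zpow_one] at this

theorem coset_conj (hT : IsPGroup 2 T) {b c : G} (hb : b ∈ normalizer (T : Set G)) (e : c * b⁻¹ ∈ T) {k : ℕ}
    (b3 : b ^ 3 ^ k = 1) (c3 : c ^ 3 ^ k = 1) : ∃ t ∈ T, t * c * t⁻¹ = b := by
  classical
  have := Fintype.ofFinite T
  have : Fact (Nat.Prime 3) := ⟨Nat.prime_three⟩
  let f : T → T := fun t => ⟨b⁻¹ * t * c, by
    convert (mem_normalizer_iff.1 (inv_mem hb) _).1 (mul_mem t.2 e) using 1; group⟩
  let σ := Equiv.ofBijective f (Finite.injective_iff_bijective.1 fun x y e => by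
    simpa [f] using e)
  have hσ : ∀ (n : ℕ) t, ((σ ^ n) t : G) = (b ^ n)⁻¹ * t * c ^ n := fun n t => by
    induction n with
    | zero => simp
    | succ n ih =>
      rw [pow_succ', Equiv.Perm.mul_apply]
      change b⁻¹ * ((σ ^ n) t : G) * c = _
      rw [ih, pow_succ b, pow_succ c]; group
  obtain ⟨n, hn⟩ := IsPGroup.iff_card.1 hT
  obtain ⟨t, ht⟩ := Equiv.Perm.exists_fixed_point_of_prime (p := 3) (n := k) (σ := σ) (by
    rw [← Nat.card_eq_fintype_card, hn]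
    exact fun l => by simpa using Nat.prime_three.dvd_of_dvd_pow l)
    (Equiv.ext fun t => Subtype.ext (by rw [hσ, b3, c3]; simp))
  refine ⟨t, t.2, ?_⟩
  have : b⁻¹ * t * c = t := congrArg Subtype.val ht
  rw [mul_inv_eq_iff_eq_mul, ← mul_inv_cancel_left b (t * c), ← mul_assoc b⁻¹, this]

/-- a normal four-group of a 2-group without normal elementary abelian subgroups of order eight -/
structure Pre (S U : Subgroup G) : Prop where
  p2 : IsPGroup 2 S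
  US : U ≤ S
  kl : IsKleinFour U
  nU : ∀ g ∈ S, ∀ u ∈ U, g * u * g⁻¹ ∈ U
  k4 : ∀ E ≤ S, (∀ g ∈ S, ∀ x ∈ E, g * x * g⁻¹ ∈ E) → (∀ x ∈ E, x * x = 1) → Nat.card E ≤ 4

namespace Pre

variable (h : Pre S U)
include h

omit [Finite G] in
theorem sq (u : G) (hu : u ∈ U) : u * u = 1 := CL.Four.mul_self_of_mem h.kl hu

omit [Finite G] in
theorem UT : U ≤ S ⊓ centralizer U := le_inf h.US fun _ hx _ hy => CL.Four.comm_of_mem h.kl hy hx

theorem kt (E : Subgroup G) (h1 : E ≤ S) (h2 : ∀ g ∈ S, ∀ x ∈ E, g * x * g⁻¹ ∈ E) (h3 : ∀ x ∈ E, x * x = 1)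
    (h4 : U ≤ E) : E ≤ U := (eq_of_le_of_card_ge h4 (h.kl.card_four ▸ h.k4 E h1 h2 h3)).ge

theorem kt' {J : G → Prop} (hT : ∀ x, J x → x ∈ S ⊓ centralizer U) (hn : ∀ g ∈ S, ∀ x, J x → J (g * x * g⁻¹))
    (h2 : ∀ x, J x → x * x = 1) (hc : ∀ x y, J x → J y → x * y = y * x) {x : G} (hx : J x) : x ∈ U :=
  kt0 h.UT inf_le_left (fun _ ht u hu => (ht.2 u hu).symm) h.nU h.sq h.kt hT hn h2 hc hx

omit [Finite G] in
theorem nT (g : G) (hg : g ∈ S) (t : G) (ht : t ∈ S ⊓ centralizer U) : g * t * g⁻¹ ∈ S ⊓ centralizer U :=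
  ⟨S.mul_mem (S.mul_mem hg ht.1) (inv_mem hg), fun u hu => by
    calc _ = g * (g⁻¹ * u * g⁻¹⁻¹ * t) * g⁻¹ := by group
      _ = _ := by rw [ht.2 _ (h.nU _ (inv_mem hg) u hu)]; group⟩

omit [Finite G] in
theorem cenU {p q g : G} (hp : p ∈ U) (hq : q ∈ U) (p1 : p ≠ 1) (q1 : q ≠ 1) (pq : p ≠ q) (h1 : Commute g p)
    (h2 : Commute g q) : g ∈ centralizer (U : Set G) := fun v hv => by
  rcases CL.Four.eq_or_of_mem h.kl hp hq hv p1 q1 pq with rfl | rfl | rfl | rfl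
  exacts [by simp, h1.symm, h2.symm, (h1.mul_right h2).symm]

theorem norU {p q g : G} (hp : p ∈ U) (hq : q ∈ U) (p1 : p ≠ 1) (q1 : q ≠ 1) (pq : p ≠ q)
    (h1 : g * p * g⁻¹ ∈ U) (h2 : g * q * g⁻¹ ∈ U) : g ∈ normalizer (U : Set G) :=
  mem_normalizer_fintype fun v hv => by
    rcases CL.Four.eq_or_of_mem h.kl hp hq hv p1 q1 pq with rfl | rfl | rfl | rfl
    exacts [by simp, h1, h2, conj_mul (a := p) ▸ mul_mem h1 h2]

omit [Finite G] in
theorem mv (zU : z ∈ U) (z1 : z ≠ 1) (zc : ∀ g ∈ S, g * z = z * g) (hu : u ∈ U) (u1 : u ≠ 1) (uz : z ≠ u) {g : G}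
    (hg : g ∈ S) (gT : g ∉ S ⊓ centralizer U) : g * u * g⁻¹ = z * u := by
  rcases CL.Four.eq_or_of_mem h.kl zU hu (h.nU g hg u hu) z1 u1 uz with l | l | l | l
  · exact (u1 (by simpa using l)).elim
  · rw [mul_inv_eq_iff_eq_mul, ← zc g hg, mul_right_inj] at l; exact (uz l.symm).elim
  · exact (gT ⟨hg, h.cenU zU hu z1 u1 uz (zc g hg) (mul_inv_eq_iff_eq_mul.1 l)⟩).elim
  · exact l

omit [Finite G] in
theorem cov (zU : z ∈ U) (z1 : z ≠ 1) (zc : ∀ g ∈ S, g * z = z * g) {x y : G} (hx : x ∈ S) (hy : y ∈ S)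
    (xT : x ∉ S ⊓ centralizer U) (yT : y ∉ S ⊓ centralizer U) : x⁻¹ * y ∈ S ⊓ centralizer U := by
  obtain ⟨u, hu, u1, uz⟩ := CL.Four.exists_ne_of_mem h.kl z
  have m := mul_mem (inv_mem hx) hy
  refine ⟨m, h.cenU zU hu z1 u1 uz.symm (zc _ m) (mul_inv_eq_iff_eq_mul.1 ?_)⟩
  calc _ = x⁻¹ * (y * u * y⁻¹) * x := by group
    _ = _ := by rw [h.mv zU z1 zc hu u1 uz.symm hy yT, ← h.mv zU z1 zc hu u1 uz.symm hx xT]; group

end Pre

theorem Pre.exists_g {P : Sylow 2 G} (h : Pre P U) (hr : ¬ (P : Subgroup G) ⊓ centralizer U ≤ U)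
    (hc : ∀ u ∈ U, ∀ v ∈ U, u ≠ 1 → v ≠ 1 → IsConj u v) :
    ∃ z ∈ U, ∃ u ∈ U, z ≠ 1 ∧ u ≠ 1 ∧ z ≠ u ∧ (∀ g ∈ (P : Subgroup G), g * z = z * g) ∧
      ∃ g ∈ normalizer (((P : Subgroup G) ⊓ centralizer U : Subgroup G) : Set G),
        g * u * g⁻¹ = z ∧ g * z * g⁻¹ ∈ U := by
  set T := (P : Subgroup G) ⊓ centralizer U with hT
  obtain ⟨z, hz, z1, zz, zc⟩ := step (B := ⊥) (F := closure {y | ∃ t ∈ T, t * t = y}) h.p2 bot_le
    ((closure_le _).2 (by rintro _ ⟨t, ht, rfl⟩; exact mul_mem ht.1 ht.1)) (by simp)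
    (fun g hg => (closure_le ((closure {y | ∃ t ∈ T, t * t = y}).comap (MulAut.conj g).toMonoidHom)).2 (by
      rintro _ ⟨t, ht, rfl⟩; exact subset_closure ⟨_, h.nT g hg t ht, conj_mul⟩))
    fun l => hr (h.kt _ inf_le_left h.nT (fun t ht => l (subset_closure ⟨t, ht, rfl⟩)) h.UT)
  simp only [mem_bot, inv_mul_eq_one] at z1 zz zc
  have zc' : ∀ g ∈ (P : Subgroup G), g * z = z * g := fun g hg => mul_inv_eq_iff_eq_mul.1 (zc g hg).symm
  have zT : z ∈ T := (closure_le T).2 (by rintro _ ⟨t, ht, rfl⟩; exact mul_mem ht ht) hz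
  have zU : z ∈ U := h.kt' (J := (· = z)) (fun _ e => e ▸ zT) (fun g hg _ e => e ▸ (zc g hg).symm)
    (fun _ e => e ▸ zz) (fun _ _ e e' => e ▸ e' ▸ rfl) rfl
  obtain ⟨u, hu, u1, uz⟩ := CL.Four.exists_ne_of_mem h.kl z
  obtain ⟨g, e, hg⟩ := CL.P2.conj_cen P zc' (hc u hu z zU u1 z1)
  have RP : g •ᶜ T ≤ P := cj_le_iff_forall.2 fun t ht => hg t ht.1 (ht.2 u hu).symm
  have sq : ∀ y ∈ (P : Subgroup G), y * y ∈ T := fun y hy => by
    by_cases l : y ∈ T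
    · exact mul_mem l l
    · have := h.cov zU z1 zc' (inv_mem hy) hy (fun k => l (inv_mem_iff.1 k)) l
      rwa [inv_inv] at this
  have wT : g * z * g⁻¹ ∈ T := (closure_le (T.comap (MulAut.conj g).toMonoidHom)).2 (by
    rintro _ ⟨t, ht, rfl⟩
    change g * (t * t) * g⁻¹ ∈ T
    rw [← conj_mul]; exact sq _ (RP (conj_mem_cj ht))) hz
  have i2 : (g •ᶜ T).relIndex P ∣ 2 := by
    have e1 : (g •ᶜ T).relIndex P = T.relIndex P := by
      have a1 := (T.subgroupOf P).card_mul_index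
      have a2 := ((g •ᶜ T).subgroupOf P).card_mul_index
      rw [Nat.card_congr (subgroupOfEquivOfLe inf_le_left).toEquiv] at a1
      rw [Nat.card_congr (subgroupOfEquivOfLe RP).toEquiv, card_cj, ← a1] at a2
      exact Nat.eq_of_mul_eq_mul_left Nat.card_pos a2
    rw [e1]
    by_cases l : (P : Subgroup G) ≤ T
    · rw [relIndex_eq_one.2 l]; simp
    · obtain ⟨s, hs, sT⟩ := SetLike.not_le_iff_exists.1 l
      exact index_dvd_two_iff'.2 ⟨⟨s⁻¹, inv_mem hs⟩, fun b => or_iff_not_imp_right.2 (h.cov zU z1 zc' hs b.2 sT)⟩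
  have nR : ∀ y ∈ (P : Subgroup G), ∀ r ∈ g •ᶜ T, y * r * y⁻¹ ∈ g •ᶜ T := fun y hy r hr =>
    (((Nat.dvd_prime Nat.prime_two).1 i2).elim normal_of_index_eq_one normal_of_index_eq_two).conj_mem
      ⟨r, RP hr⟩ hr ⟨y, hy⟩
  have cR : ∀ v ∈ U, ∀ r ∈ g •ᶜ T, Commute r (g * v * g⁻¹) := by
    rintro v hv _ ⟨t, ht, rfl⟩; exact conj_comm.2 (ht.2 v hv).symm
  have wU : g * z * g⁻¹ ∈ U := h.kt' (J := fun y => y ∈ T ∧ y ∈ g •ᶜ T ∧ y * y = 1 ∧ ∀ r ∈ g •ᶜ T, Commute r y)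
    (fun _ l => l.1) (fun y hy w l => ⟨h.nT y hy w l.1, nR y hy w l.2.1, conj_sq l.2.2.1, fun r hr => by
      simpa [mul_assoc] using (conj_comm (g := y)).2 (l.2.2.2 _ (nR _ (inv_mem hy) r hr))⟩)
    (fun _ l => l.2.2.1) (fun x y l l' => l'.2.2.2 x l.2.1) ⟨wT, conj_mem_cj zT, conj_sq zz, cR z zU⟩
  refine ⟨z, zU, u, hu, z1, u1, uz.symm, zc', g, mem_normalizer_fintype fun t ht => ⟨RP (conj_mem_cj ht),
    h.cenU zU wU z1 (by simpa using z1) (fun l => uz ?_) (zc' _ (RP (conj_mem_cj ht)))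
      (cR z zU _ (conj_mem_cj ht))⟩, e, wU⟩
  simpa using e.trans l

theorem Pre.exists_rho {P : Sylow 2 G} (h : Pre P U) (hr : ¬ (P : Subgroup G) ⊓ centralizer U ≤ U)
    (hc : ∀ u ∈ U, ∀ v ∈ U, u ≠ 1 → v ≠ 1 → IsConj u v) :
    ∃ z ∈ U, z ≠ 1 ∧ (∀ g ∈ (P : Subgroup G), g * z = z * g) ∧ ∃ s ∈ (P : Subgroup G),
      (∀ x ∈ (P : Subgroup G), x ∈ (P : Subgroup G) ⊓ centralizer U ∨ s⁻¹ * x ∈ (P : Subgroup G) ⊓ centralizer U) ∧
      ∃ r ∈ normalizer (((P : Subgroup G) ⊓ centralizer U : Subgroup G) : Set G) ⊓ normalizer (U : Set G),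
        r ^ 3 ∈ centralizer {z} ∧ r ∉ centralizer {z} ∧
          (s = 1 ∨ s * r * s⁻¹ * r ∈ (P : Subgroup G) ⊓ centralizer U) := by
  obtain ⟨z, zU, u, hu, z1, u1, zu, zc, g, hg, e, wU⟩ := h.exists_g hr hc
  set T := (P : Subgroup G) ⊓ centralizer U with hT
  have gU := h.norU zU hu z1 u1 zu wU (e ▸ zU)
  have zz := h.sq z zU
  have w1 : g * z * g⁻¹ ≠ 1 := by simpa using z1
  have wz : z ≠ g * z * g⁻¹ := fun l => zu (by simpa using l.symm.trans e.symm)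
  have key : ∀ r w : G, w ∈ U → z ≠ w → r * z * r⁻¹ = w → r * w * r⁻¹ = z * w →
      r ^ 3 ∈ centralizer {z} ∧ r ∉ centralizer {z} := fun r w hw zw e1 e2 => by
    simp only [mem_centralizer_singleton_iff, ← mul_inv_eq_iff_eq_mul]
    refine ⟨?_, fun l => zw (l.symm.trans e1)⟩
    calc _ = r * (r * (r * z * r⁻¹) * r⁻¹) * r⁻¹ := by rw [pow_three]; group
      _ = _ := by rw [e1, e2, ← conj_mul, e1, e2, CL.Four.comm_of_mem h.kl zU hw, ← mul_assoc, h.sq w hw, one_mul]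
  refine ⟨z, zU, z1, zc, ?_⟩
  by_cases l : (P : Subgroup G) ≤ T
  · refine ⟨1, one_mem _, fun x hx => .inl (l hx), g, ⟨hg, gU⟩, ?_⟩
    rcases CL.Four.eq_or_of_mem h.kl zU hu wU z1 u1 zu with k | k | k | k
    · exact (w1 k).elim
    · exact (wz k.symm).elim
    · exact (wz (CL.P2.odd_act P (by rwa [le_antisymm l inf_le_left]) zc (by rw [k, e])).symm).elim
    · have := key g _ wU wz rfl (by
        nth_rw 1 [k]; rw [← conj_mul, e, CL.Four.comm_of_mem h.kl wU zU])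
      exact ⟨this.1, this.2, .inl rfl⟩
  · obtain ⟨s, hs, sT⟩ := SetLike.not_le_iff_exists.1 l
    have sN : s ∈ normalizer (T : Set G) ⊓ normalizer (U : Set G) :=
      ⟨mem_normalizer_fintype (h.nT s hs), mem_normalizer_fintype (h.nU s hs)⟩
    have e0 : s * z * s⁻¹ = z := mul_inv_eq_iff_eq_mul.2 (zc s hs)
    have e1 := h.mv zU z1 zc wU w1 wz hs sT
    have ss : s * s ∈ T := by
      have := h.cov zU z1 zc (inv_mem hs) hs (fun k => sT (inv_mem_iff.1 k)) sT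
      rwa [inv_inv] at this
    have := key (s * (g * s * g⁻¹)) _ wU wz (by
      calc _ = s * (g * (s * (g⁻¹ * (g * u * g⁻¹) * g) * s⁻¹) * g⁻¹) * s⁻¹ := by rw [e]; group
        _ = s * (g * (s * u * s⁻¹) * g⁻¹) * s⁻¹ := by group
        _ = _ := by
          rw [h.mv zU z1 zc hu u1 zu hs sT, ← conj_mul (a := z), e, ← conj_mul (c := z), e0, e1, mul_assoc,
            CL.Four.comm_of_mem h.kl wU zU, ← mul_assoc, zz, one_mul]) (by
      calc _ = s * (g * (s * z * s⁻¹) * g⁻¹) * s⁻¹ := by group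
        _ = _ := by rw [e0, e1])
    refine ⟨s, hs, fun x hx => or_iff_not_imp_left.2 (h.cov zU z1 zc hs hx sT), _,
      mul_mem sN (mul_mem (mul_mem (show g ∈ _ from ⟨hg, gU⟩) sN) (inv_mem (show g ∈ _ from ⟨hg, gU⟩))),
      this.1, this.2, .inr ?_⟩
    convert mul_mem ss ((mem_normalizer_iff.1 hg _).1 ss) using 1; group

theorem Pre.exists_Ctx {P : Sylow 2 G} (h : Pre P U) (hr : ¬ (P : Subgroup G) ⊓ centralizer U ≤ U)
    (hc : ∀ u ∈ U, ∀ v ∈ U, u ≠ 1 → v ≠ 1 → IsConj u v) :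
    ∃ α s z : G, Ctx P ((P : Subgroup G) ⊓ centralizer U) U (MulAut.conj α).toMonoidHom s z := by
  obtain ⟨z, zU, z1, zc, s, hs, cov, r, hr, r3, r1, sr⟩ := h.exists_rho hr hc
  set T := (P : Subgroup G) ⊓ centralizer U with hT
  have pT : IsPGroup 2 T := h.p2.to_le inf_le_left
  obtain ⟨m, k, e, l⟩ := exists_pow3 r3 r1
  obtain ⟨t, ht, sα⟩ : ∃ t ∈ T, t * s = 1 ∨ t * s * r ^ m * (t * s)⁻¹ = (r ^ m)⁻¹ := by
    rcases sr with rfl | sr
    · exact ⟨1, one_mem _, .inl (mul_one _)⟩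
    have sN : s ∈ normalizer (T : Set G) := mem_normalizer_fintype (h.nT s hs)
    have : ∀ n : ℕ, s * r ^ n * s⁻¹ * r ^ n ∈ T := fun n => by
      induction n with
      | zero => simp
      | succ n ih =>
        convert mul_mem ((mem_normalizer_iff.1 (mul_mem (mul_mem sN hr.1) (inv_mem sN)) _).1 ih) sr using 1
        nth_rw 1 [pow_succ']; rw [pow_succ]; group
    obtain ⟨t, ht, l⟩ := coset_conj pT (c := s * r ^ m * s⁻¹) (inv_mem (pow_mem hr.1 m)) (by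
      rw [inv_inv]; exact this m) (k := k) (by rw [inv_pow, e, inv_one]) (by rw [conj_pow, e]; simp)
    exact ⟨t, ht, .inr (by rw [← l]; group)⟩
  have αN := pow_mem hr m
  generalize r ^ m = α at e l sα αN
  have hs' : t * s ∈ (P : Subgroup G) := mul_mem ht.1 hs
  have a3 : ∀ x ∈ T, α * (α * (α * x * α⁻¹) * α⁻¹) * α⁻¹ = x := fun x hx => by
    have := CL.Hrd.cube_eq_one pT (α := T.normalizerMonoidHom ⟨α, αN.1⟩) (k := k) (by
      rw [← map_pow, ← map_one T.normalizerMonoidHom]; congr 1; exact Subtype.ext e) (by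
      have h1 := ((CL.SR16.macWilliams h.p2 fun E hE h2 => by
        rw [← card_map_of_injective (P : Subgroup G).subtype_injective]
        refine h.k4 _ (map_subtype_le E) ?_ ?_
        · rintro g hg _ ⟨x, hx, rfl⟩; exact ⟨_, hE.conj_mem x hx ⟨g, hg⟩, rfl⟩
        · rintro _ ⟨x, hx, rfl⟩; exact congrArg Subtype.val (h2 x hx)).of_injective
          (inclusion (inf_le_left : T ≤ P)) (inclusion_injective _)) ⊤ (frattini T) le_top
          fun a _ => pow_two a ▸ CL.PG.pow_mem_frattini pT a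
      rw [card_top, ← (frattini T).card_mul_index, mul_comm] at h1
      exact Nat.le_of_mul_le_mul_right h1 Nat.card_pos)
    simpa [pow_three] using congrArg Subtype.val (DFunLike.congr_fun this ⟨x, hx⟩)
  have azU : α * z * α⁻¹ ∈ U := (mem_normalizer_iff.1 αN.2 _).1 zU
  have az : α * z * α⁻¹ ≠ z := fun k => l (mem_centralizer_singleton_iff.2 (mul_inv_eq_iff_eq_mul.1 k))
  have a1 : α * z * α⁻¹ ≠ 1 := by simpa using z1
  refine ⟨α, t * s, z, h.p2, h.UT, inf_le_left, fun _ ht u hu => (ht.2 u hu).symm,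
    fun x hx l => ⟨hx, fun u hu => (l u hu).symm⟩, h.nU, h.kt, zU, z1, h.sq z zU, fun u hu => ?_, azU, az,
    fun x hx => (mem_normalizer_iff.1 αN.1 _).1 hx, a3, hs', mul_inv_eq_iff_eq_mul.2 (zc _ hs'),
    fun x hx => (cov x hx).imp_right fun l => ?_, ?_, ?_, fun x => isConj_iff.2 ⟨α, rfl⟩⟩
  · have : α * (α * z * α⁻¹) * α⁻¹ = z * (α * z * α⁻¹) := by
      rcases CL.Four.eq_or_of_mem h.kl zU azU ((mem_normalizer_iff.1 αN.2 _).1 azU) z1 a1 az.symm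
        with k | k | k | k
      · exact (z1 (by simpa using k)).elim
      · exact (az (by have := a3 z (h.UT zU); rwa [k] at this)).elim
      · exact (az (by simpa using k)).elim
      · exact k
    have k := CL.Four.eq_or_of_mem h.kl zU azU hu z1 a1 az.symm
    rwa [← this] at k
  · convert mul_mem (h.nT _ (inv_mem hs) _ (inv_mem ht)) l using 1; group
  · rcases sα with k | k
    · exact .inl fun x _ => by simp [k]
    · refine .inr fun x hx => ?_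
      change α * (t * s * x * (t * s)⁻¹) * α⁻¹ = t * s * (α * (α * x * α⁻¹) * α⁻¹) * (t * s)⁻¹
      calc _ = (t * s * α * (t * s)⁻¹)⁻¹ * (t * s * (α * (α * (α * x * α⁻¹) * α⁻¹) * α⁻¹) * (t * s)⁻¹) *
          (t * s * α * (t * s)⁻¹) := by rw [k, a3 x hx, inv_inv]
        _ = _ := by group
  · change α * (t * s * (t * s)) * α⁻¹ = _
    rcases sα with k | k
    · simp [k]
    · calc _ = (t * s * α * (t * s)⁻¹)⁻¹ * (t * s * (t * s)) * α⁻¹ := by rw [k, inv_inv]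
        _ = t * s * (α⁻¹ * (t * s * α * (t * s)⁻¹)⁻¹) * (t * s) := by group
        _ = _ := by rw [k]; group

theorem k4_of (hS : IsPGroup 2 S)
    (h8 : ∀ E : Subgroup S, E.Normal → IsElementaryAbelian 2 E → Nat.card E ≠ 8) (E : Subgroup G) (h1 : E ≤ S)
    (h2 : ∀ g ∈ S, ∀ x ∈ E, g * x * g⁻¹ ∈ E) (h3 : ∀ x ∈ E, x * x = 1) : Nat.card E ≤ 4 := by
  by_contra l
  have : (E.subgroupOf S).Normal := ⟨fun x hx g => h2 g g.2 x hx⟩
  obtain ⟨K, hK, k1, k2⟩ := CL.PN.exists_normal_le_card_eq hS (E.subgroupOf S) 3 (by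
    rw [Nat.card_congr (subgroupOfEquivOfLe h1).toEquiv]
    exact CL.Four.pow_succ_le_card (n := 2) (hS.to_le h1) (by omega))
  have q : ∀ x ∈ K, x * x = 1 := fun x hx => Subtype.ext (h3 x (k1 hx))
  refine h8 K hK ⟨⟨⟨fun x y => Subtype.ext ?_⟩⟩, fun x hx => pow_two x ▸ q x hx⟩ k2
  rw [coe_mul, coe_mul, ← inv_eq_of_mul_eq_one_right (q _ (mul_mem x.2 y.2)), mul_inv_rev,
    inv_eq_of_mul_eq_one_right (q _ x.2), inv_eq_of_mul_eq_one_right (q _ y.2)]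

theorem Pre.exists_z (h : Pre S U) : ∃ z ∈ U, z ≠ 1 ∧ ∀ g ∈ S, g * z = z * g := by
  obtain ⟨z, hz, z1, -, zc⟩ := step (B := ⊥) (F := U) h.p2 bot_le h.US (by simp) h.nU fun l => by
    obtain ⟨u, hu, u1, -⟩ := CL.Four.exists_ne_of_mem h.kl 1
    exact u1 (l hu)
  simp only [mem_bot, inv_mul_eq_one] at z1 zc
  exact ⟨z, hz, z1, fun g hg => mul_inv_eq_iff_eq_mul.1 (zc g hg).symm⟩

theorem Pre.exists_t (h : Pre S U) (h3 : ¬ PRankLE 2 2 S) : ∃ t ∈ S ⊓ centralizer U, t * t = 1 ∧ t ∉ U := by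
  obtain ⟨A, AS, hA, c8⟩ := CL.Four.not_prankLE_iff_exists_card.1 h3
  obtain ⟨z, zU, z1, zc⟩ := h.exists_z
  by_contra hn
  push Not at hn
  have h1 : S ⊓ centralizer U ⊓ A ≤ U := fun t ht => hn t ht.1 (pow_two t ▸ hA.2 t ht.2)
  have c4 := h.kl.card_four
  by_cases l : A ≤ S ⊓ centralizer U
  · have := card_le_of_le ((le_inf l le_rfl).trans h1); omega
  obtain ⟨c, hc, cT⟩ := SetLike.not_le_iff_exists.1 l
  have := card_le_two hc fun t ht => or_iff_not_imp_left.2 (h.cov zU z1 zc (AS hc) (AS ht) cT)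
  have e := eq_of_le_of_card_ge h1 (by omega)
  exact cT ⟨AS hc, fun u hu => congrArg Subtype.val (hA.1.is_comm.comm (⟨u, (e.ge hu).2⟩ : A) ⟨c, hc⟩)⟩

end CL.NE
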