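/- Groups between `PSL₃(4)` and its automorphism group. -/
import Cfsg.Agent.FGS.CITStruct
import Cfsg.Agent.FGS.CITPsl
import Cfsg.Agent.CLAS.OutPSL
import Cfsg.Agent.S0813
import Cfsg.Agent.S0820

set_option autoImplicit false

namespace CL.P34

open Subgroup Matrix Matrix.SpecialLinearGroup
open scoped MatrixGroups

theorem aut_equiv {X : Type*} [Group X] [Finite X] (hZ : center X = ⊥) [Group.IsPerfect X]
    (D : Subgroup (MulAut X)) [D.Normal] (h1 : (MulAut.conj : X →* _).range ≤ D)
    (h2 : ⁅D, D⁆ ≤ (MulAut.conj : X →* _).range) : Nonempty (MulAut X ≃* MulAut D) := by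
  have hi : Function.Injective (MulAut.conj : X →* _) := (injective_iff_map_eq_one _).2 fun x hx =>
    mem_bot.1 (hZ ▸ mem_center_iff.2 fun y => (mul_inv_eq_iff_eq_mul.1 congr($hx y)).symm)
  have cj : ∀ (a : MulAut X) x, a * MulAut.conj x * a⁻¹ = MulAut.conj (a x) := fun a x => by
    ext y; simp
  have cen : ∀ a : MulAut X, (∀ x, a * MulAut.conj x * a⁻¹ = MulAut.conj x) → a = 1 := fun a h =>
    MulEquiv.ext fun x => hi ((cj a x).symm.trans (h x))
  let j : X →* D := MulAut.conj.codRestrict D fun x => h1 ⟨x, rfl⟩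
  have hj : j.range = commutator D := le_antisymm (by
    rw [MonoidHom.range_eq_map, ← Group.IsPerfect.commutator_eq_top, map_commutator_eq]
    exact commutator_mono le_top le_top) fun d hd =>
      let ⟨x, hx⟩ := h2 (D.map_subtype_commutator ▸ mem_map_of_mem _ hd); ⟨x, Subtype.ext hx⟩
  have i1 : Function.Injective (MulAut.conjNormal : MulAut X →* MulAut D) :=
    (injective_iff_map_eq_one _).2 fun a h => cen a fun x => congr(($h (j x) : MulAut X))
  have i2 : Function.Injective (MulAut.characteristic (commutator D)) :=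
    (injective_iff_map_eq_one _).2 fun b h => MulEquiv.ext fun d => by
      have k : ∀ x, b (j x) = j x := fun x => congr(($h ⟨j x, hj.le ⟨x, rfl⟩⟩ : D))
      refine Subtype.ext (inv_mul_eq_one.1 (cen _ fun x => ?_)).symm
      have l : d * j x * d⁻¹ = j (d.1 x) := Subtype.ext (cj d x)
      have m := congr(($(k (d.1 x)) : MulAut X))
      rw [← l, map_mul, map_mul, k, map_inv] at m
      rw [_root_.mul_inv_rev, inv_inv, mul_assoc, mul_assoc, inv_mul_eq_iff_eq_mul, ← mul_assoc,
        ← mul_assoc, ← eq_mul_inv_iff_mul_eq]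
      exact m
  refine ⟨MulEquiv.ofBijective _ (i1.bijective_of_nat_card_le ?_)⟩
  exact (Nat.card_le_card_of_injective _ i2).trans (Nat.card_congr (MulAut.congr
    ((MonoidHom.ofInjective (f := j) fun _ _ e => hi congr($e.1)).trans
      (MulEquiv.subgroupCongr hj))).toEquiv).ge

variable {F : Type*} [Field F] [Fintype F] (hF : Fintype.card F = 4)
include hF

theorem pow_four {z c : PSL(3, F)} (hz : orderOf z = 2) (h : c * z = z * c) : c ^ 4 = 1 := by
  have : CharP F 2 := charP_of_card_eq_prime_pow (p := 2) (f := 2) (by simpa using hF)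
  let t : SL(3, F) := transvection (by decide : (0 : Fin 3) ≠ 2) 1
  obtain ⟨g, hg⟩ := isConj_iff.1 (Cfsg.Agent.S0820.result hF z (t : PSL(3, F)) hz
    (orderOf_eq_prime (by rw [sq, ← QuotientGroup.mk_mul, CIT.transvection_sq]; rfl)
      (by simp [t, transvection_mem_center_iff])))
  obtain ⟨d, hd⟩ := QuotientGroup.mk_surjective (g * c * g⁻¹)
  rw [← conj_eq_one_iff (a := g), ← conj_pow, ← hd, ← QuotientGroup.mk_pow,
    QuotientGroup.eq_one_iff]
  have h1 : ((t * d : SL(3, F)) : PSL(3, F)) = (d * t : SL(3, F)) := by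
    rw [QuotientGroup.mk_mul, QuotientGroup.mk_mul, hd, ← hg, conj_mul, conj_mul, h]
  obtain ⟨r, -, hr⟩ := Matrix.SpecialLinearGroup.mem_center_iff.1 (QuotientGroup.eq.1 h1)
  have h2 : (t * d : SL(3, F)).1 * scalar _ r = (d * t : SL(3, F)).1 :=
    hr ▸ congrArg Subtype.val (mul_inv_cancel_left (t * d) (d * t))
  have h3 := d.2
  rw [det_fin_three] at h3
  have e := fun i j => congr($h2 i j)
  simp only [Fin.forall_fin_succ, t] at e
  simp [transvection_coe, single, Matrix.mul_apply, Fin.sum_univ_three, one_apply, diagonal] at e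
  obtain ⟨⟨e1, e2, e3⟩, ⟨e4, e5, e6⟩, e7, e8, e9⟩ := e
  obtain rfl : r = 1 := by_contra fun hr => by
    have k : ∀ {a : F}, a * r = a → a = 0 := fun k => by_contra fun l => hr (by simpa [l] using k)
    simp [k e4, k e5, k e7, k e8] at h3
  have k1 : d 2 0 = 0 := by simpa using e1
  have k2 : d 2 1 = 0 := by simpa using e2
  have k3 : d 1 0 = 0 := by simpa using e6
  have k4 : d 2 2 = d 0 0 := by linear_combination e3
  have h4 : d 0 0 * d 1 1 * d 0 0 = 1 := by simpa [k1, k2, k3, k4] using h3
  have h5 : d 0 0 ^ 3 = 1 := by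
    simpa [hF] using FiniteField.pow_card_sub_one_eq_one (d 0 0) fun l => by simp [l] at h4
  have k5 : d 1 1 = d 0 0 := by linear_combination d 0 0 * h4 - d 1 1 * h5
  have h6 : (2 : F) = 0 := CharTwo.two_eq_zero
  refine Matrix.SpecialLinearGroup.mem_center_iff.2 ⟨d 0 0, by simpa using h5, ?_⟩
  ext i j
  fin_cases i <;> fin_cases j <;>
    simp [pow_succ, Matrix.mul_apply, Fin.sum_univ_three, k1, k2, k3, k4, k5] <;> grind

theorem exists_equiv {G : Type*} [Group G] [Finite G] {M : Subgroup G} [M.Normal]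
    (e : M ≃* PSL(3, F)) (hC : centralizer (M : Set G) ≤ M) (h : 12 ∣ M.index) :
    Nonempty (G ≃* MulAut (GL (Fin 3) F ⧸ center (GL (Fin 3) F))) := by
  have h1 := CITC.card_psl3_four hF
  have h2 := Cfsg.Agent.S0813.result (F := F) 2 2 one_le_two hF 3 (by decide) (by decide)
  have h3 := CL.SL.card_SL_mul (F := F) 3 (by norm_num)
  rw [CL.SL.card_PGL_eq_card_SL] at h2
  rw [hF] at h3
  simp only [Fin.prod_univ_three] at h3
  generalize Nat.card SL(3, F) = n at h2 h3
  norm_num at h3
  have : Group.IsPerfect SL(3, F) := ⟨CL.SL.commutator_eq_top_of_three_le (by simp)⟩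
  have := CL.SL.psl_isSimpleGroup_of_three_le (ι := Fin 3) (F := F) (by simp)
  have hZ : center PSL(3, F) = ⊥ := Group.IsPerfect.center_quotient_center_eq_bot _
  have := AutPSL.range_diag_normal (ι := Fin 3) (F := F) (by simp)
  obtain ⟨f⟩ := aut_equiv hZ (AutPSL.diag (Fin 3) F).range AutPSL.inn_le_range_diag (by
    rw [MonoidHom.range_eq_map (AutPSL.diag _ _), ← map_commutator]
    refine (map_mono (commutator_le.2 fun a _ b _ => ?_)).trans AutPSL.inn_eq_map.ge
    show GeneralLinearGroup.det _ = 1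
    rw [map_commutatorElement, commutatorElement_eq_one_iff_mul_comm, mul_comm])
  let θ := (MulAut.congr e).toMonoidHom.comp (MulAut.conjNormal (H := M))
  have h4 : Function.Injective θ := (injective_iff_map_eq_one _).2 fun g hg => by
    have c : ∀ y : M, g * y * g⁻¹ = y := fun y =>
      congr(($((MulAut.congr e).map_eq_one_iff.1 hg) y : G))
    have m : g ∈ M := hC fun y hy => (mul_inv_eq_iff_eq_mul.1 (c ⟨y, hy⟩)).symm
    have : e ⟨g, m⟩ ∈ center _ := mem_center_iff.2 fun y => by
      obtain ⟨y, rfl⟩ := e.surjective y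
      rw [← map_mul, ← map_mul]
      exact congrArg e (Subtype.ext (mul_inv_eq_iff_eq_mul.1 (c y)).symm)
    rw [hZ] at this
    exact congrArg Subtype.val (e.map_eq_one_iff.1 this)
  refine ⟨((MulEquiv.ofBijective θ (h4.bijective_of_nat_card_le ?_)).trans f).trans
    (MulAut.congr AutPSL.pglEquiv.symm)⟩
  have h5 := Nat.le_of_dvd (Nat.pos_of_ne_zero M.index_ne_zero_of_finite) h
  rw [← M.card_mul_index, Nat.card_congr e.toEquiv, h1, h2, if_neg (by decide)]
  omega

end CL.P34
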