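import Mathlib
import Cfsg.Agent.PLOC.PNormal
import Cfsg.Agent.SOLV.SemiR1

/-!
2-groups without normal elementary abelian subgroup of order eight whose normal four-group is fused:
the setting and a self-centralizing invariant abelian subgroup.
-/

set_option autoImplicit false

namespace CL.NE

open Subgroup

variable {G : Type*} [Group G]

theorem two_mul_card_le [Finite G] {B F : Subgroup G} (BF : B ≤ F) (h : ¬ F ≤ B) :
    2 * Nat.card B ≤ Nat.card F := by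
  obtain ⟨k, e⟩ := card_dvd_of_le BF
  have h0 : 0 < Nat.card F := Nat.card_pos
  rcases k with _ | _ | k
  · omega
  · exact (h (eq_of_le_of_card_ge BF (by omega)).ge).elim
  · rw [e]; nlinarith

/-- a central step in a 2-group -/
theorem step [Finite G] {S B F : Subgroup G} (hS : IsPGroup 2 S) (BF : B ≤ F) (FS : F ≤ S)
    (nB : ∀ g ∈ S, ∀ x ∈ B, g * x * g⁻¹ ∈ B) (nF : ∀ g ∈ S, ∀ x ∈ F, g * x * g⁻¹ ∈ F) (h : ¬ F ≤ B) :
    ∃ y ∈ F, y ∉ B ∧ y * y ∈ B ∧ ∀ g ∈ S, y⁻¹ * (g * y * g⁻¹) ∈ B := by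
  have : (B.subgroupOf S).Normal := ⟨fun x hx g => nB g g.2 x hx⟩
  have : (F.subgroupOf S).Normal := ⟨fun x hx g => nF g g.2 x hx⟩
  obtain ⟨K, hK, h1, h2, h3⟩ := CL.PN.exists_normal_card_eq hS (B.subgroupOf S) (F.subgroupOf S)
    (fun _ hx => BF hx) 1 (by
      rw [pow_one]
      exact two_mul_card_le (fun _ hx => BF hx) fun e => h fun x hx => @e ⟨x, FS hx⟩ hx)
  have h4 : (B.subgroupOf S).relIndex K = 2 := by
    have := (B.subgroupOf S).subgroupOf K |>.card_mul_index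
    rw [Nat.card_congr (subgroupOfEquivOfLe h1).toEquiv, h3, pow_one, mul_comm] at this
    exact Nat.eq_of_mul_eq_mul_right Nat.card_pos this
  obtain ⟨y, hy, hy'⟩ := SetLike.not_le_iff_exists.1 fun e : K ≤ B.subgroupOf S => by
    rw [relIndex_eq_one.2 e] at h4; omega
  refine ⟨y, h2 hy, hy', (CL.SR1.mul_iff h4 hy hy).2 Iff.rfl, fun g hg => ?_⟩
  refine (CL.SR1.mul_iff h4 (inv_mem hy) (hK.conj_mem y hy ⟨g, hg⟩)).2 (iff_of_false (by simpa using hy') fun e => hy' ?_)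
  have := nB _ (inv_mem hg) _ e
  simpa [mul_assoc, mem_subgroupOf] using this

/-- the setting: `T = C_S(U)`, `a` acts on `T` with order three and permutes the involutions of `U` -/
structure Ctx (S T U : Subgroup G) (a : G →* G) (s z : G) : Prop where
  p2 : IsPGroup 2 S
  UT : U ≤ T
  TS : T ≤ S
  cen : ∀ t ∈ T, ∀ u ∈ U, t * u = u * t
  hT : ∀ x ∈ S, (∀ u ∈ U, x * u = u * x) → x ∈ T
  nU : ∀ g ∈ S, ∀ u ∈ U, g * u * g⁻¹ ∈ U
  kt : ∀ E ≤ S, (∀ g ∈ S, ∀ x ∈ E, g * x * g⁻¹ ∈ E) → (∀ x ∈ E, x * x = 1) → U ≤ E → E ≤ U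
  zU : z ∈ U
  z1 : z ≠ 1
  zz : z * z = 1
  mem : ∀ u ∈ U, u = 1 ∨ u = z ∨ u = a z ∨ u = a (a z)
  azU : a z ∈ U
  az : a z ≠ z
  aT : ∀ t ∈ T, a t ∈ T
  a3 : ∀ t ∈ T, a (a (a t)) = t
  hs : s ∈ S
  sz : s * z * s⁻¹ = z
  cov : ∀ x ∈ S, x ∈ T ∨ s⁻¹ * x ∈ T
  sa : (∀ x ∈ T, a (s * x * s⁻¹) = s * a x * s⁻¹) ∨ ∀ x ∈ T, a (s * x * s⁻¹) = s * a (a x) * s⁻¹
  ss : a (s * s) = s * s
  cj : ∀ x, IsConj x (a x)

/-- commutator -/
def ep (t b : G) : G := t * b * t⁻¹ * b⁻¹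

theorem ep_eq_one {t b : G} : ep t b = 1 ↔ t * b = b * t := by
  rw [ep, mul_inv_eq_one, mul_inv_eq_iff_eq_mul]

theorem conj_eq (t b : G) : t * b * t⁻¹ = ep t b * b := by simp [ep]

theorem map_ep (a : G →* G) (t b : G) : a (ep t b) = ep (a t) (a b) := by simp [ep]

theorem conj_ep (g t b : G) : g * ep t b * g⁻¹ = ep (g * t * g⁻¹) (g * b * g⁻¹) := by
  simp only [ep]; group

theorem ep_aux {x y n : G} (h1 : n * y = y * n) (h2 : ep x y * x = x * ep x y)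
    (h3 : ep x y * y = y * ep x y) : ep x y = ep y ((x * y)⁻¹ * n) := by
  calc _ = x⁻¹ * (y⁻¹ * (ep x y * y)) * x := by rw [h3, inv_mul_cancel_left, mul_assoc, h2]; simp
    _ = x⁻¹ * (n * (n * y)⁻¹ * n) * n⁻¹ * x * y := by rw [h1]; simp only [ep]; group
    _ = _ := by simp only [ep]; group

theorem closure_sq {K : Set G} (h2 : ∀ x ∈ K, x * x = 1) (hc : ∀ x ∈ K, ∀ y ∈ K, x * y = y * x) :
    ∀ x ∈ closure K, x * x = 1 := by
  have h1 : closure K ≤ centralizer K := (closure_le _).2 fun x hx y hy => hc y hy x hx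
  have h3 : closure K ≤ centralizer (closure K : Set G) :=
    (closure_le _).2 fun x hx y hy => (h1 hy x hx).symm
  intro x hx
  induction hx using closure_induction with
  | mem x hx => exact h2 x hx
  | one => simp
  | mul x y hx hy e1 e2 =>
    rw [mul_assoc, ← mul_assoc y, h3 hx y hy, mul_assoc, e2, mul_one, e1]
  | inv x _ e => rw [← mul_inv_rev, e, inv_one]

/-- an invariant set of commuting involutions of `T` lies in `U` -/
theorem kt0 {S T U : Subgroup G} (UT : U ≤ T) (TS : T ≤ S) (cen : ∀ t ∈ T, ∀ u ∈ U, t * u = u * t)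
    (nU : ∀ g ∈ S, ∀ u ∈ U, g * u * g⁻¹ ∈ U) (sq : ∀ u ∈ U, u * u = 1)
    (kt : ∀ E ≤ S, (∀ g ∈ S, ∀ x ∈ E, g * x * g⁻¹ ∈ E) → (∀ x ∈ E, x * x = 1) → U ≤ E → E ≤ U)
    {J : G → Prop} (hT : ∀ x, J x → x ∈ T) (hn : ∀ g ∈ S, ∀ x, J x → J (g * x * g⁻¹))
    (h2 : ∀ x, J x → x * x = 1) (hc : ∀ x y, J x → J y → x * y = y * x) {x : G} (hx : J x) : x ∈ U := by
  refine kt (closure {x | J x ∨ x ∈ U}) ((closure_le _).2 fun x hx => TS (hx.elim (hT x) (UT ·)))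
    (fun g hg y hy => ?_) (closure_sq (fun x hx => hx.elim (h2 x) (sq x)) ?_)
    (fun u hu => subset_closure (Or.inr hu)) (subset_closure (Or.inl hx))
  · exact (closure_le (((closure {x | J x ∨ x ∈ U})).comap (MulAut.conj g).toMonoidHom)).2
      (fun x hx => subset_closure (hx.imp (hn g hg x) (nU g hg x))) hy
  · rintro x (hx | hx) y (hy | hy)
    · exact hc x y hx hy
    · exact cen x (hT x hx) y hy
    · exact (cen y (hT y hy) x hx).symm
    · exact cen x (UT hx) y hy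

namespace Ctx

variable {S T U : Subgroup G} {a : G →* G} {s z : G} (h : Ctx S T U a s z)
include h

theorem US : U ≤ S := h.UT.trans h.TS

theorem inj {x y : G} (hx : x ∈ T) (hy : y ∈ T) (e : a x = a y) : x = y := by
  rw [← h.a3 x hx, e, h.a3 y hy]

theorem a3z : a (a (a z)) = z := h.a3 z (h.UT h.zU)

theorem sq (u : G) (hu : u ∈ U) : u * u = 1 := by
  rcases h.mem u hu with rfl | rfl | rfl | rfl <;> simp [← map_mul, h.zz]

theorem inv_U {u : G} (hu : u ∈ U) : u⁻¹ = u := inv_eq_of_mul_eq_one_right (h.sq u hu)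

theorem a1 : a z ≠ 1 := fun e => h.z1 (by rw [← h.a3z, e, map_one, map_one])

theorem aa1 : a (a z) ≠ 1 := fun e => h.z1 (by rw [← h.a3z, e, map_one])

theorem aaz : a (a z) ≠ z := fun e => h.az (by rw [← e, h.a3z, e])

theorem aaz' : a (a z) ≠ a z := fun e => h.az (h.inj (h.UT h.azU) (h.UT h.zU) e)

theorem zaz : z * a z = a (a z) := by
  rcases h.mem _ (mul_mem h.zU h.azU) with e | e | e | e
  · exact (h.az (by rw [← inv_eq_of_mul_eq_one_right e, h.inv_U h.zU])).elim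
  · exact (h.a1 (by simpa using e)).elim
  · exact (h.z1 (by simpa using e)).elim
  · exact e

theorem aU (u : G) (hu : u ∈ U) : a u ∈ U := by
  rcases h.mem u hu with rfl | rfl | rfl | rfl
  · simp
  · exact h.azU
  · exact h.zaz ▸ mul_mem h.zU h.azU
  · exact h.a3z.symm ▸ h.zU

theorem fixU {u : G} (hu : u ∈ U) (e : a u = u) : u = 1 := by
  rcases h.mem u hu with rfl | rfl | rfl | rfl
  · rfl
  · exact (h.az e).elim
  · exact (h.aaz' e).elim
  · exact (h.aaz (by rw [← e, h.a3z])).elim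

theorem mulU {u : G} (hu : u ∈ U) : u * a u = a (a u) := by
  rcases h.mem u hu with rfl | rfl | rfl | rfl
  · simp
  · exact h.zaz
  · rw [← map_mul, h.zaz]
  · rw [← map_mul, ← map_mul, h.zaz]

theorem memU {p u : G} (hp : p ∈ U) (p1 : p ≠ 1) (hu : u ∈ U) :
    u = 1 ∨ u = p ∨ u = a p ∨ u = a (a p) := by
  have := h.mem u hu
  rcases h.mem p hp with rfl | rfl | rfl | rfl
  · exact (p1 rfl).elim
  · exact this
  · rw [h.a3z]; tauto
  · rw [h.a3z]; tauto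

theorem nT (g : G) (hg : g ∈ S) (t : G) (ht : t ∈ T) : g * t * g⁻¹ ∈ T :=
  h.hT _ (mul_mem (mul_mem hg (h.TS ht)) (inv_mem hg)) fun u hu => by
    have := h.cen t ht _ (h.nU _ (inv_mem hg) u hu)
    calc _ = g * (t * (g⁻¹ * u * g⁻¹⁻¹)) * g⁻¹ := by group
      _ = _ := by rw [this]; group

theorem cjU {t u : G} (ht : t ∈ T) (hu : u ∈ U) : t * u * t⁻¹ = u := by
  rw [h.cen t ht u hu, mul_inv_cancel_right]

theorem inv_of {J : G → Prop} (h1 : ∀ g ∈ T, ∀ x, J x → J (g * x * g⁻¹)) (h2 : ∀ x, J x → J (s * x * s⁻¹))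
    (g : G) (hg : g ∈ S) (x : G) (hx : J x) : J (g * x * g⁻¹) := by
  rcases h.cov g hg with e | e
  · exact h1 g e x hx
  · have := h2 _ (h1 _ e x hx)
    rwa [show s * (s⁻¹ * g * x * (s⁻¹ * g)⁻¹) * s⁻¹ = g * x * g⁻¹ by group] at this

theorem kt' {J : G → Prop} (hT : ∀ x, J x → x ∈ T) (hn : ∀ g ∈ S, ∀ x, J x → J (g * x * g⁻¹))
    (h2 : ∀ x, J x → x * x = 1) (hc : ∀ x y, J x → J y → x * y = y * x) {x : G} (hx : J x) : x ∈ U :=
  kt0 h.UT h.TS h.cen h.nU h.sq h.kt hT hn h2 hc hx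

theorem ssT : s * s ∈ T := by
  rcases h.cov _ (mul_mem h.hs h.hs) with e | e
  · exact e
  · rw [inv_mul_cancel_left] at e; exact mul_mem e e

theorem sa' (hs : s ∉ T) : ∀ x ∈ T, a (s * x * s⁻¹) = s * a (a x) * s⁻¹ :=
  h.sa.resolve_left fun e => hs (h.hT s h.hs fun u hu => by
    have e1 : s * a z * s⁻¹ = a z := by rw [← e z (h.UT h.zU), h.sz]
    have e2 : s * a (a z) * s⁻¹ = a (a z) := by rw [← e _ (h.UT h.azU), e1]
    rw [← mul_inv_eq_iff_eq_mul]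
    rcases h.mem u hu with rfl | rfl | rfl | rfl
    · simp
    exacts [h.sz, e1, e2])

theorem ep_mul_left {t t' b : G} (ht : t ∈ T) (hb : b ∈ T) (e : ep t' b ∈ U) :
    ep (t * t') b = ep t b * ep t' b := by
  have h1 := h.cen _ (mul_mem (mul_mem (mul_mem ht hb) (inv_mem ht)) (inv_mem hb)) _ e
  calc _ = t * ep t' b * t⁻¹ * (t * b * t⁻¹ * b⁻¹) := by simp only [ep]; group
    _ = _ := by rw [h.cjU ht e, ← h1]; rfl

theorem ep_mul_right {t b b' : G} (hb : b ∈ T) (e : ep t b' ∈ U) :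
    ep t (b * b') = ep t b * ep t b' := by
  calc _ = ep t b * (b * ep t b' * b⁻¹) := by simp only [ep]; group
    _ = _ := by rw [h.cjU hb e]

theorem ep_inv_right {t b : G} (hb : b ∈ T) (e : ep t b ∈ U) : ep t b⁻¹ = ep t b := by
  calc _ = (b⁻¹ * ep t b * b⁻¹⁻¹)⁻¹ := by simp only [ep]; group
    _ = _ := by rw [h.cjU (inv_mem hb) e, h.inv_U e]

theorem ep_symm {t b : G} (e : ep t b ∈ U) : ep b t = ep t b := by
  rw [← h.inv_U e]; simp only [ep]; group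

theorem ep_sq {t b : G} (hb : b ∈ T) (e : ep t b ∈ U) : ep t (b * b) = 1 := by
  rw [h.ep_mul_right hb e, h.sq _ e]

theorem ep_U {t u : G} (ht : t ∈ T) (hu : u ∈ U) : ep t u = 1 := ep_eq_one.2 (h.cen t ht u hu)

theorem sq_mul {x y : G} (hx : x ∈ T) (e : ep y x ∈ U) : x * y * (x * y) = ep y x * (x * x) * (y * y) := by
  calc _ = x * ep y x * x⁻¹ * (x * x) * (y * y) := by simp only [ep]; group
    _ = _ := by rw [h.cjU hx e]

/-- semilinearity of the commutator map -/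
theorem semi {t b : G} (ht : t ∈ T) (hb : b ∈ T) (hN : ep (t * a t * a (a t)) b = 1)
    (nb : b * a b * a (a b) = 1) (p : ep t b ∈ U) (q : ep t (a b) ∈ U) :
    ep t (a b) = a (a (ep t b)) := by
  have e0 : a (a b) = (b * a b)⁻¹ := eq_inv_of_mul_eq_one_right nb
  have e1 : ep t (b * a b) = ep t b * ep t (a b) := h.ep_mul_right hb q
  have e2 : ep (a t) b = a (ep t b * ep t (a b)) := by
    rw [← e1, ← h.ep_inv_right (mul_mem hb (h.aT b hb)) (e1 ▸ mul_mem p q), ← e0, map_ep, h.a3 b hb]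
  have e3 : ep (a (a t)) b = a (a (ep t (a b))) := by rw [map_ep, map_ep, h.a3 b hb]
  rw [h.ep_mul_left (mul_mem ht (h.aT t ht)) hb (e3 ▸ h.aU _ (h.aU _ q)),
    h.ep_mul_left ht hb (e2 ▸ h.aU _ (mul_mem p q)), e2, e3, map_mul, ← mul_assoc, h.mulU p, mul_assoc,
    h.mulU (h.aU _ q), h.a3 _ (h.UT q)] at hN
  rw [← inv_eq_of_mul_eq_one_right hN, h.inv_U (h.aU _ (h.aU _ p))]

end Ctx

/-- a self-centralizing invariant abelian subgroup of `T` -/
structure Ab (S T U B : Subgroup G) (a : G →* G) : Prop where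
  UB : U ≤ B
  BT : B ≤ T
  comm : ∀ x ∈ B, ∀ y ∈ B, x * y = y * x
  nB : ∀ g ∈ S, ∀ x ∈ B, g * x * g⁻¹ ∈ B
  aB : ∀ x ∈ B, a x ∈ B

variable {S T U B : Subgroup G} {a : G →* G} {s z : G}

theorem Ctx.om (h : Ctx S T U a s z) (hB : Ab S T U B a) {b : G} (hb : b ∈ B) (e : b * b = 1) : b ∈ U :=
  h.kt' (J := fun x => x ∈ B ∧ x * x = 1) (fun _ hx => hB.BT hx.1)
    (fun g hg x hx => ⟨hB.nB g hg x hx.1, by rw [conj_mul, hx.2]; simp⟩) (fun _ hx => hx.2)
    (fun x y hx hy => hB.comm x hx.1 y hy.1) ⟨hb, e⟩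

theorem Ctx.exists_pow (h : Ctx S T U a s z) {x : G} (hx : x ∈ S) : ∃ k, x ^ 2 ^ k = 1 := by
  obtain ⟨k, e⟩ := h.p2 ⟨x, hx⟩
  exact ⟨k, congrArg Subtype.val e⟩

theorem Ctx.exists_last (h : Ctx S T U a s z) {P : G → Prop} (h1 : P 1) {x : G} (hx : x ∈ S) (hP : ¬ P x) :
    ∃ k, ¬ P (x ^ 2 ^ k) ∧ P (x ^ 2 ^ k * x ^ 2 ^ k) := by
  obtain ⟨k, e⟩ := h.exists_pow hx
  by_contra hn
  push Not at hn
  have : ∀ k, ¬ P (x ^ 2 ^ k) := fun k => by
    induction k with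
    | zero => simpa using hP
    | succ k ih => rw [pow_succ, pow_mul, pow_two]; exact hn k ih
  exact this k (e ▸ h1)

theorem Ctx.fixB (h : Ctx S T U a s z) (hB : Ab S T U B a) {b : G} (hb : b ∈ B) (e : a b = b) : b = 1 := by
  by_contra h1
  obtain ⟨k, e1, e2⟩ := h.exists_last (P := (· = 1)) rfl (h.TS (hB.BT hb)) h1
  exact e1 (h.fixU (h.om hB (pow_mem hb _) e2) (by rw [map_pow, e]))

theorem Ab.sup (hB : Ab S T U B a) {Y : Set G} (YT : ∀ y ∈ Y, y ∈ T) (cB : ∀ y ∈ Y, ∀ b ∈ B, b * y = y * b)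
    (cY : ∀ y ∈ Y, ∀ y' ∈ Y, y * y' = y' * y) (nY : ∀ g ∈ S, ∀ y ∈ Y, g * y * g⁻¹ ∈ closure (B ∪ Y))
    (aY : ∀ y ∈ Y, a y ∈ closure (B ∪ Y)) : Ab S T U (closure (B ∪ Y)) a := by
  have hc : ∀ x ∈ (B ∪ Y : Set G), ∀ y ∈ (B ∪ Y : Set G), x * y = y * x := by
    rintro x (hx | hx) y (hy | hy)
    exacts [hB.comm x hx y hy, cB y hy x hx, (cB x hx y hy).symm, cY x hx y hy]
  have h1 : closure (B ∪ Y : Set G) ≤ centralizer (B ∪ Y) := (closure_le _).2 fun x hx y hy => hc y hy x hx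
  have h3 : closure (B ∪ Y : Set G) ≤ centralizer (closure (B ∪ Y : Set G) : Set G) :=
    (closure_le _).2 fun x hx y hy => (h1 hy x hx).symm
  refine ⟨fun u hu => subset_closure (Or.inl (hB.UB hu)),
    (closure_le _).2 fun x hx => hx.elim (hB.BT ·) (YT x), fun x hx y hy => h3 hy x hx,
    fun g hg x hx => ?_, fun x hx => ?_⟩
  · exact (closure_le ((closure (B ∪ Y : Set G)).comap (MulAut.conj g).toMonoidHom)).2
      (fun x hx => hx.elim (fun hx => subset_closure (Or.inl (hB.nB g hg x hx))) (nY g hg x)) hx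
  · exact (closure_le ((closure (B ∪ Y : Set G)).comap a)).2
      (fun x hx => hx.elim (fun hx => subset_closure (Or.inl (hB.aB x hx))) (aY x)) hx

/-- the elements centralizing `B` and `T / B` -/
def C1 (hB : Ab S T U B a) (TS : T ≤ S) : Subgroup G where
  carrier := {x | x ∈ T ∧ (∀ b ∈ B, b * x = x * b) ∧ ∀ t ∈ T, x⁻¹ * (t * x * t⁻¹) ∈ B}
  one_mem' := ⟨one_mem _, by simp, by simp⟩
  mul_mem' := fun {x y} hx hy => ⟨mul_mem hx.1 hy.1,
    fun b hb => by rw [← mul_assoc, hx.2.1 b hb, mul_assoc, hy.2.1 b hb, mul_assoc], fun t ht => by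
      convert mul_mem (hB.nB _ (TS (inv_mem hy.1)) _ (hx.2.2 t ht)) (hy.2.2 t ht) using 1; group⟩
  inv_mem' := fun {x} hx => ⟨inv_mem hx.1,
    fun b hb => by rw [eq_inv_mul_iff_mul_eq, ← mul_assoc, ← hx.2.1 b hb, mul_inv_cancel_right], fun t ht => by
      convert hB.nB _ (TS hx.1) _ (inv_mem (hx.2.2 t ht)) using 1; group⟩

/-- the elements fixed by `a` modulo `B` -/
def Fx (hB : Ab S T U B a) (TS : T ≤ S) : Subgroup G where
  carrier := {x | x ∈ T ∧ x⁻¹ * a x ∈ B}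
  one_mem' := ⟨one_mem _, by simp⟩
  mul_mem' := fun {x y} hx hy => ⟨mul_mem hx.1 hy.1, by
    convert mul_mem (hB.nB _ (TS (inv_mem hy.1)) _ hx.2) hy.2 using 1; rw [map_mul]; group⟩
  inv_mem' := fun {x} hx => ⟨inv_mem hx.1, by
    convert hB.nB _ (TS hx.1) _ (inv_mem hx.2) using 1; rw [map_inv]; group⟩

theorem Ctx.s_Fx (h : Ctx S T U a s z) (hB : Ab S T U B a) {x : G} (hx : x ∈ Fx hB h.TS) :
    s * x * s⁻¹ ∈ Fx hB h.TS := by
  refine ⟨h.nT s h.hs x hx.1, ?_⟩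
  rcases h.sa with e | e <;> rw [e x hx.1]
  · convert hB.nB s h.hs _ hx.2 using 1; group
  · convert hB.nB s h.hs _ (mul_mem hx.2 (hB.aB _ hx.2)) using 1
    rw [map_mul, map_inv]; group

theorem Ctx.conj_Fx (h : Ctx S T U a s z) (hB : Ab S T U B a) {x y : G} (hx : x ∈ Fx hB h.TS)
    (e : x⁻¹ * y ∈ B) : y ∈ Fx hB h.TS := by
  have : x⁻¹ * y ∈ Fx hB h.TS := ⟨hB.BT e, mul_mem (inv_mem e) (hB.aB _ e)⟩
  simpa using mul_mem hx this

theorem Ctx.exists_Ab [Finite G] (h : Ctx S T U a s z) :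
    ∃ B, Ab S T U B a ∧ ∀ t ∈ T, (∀ b ∈ B, b * t = t * b) → t ∈ B := by
  obtain ⟨B, hB, hm⟩ := (Set.toFinite {B | Ab S T U B a}).exists_maximal
    ⟨U, le_rfl, h.UT, fun x hx => h.cen x (h.UT hx), h.nU, h.aU⟩
  refine ⟨B, hB, fun t ht hc => by_contra fun htB => ?_⟩
  have key : ∀ Y : Set G, Ab S T U (closure (B ∪ Y)) a → ∀ y ∈ Y, y ∈ B := fun Y hY y hy =>
    hm hY (fun _ hx => subset_closure (Or.inl hx)) (subset_closure (Or.inr hy))
  have nC : ∀ g ∈ S, ∀ x, (∀ b ∈ B, b * x = x * b) → ∀ b ∈ B, b * (g * x * g⁻¹) = g * x * g⁻¹ * b :=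
    fun g hg x hx b hb => by
      calc _ = g * (g⁻¹ * b * g⁻¹⁻¹ * x) * g⁻¹ := by group
        _ = _ := by rw [hx _ (hB.nB _ (inv_mem hg) b hb)]; group
  obtain ⟨x, hx, hxB, -, hx'⟩ := step (B := B) (F := T ⊓ centralizer B) h.p2
    (le_inf hB.BT fun x hx y hy => hB.comm y hy x hx) (inf_le_left.trans h.TS) hB.nB
    (fun g hg x hx => ⟨h.nT g hg x hx.1, nC g hg x hx.2⟩) fun e => htB (e ⟨ht, hc⟩)
  have B1 : B ≤ C1 hB h.TS := fun b hb => ⟨hB.BT hb, fun c hc => hB.comm c hc b hb, fun t ht =>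
    mul_mem (inv_mem hb) (hB.nB t (h.TS ht) b hb)⟩
  have n1 : ∀ g ∈ S, ∀ x ∈ C1 hB h.TS, g * x * g⁻¹ ∈ C1 hB h.TS := fun g hg x hx =>
    ⟨h.nT g hg x hx.1, nC g hg x hx.2.1, fun t ht => by
      convert hB.nB g hg _ (hx.2.2 _ (h.nT _ (inv_mem hg) t ht)) using 1; group⟩
  have a1 : ∀ x ∈ C1 hB h.TS, a x ∈ C1 hB h.TS := fun x hx => ⟨h.aT x hx.1, fun b hb => by
      rw [← h.a3 b (hB.BT hb), ← map_mul, ← map_mul, hx.2.1 _ (hB.aB _ (hB.aB b hb))], fun t ht => by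
      have := hB.aB _ (hx.2.2 _ (h.aT _ (h.aT t ht)))
      rwa [map_mul, map_mul, map_mul, map_inv, map_inv, h.a3 t ht] at this⟩
  have mk : ∀ {Y : Set G} {y w : G}, y ∈ Y → y⁻¹ * w ∈ B → w ∈ closure (B ∪ Y : Set G) := fun {Y y w} hy e => by
    have := (closure (B ∪ Y : Set G)).mul_mem (subset_closure (Or.inr hy)) (subset_closure (Or.inl e))
    rwa [mul_inv_cancel_left] at this
  by_cases hF : C1 hB h.TS ⊓ Fx hB h.TS ≤ B
  · obtain ⟨y, hy, hyB, -, hy'⟩ := step h.p2 B1 (fun _ hx => h.TS hx.1) hB.nB n1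
      fun e => hxB (e ⟨hx.1, hx.2, fun t ht => hx' t (h.TS ht)⟩)
    have y1 := a1 y hy
    have y2 := a1 _ y1
    have y3 := mul_mem (mul_mem hy y1) y2
    have hN : y * a y * a (a y) ∈ B := hF ⟨y3, y3.1, by
      have := y3.2.2 _ (inv_mem hy.1)
      rwa [map_mul, map_mul, h.a3 y hy.1, show a y * a (a y) * y = y⁻¹ * (y * a y * a (a y)) * y⁻¹⁻¹ by group]⟩
    have d : ep y (a y) ∈ B := by
      convert hB.nB _ (h.TS y1.1) _ (y1.2.2 y hy.1) using 1; simp only [ep]; group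
    have c : y * a y = a y * y := ep_eq_one.1 (h.fixB hB d (by
      rw [map_ep, ep_aux (y1.2.1 _ hN) (hy.2.1 _ d) (y1.2.1 _ d), inv_mul_cancel_left]))
    have m2 : a (a y) ∈ closure (B ∪ {y, a y} : Set G) := by
      have := mul_mem (inv_mem (mul_mem (subset_closure (k := B ∪ {y, a y}) (Or.inr (Or.inl rfl)))
        (subset_closure (Or.inr (Or.inr rfl))))) (subset_closure (Or.inl hN))
      rwa [inv_mul_cancel_left] at this
    refine hyB (key {y, a y} (hB.sup ?_ ?_ ?_ ?_ ?_) y (Or.inl rfl))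
    · rintro _ (rfl | rfl); exacts [hy.1, y1.1]
    · rintro _ (rfl | rfl); exacts [hy.2.1, y1.2.1]
    · rintro _ (rfl | rfl) _ (rfl | rfl); exacts [rfl, c, c.symm, rfl]
    · rintro g hg _ (rfl | rfl)
      · exact mk (Or.inl rfl) (hy' g hg)
      · rcases h.cov g hg with e | e
        · exact mk (Or.inr rfl) (y1.2.2 g e)
        · have e1 := hB.nB s h.hs _ (y1.2.2 _ e)
          have e2 := hB.aB _ (hy' s h.hs)
          have e3 := hB.aB _ e2
          have e4 := h.a3 y hy.1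
          rw [map_mul, map_inv] at e2
          rw [map_mul, map_mul, map_inv, map_inv] at e3
          rcases h.sa with k | k
          · rw [k y hy.1] at e2
            exact mk (Or.inr rfl) (by convert mul_mem e2 e1 using 1; group)
          · rw [k y hy.1, k _ y2.1, e4] at e3
            have := mul_mem m2 (subset_closure (Or.inl (mul_mem e3 e1)))
            convert this using 1; group
    · rintro _ (rfl | rfl)
      · exact subset_closure (Or.inr (Or.inr rfl))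
      · exact m2
  · obtain ⟨y, hy, hyB, -, hy'⟩ := step h.p2
      (le_inf B1 (show B ≤ Fx hB h.TS from fun b hb => ⟨hB.BT hb, mul_mem (inv_mem hb) (hB.aB b hb)⟩)) (fun _ hx => h.TS hx.1.1) hB.nB
      (h.inv_of (J := (· ∈ C1 hB h.TS ⊓ Fx hB h.TS))
        (fun g hg x hx => ⟨n1 g (h.TS hg) x hx.1, h.conj_Fx hB hx.2 (hx.1.2.2 g hg)⟩)
        fun x hx => ⟨n1 s h.hs x hx.1, h.s_Fx hB hx.2⟩) hF
    refine hyB (key {y} (hB.sup ?_ ?_ ?_ ?_ ?_) y rfl)
    · rintro _ rfl; exact hy.1.1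
    · rintro _ rfl; exact hy.1.2.1
    · rintro _ rfl _ rfl; rfl
    · rintro g hg _ rfl; exact mk rfl (hy' g hg)
    · rintro _ rfl; exact mk rfl hy.2.2

end CL.NE
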