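/- Involutions in the four groups `2^(1+4)_-.S₄`. -/
import Cfsg.Agent.SYL.P34Fr
import Cfsg.Agent.SYL.P34T00
import Cfsg.Agent.SYL.P34T01
import Cfsg.Agent.SYL.P34T10
import Cfsg.Agent.SYL.P34T11
import Cfsg.Agent.SPOR.A10.JCore

set_option autoImplicit false
set_option maxRecDepth 100000
set_option synthInstance.maxSize 2000

namespace CL.P34

open CL.LX CL.CE CL.Reg CL.A10 Equiv

variable {G : Type*} [Group G]

/-- facts on the involutions of the model -/
structure Fct {K : Type*} [Group K] (z e a : K) : Prop where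
  f0 : z * z = 1 ∧ z ≠ 1 ∧ e * e = 1 ∧ e ≠ 1 ∧ e ≠ z
  f1 : ∀ y, y * y = 1 → ∃ w, w * y = y * w ∧ w * w = z
  f2 : ∀ y, y * y = 1 → (∀ w, w * w ≠ y) ∨ y = 1 ∨ y = z ∨ (∃ h, h * e = y * h) ∨ ∃ h, h * a = y * h
  f3 : ∀ r, r * r = 1 → r = 1 ∨ r = z ∨ ∃ h, h * r = r * z * h
  f4 : a = e ∨ (e * a = a * e ∧ ∃ h, h * a = e * a * h)

theorem cj_of {K : Type*} [Group K] (φ : K →* G) {a b : K} (h : ∃ h, h * a = b * h) :
    IsConj (φ a) (φ b) := let ⟨c, h⟩ := h; φ.map_isConj (isConj_iff.2 ⟨c, mul_inv_eq_of_eq_mul h⟩)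

namespace Fct

variable {K : Type*} [Group K] {φ : K →* G} {z e a : K} (F : Fct z e a) (M : Mdl φ z)
include M

theorem pull {k : G} {y w : K} (hk : k * φ y * k⁻¹ = φ z) (h : w * y = y * w) :
    ∃ r, φ r = k * φ w * k⁻¹ := M.cent _ (by rw [← hk, comm_conj, M.comm_iff, h])

include F

theorem sq_of {y : K} (h : IsConj (φ z) (φ y)) : y * y = 1 := M.inj (by
  obtain ⟨k, hk⟩ := isConj_iff.1 h
  rw [map_mul, ← hk, conj_mul, ← map_mul, F.f0.1]; simp)

theorem root {y : K} (h : IsConj (φ z) (φ y)) : ∃ w, w * w = y := by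
  obtain ⟨k, hk⟩ := isConj_iff.1 h.symm
  obtain ⟨s, hs⟩ := pull M hk (M.comm y).symm
  obtain ⟨w, h1, h2⟩ := F.f1 s (F.sq_of M (isConj_iff.2 ⟨k, hs.symm⟩))
  obtain ⟨r, hr⟩ := pull M (k := k⁻¹) (by rw [hs]; group) h1
  exact ⟨r, M.inj (by rw [map_mul, hr, conj_mul, ← map_mul, h2, ← hk]; group)⟩

theorem of_a (h : IsConj (φ z) (φ a)) : IsConj (φ z) (φ e) := by
  rcases F.f4 with rfl | ⟨h1, h2⟩
  · exact h
  obtain ⟨k, hk⟩ := isConj_iff.1 h.symm
  obtain ⟨r, hr⟩ := pull M hk h1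
  have h3 : IsConj (φ e) (φ r) := isConj_iff.2 ⟨k, hr.symm⟩
  rcases F.f3 r (M.inj (by rw [map_mul, hr, conj_mul, ← map_mul, F.f0.2.2.1]; simp)) with
    rfl | rfl | h4
  · exact absurd (M.inj (by simpa using h3)) F.f0.2.2.2.1
  · exact h3.symm
  · exact ((h.trans (cj_of φ h2)).trans (isConj_iff.2 ⟨k, by
      rw [map_mul, map_mul, hr, ← hk, conj_mul]⟩)).trans (h3.trans (cj_of φ h4)).symm

theorem cases {y : K} (h : IsConj (φ z) (φ y)) :
    y = z ∨ (∃ h, h * e = y * h) ∨ ∃ h, h * a = y * h :=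
  ((F.f2 y (F.sq_of M h)).resolve_left fun k => let ⟨w, hw⟩ := F.root M h; k w hw).resolve_left
    fun k => F.f0.2.1 (M.inj (by simpa [k] using h))

theorem conj_e {k : G} (hk : Commute (φ z) (k * φ z * k⁻¹)) (hn : k * φ z * k⁻¹ ≠ φ z) :
    IsConj (φ z) (φ e) := by
  obtain ⟨y, hy⟩ := M.cent _ hk.symm.eq
  have h : IsConj (φ z) (φ y) := isConj_iff.2 ⟨k, hy.symm⟩
  rcases F.cases M h with rfl | h1 | h1
  exacts [absurd hy.symm hn, h.trans (cj_of φ h1).symm, F.of_a M (h.trans (cj_of φ h1).symm)]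

theorem not_conj [Finite K] (h : IsConj (φ z) (φ e))
    (h1 : ∀ y : K, y * y = 1 → y = 1 ∨ y = z ∨ {w | w * w = y}.ncard ≤ 12)
    (h2 : 12 < {w | w * e = e * w ∧ w * w = z}.ncard) : False := by
  obtain ⟨k, hk⟩ := isConj_iff.1 h.symm
  obtain ⟨s, hs⟩ := pull M hk (M.comm e).symm
  choose! f hf using fun w => pull M hk (w := w)
  rcases h1 s (F.sq_of M (isConj_iff.2 ⟨k, hs.symm⟩)) with rfl | rfl | h3
  · exact F.f0.2.1 (M.inj (by simpa using hs.symm))
  · exact F.f0.2.2.2.2 (M.inj (by simpa using hk.trans hs))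
  refine absurd (h2.trans_le (Set.ncard_le_ncard_of_injOn (t := {w | w * w = s}) f (fun w hw => M.inj ?_)
    fun v hv w hw l => M.inj ?_)) h3.not_gt
  · rw [map_mul, hf w hw.1, conj_mul, ← map_mul, hw.2, hs]
  · simpa [hf v hv.1, hf w hw.1] using congrArg φ l

end Fct

namespace H00
noncomputable def z : H := RG.mk' H_good (nat_lit 1)
noncomputable def e : H := RG.mk' H_good (nat_lit 158)
noncomputable def a : H := RG.mk' H_good (nat_lit 41)
noncomputable def qq (i : Fin 5) : H := RG.wd H_good [i.val % 4 + 1]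
theorem wd_z : RG.wd H_good [0] = z := by decide +kernel
theorem ker_chk : ∀ k : H, k = 1 ∨ k = z ∨ ∃ i, (fun r => r = z ∨ ∃ j, r * qq j * r⁻¹ * qq j = z)
    (RG.mk' H_good (k * qq i * k⁻¹ * qq i).val) := by decide +kernel
theorem fct : Fct z e a :=
  ⟨by decide +kernel, by decide +kernel, by decide +kernel, by decide +kernel, by decide +kernel⟩
end H00

namespace H01
noncomputable def z : H := RG.mk' H_good (nat_lit 1)
noncomputable def e : H := RG.mk' H_good (nat_lit 158)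
noncomputable def a : H := RG.mk' H_good (nat_lit 158)
noncomputable def qq (i : Fin 5) : H := RG.wd H_good [i.val % 4 + 1]
theorem wd_z : RG.wd H_good [0] = z := by decide +kernel
theorem ker_chk : ∀ k : H, k = 1 ∨ k = z ∨ ∃ i, (fun r => r = z ∨ ∃ j, r * qq j * r⁻¹ * qq j = z)
    (RG.mk' H_good (k * qq i * k⁻¹ * qq i).val) := by decide +kernel
theorem fct : Fct z e a :=
  ⟨by decide +kernel, by decide +kernel, by decide +kernel, by decide +kernel, by decide +kernel⟩
theorem cnt : (∀ y : H, y * y = 1 → y = 1 ∨ y = z ∨ RG.count (fun w => w * w = y) ≤ 12) ∧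
    12 < RG.count (fun w => w * e = e * w ∧ w * w = z) := by decide +kernel
end H01

namespace H10
noncomputable def z : H := RG.mk' H_good (nat_lit 1)
noncomputable def e : H := RG.mk' H_good (nat_lit 158)
noncomputable def a : H := RG.mk' H_good (nat_lit 54)
noncomputable def qq (i : Fin 5) : H := RG.wd H_good [i.val % 4 + 1]
theorem wd_z : RG.wd H_good [0] = z := by decide +kernel
theorem ker_chk : ∀ k : H, k = 1 ∨ k = z ∨ ∃ i, (fun r => r = z ∨ ∃ j, r * qq j * r⁻¹ * qq j = z)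
    (RG.mk' H_good (k * qq i * k⁻¹ * qq i).val) := by decide +kernel
theorem fct : Fct z e a :=
  ⟨by decide +kernel, by decide +kernel, by decide +kernel, by decide +kernel, by decide +kernel⟩
theorem cnt : (∀ y : H, y * y = 1 → y = 1 ∨ y = z ∨ RG.count (fun w => w * w = y) ≤ 12) ∧
    12 < RG.count (fun w => w * e = e * w ∧ w * w = z) := by decide +kernel
end H10

namespace H11
noncomputable def z : H := RG.mk' H_good (nat_lit 1)
noncomputable def e : H := RG.mk' H_good (nat_lit 158)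
noncomputable def a : H := RG.mk' H_good (nat_lit 158)
noncomputable def qq (i : Fin 5) : H := RG.wd H_good [i.val % 4 + 1]
theorem wd_z : RG.wd H_good [0] = z := by decide +kernel
theorem ker_chk : ∀ k : H, k = 1 ∨ k = z ∨ ∃ i, (fun r => r = z ∨ ∃ j, r * qq j * r⁻¹ * qq j = z)
    (RG.mk' H_good (k * qq i * k⁻¹ * qq i).val) := by decide +kernel
theorem fct : Fct z e a :=
  ⟨by decide +kernel, by decide +kernel, by decide +kernel, by decide +kernel, by decide +kernel⟩
theorem cnt : (∀ y : H, y * y = 1 → y = 1 ∨ y = z ∨ RG.count (fun w => w * w = y) ≤ 12) ∧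
    12 < RG.count (fun w => w * e = e * w ∧ w * w = z) := by decide +kernel
end H11

end CL.P34
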