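/- The centraliser `2^(1+4)_-.S₄` of an involution is one of four explicit groups; three of them
force the involution to be isolated. -/
import Cfsg.Agent.SYL.P34Fct

set_option autoImplicit false
set_option maxRecDepth 100000
set_option synthInstance.maxSize 2000

namespace CL.P34

open CL.LX CL.CE CL.Reg CL.A10 Equiv

variable {G : Type*} [Group G]

variable {z a b c : G} {q : Fin 4 → G}

theorem Cox.mul (h : Cox z q a b c) : Cox z q (a * z) b c ∧ Cox z q a b (c * z) := by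
  have k : ∀ u y : G, y * z = z * y → u * z * y * (u * z)⁻¹ = u * y * u⁻¹ := fun u y e => by
    rw [mul_assoc u, ← e]; group
  exact ⟨{ h with za := by rw [← mul_assoc, h.za], qa := fun i => by rw [k _ _ (h.zq i), h.qa] },
    { h with zc := by rw [← mul_assoc, h.zc], qc := fun i => by rw [k _ _ (h.zq i), h.qc] }⟩

theorem Cox.pow (h : Cox z q a b c) {w : G} {τ : Perm (Fin 4)} (h1 : w * z = z * w)
    (h2 : ∀ i, w * q i * w⁻¹ = q (τ i)) {n : ℕ} (hn : τ ^ n = 1) : w ^ n = 1 ∨ w ^ n = z := by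
  have : ∀ n i, w ^ n * q i * (w ^ n)⁻¹ = q ((τ ^ n) i) := fun n => by
    induction n with
    | zero => simp
    | succ n ih => intro i; rw [pow_succ τ, Perm.mul_apply, ← ih, ← h2, pow_succ]; group
  exact h.cen _ ((show Commute w z from h1).pow_left n) fun i => by rw [this, hn]; rfl

theorem Cox.pow₂ (h : Cox z q a b c) {u v : G} {σ τ : Perm (Fin 4)} (h1 : u * z = z * u)
    (h2 : ∀ i, u * q i * u⁻¹ = q (σ i)) (h3 : v * z = z * v) (h4 : ∀ i, v * q i * v⁻¹ = q (τ i))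
    {n : ℕ} (hn : (σ * τ) ^ n = 1) : (u * v) ^ n = 1 ∨ (u * v) ^ n = z :=
  h.pow ((show Commute u z from h1).mul_left h3) (fun i => by
    rw [Perm.mul_apply, ← h2, ← h4]; group) hn

theorem Cox.norm (h : Cox z q a b c) : ∃ a c, Cox z q a b c ∧ (a * b) ^ 3 = 1 ∧ (b * c) ^ 3 = 1 := by
  have k : ∀ u : G, u * z = z * u → u ^ 3 = z → (u * z) ^ 3 = 1 := fun u e l => by
    rw [(show Commute u z from e).mul_pow, l, pow_succ', ← mul_assoc, h.z2, pow_two, h.z2, one_mul]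
  obtain ⟨a, h, e⟩ : ∃ a, Cox z q a b c ∧ (a * b) ^ 3 = 1 := by
    rcases h.pow₂ h.za h.qa h.zb h.qb (n := 3) (by decide) with e | e
    exacts [⟨a, h, e⟩, ⟨_, h.mul.1, by
      rw [mul_assoc, ← h.zb, ← mul_assoc, k _ ((show Commute a z from h.za).mul_left h.zb) e]⟩]
  rcases h.pow₂ h.zb h.qb h.zc h.qc (n := 3) (by decide) with l | l
  exacts [⟨a, c, h, e, l⟩, ⟨a, _, h.mul.2, e, by
    rw [← mul_assoc, k _ ((show Commute b z from h.zb).mul_left h.zc) l]⟩]

theorem sq_eq_of_braid {u v : G} (h2 : z * z = 1) (hv : v * z = z * v)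
    (h3 : (u * v) ^ 3 = 1) (e1 : u ^ 2 = 1 ∨ u ^ 2 = z) (e2 : v ^ 2 = 1 ∨ v ^ 2 = z)
    (hu : u * z = z * u) : u ^ 2 = v ^ 2 := by
  have c : ∀ {x y : G}, x * z = z * x → y = 1 ∨ y = z → Commute x y := by
    rintro x _ e (rfl | rfl); exacts [Commute.one_right _, e]
  have s : ∀ {y : G}, y = 1 ∨ y = z → y⁻¹ = y := by
    rintro _ (rfl | rfl); exacts [inv_one, inv_eq_of_mul_eq_one_right h2]
  have k : u * v * u * (u * v)⁻¹ = v * u ^ 2 := by
    rw [show u * v * u * (u * v)⁻¹ = (u * v) ^ 3 * (v⁻¹ * (u⁻¹ * (v ^ 2)⁻¹ * u⁻¹)) by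
      simp only [pow_succ]; group, h3, s e2, (c hu e2).inv_left.eq, ← s e1]; group
  rw [← ((c hu e1).mul_left (c hv e1)).mul_inv_cancel, ← conj_pow, k, (c hv e1).mul_pow,
    pow_two (u ^ 2), mul_eq_one_iff_inv_eq.2 (s e1), mul_one]

theorem Cox.rel (h : Cox z q a b c) {u : G} {i j : Fin 4} (e : u * q i * u⁻¹ = q j) :
    u * (q i * (u⁻¹ * q j)) = 1 := by rw [← h.q2 j]; nth_rewrite 2 [← e]; group

theorem Cox.relz (h : Cox z q a b c) {u : G} (e : u * z = z * u) : z * (u⁻¹ * (z * u)) = 1 := by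
  rw [← e, inv_mul_cancel_left, h.z2]

theorem Cox.zq' (h : Cox z q a b c) (i : Fin 4) : z * (q i * (z * q i)) = 1 := by
  rw [← h.zq, ← mul_assoc (q i), h.q2, one_mul, h.z2]

theorem Cox.le (h : Cox z q a b c) : gen (lets [z, q 0, q 1, q 2, q 3, a, a⁻¹, b, b⁻¹, c, c⁻¹])
    [[0], [1], [2], [3], [4], [5], [6], [7], [8], [9], [10]] ≤ Subgroup.centralizer {z} :=
  gen_le_iff.2 (by
    have m := fun {u : G} => (Subgroup.mem_centralizer_singleton_iff (g := z) (k := u)).2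
    simp [ev, lets, m h.za, m h.zb, m h.zc, m (h.zq _), m rfl])

theorem Cox.evq (h : Cox z q a b c) (i : Fin 5) :
    (fun u => u * u = 1) (ev (lets [z, q 0, q 1, q 2, q 3, a, a⁻¹, b, b⁻¹, c, c⁻¹]) [i.val % 4 + 1]) := by
  fin_cases i <;> simp [ev, lets, h.q2]

set_option hygiene false in
local macro "p34_mdl " iv:term:max R:ident hom:term:max wz:term:max kc:term:max qq:ident
    r1:term:max r2:term:max r3:term:max r4:term:max : tactic => `(tactic| (
  have hP : Pres (lets [z, q 0, q 1, q 2, q 3, a, a⁻¹, b, b⁻¹, c, c⁻¹]) $iv $R := by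
    refine pres_lets _ ?_ rfl (by decide +kernel)
    simp only [$R:ident, List.forall_mem_cons, List.not_mem_nil, ev, lets, List.map,
      List.getD_cons_zero, List.getD_cons_succ, List.prod_cons, List.prod_nil, mul_one,
      IsEmpty.forall_iff, implies_true, and_true, mul_inv_cancel, inv_mul_cancel, true_and]
    exact ⟨h.z2, h.q2 0, h.q2 1, h.q2 2, h.q2 3, h.zq' 0, h.zq' 1, h.zq' 2, h.zq' 3,
      h.an 0 1 (by decide), h.an 0 2 (by decide), h.an 0 3 (by decide), h.an 1 2 (by decide),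
      h.an 1 3 (by decide), h.an 2 3 (by decide), h.relz h.za, h.rel (h.qa 0), h.rel (h.qa 1),
      h.rel (h.qa 2), h.rel (h.qa 3), $r1, h.relz h.zb, h.rel (h.qb 0), h.rel (h.qb 1),
      h.rel (h.qb 2), h.rel (h.qb 3), $r2, h.relz h.zc, h.rel (h.qc 0), h.rel (h.qc 1),
      h.rel (h.qc 2), h.rel (h.qc 3), $r3, t hab, t hbc, $r4⟩
  obtain ⟨φ, hφ, hw⟩ := $hom hP
  have φz : φ _ = z := $wz ▸ (hw [0] (by decide)).trans (by simp [ev, lets])
  have hinj := inj_of_chk φ (φz ▸ hz) (by simpa only [RG.mk'_val] using $kc)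
    fun i => by rw [$qq:ident, hw _ (by revert i; decide)]; exact h.evq i
  have M := mdl_of hinj (Subgroup.eq_of_le_of_card_ge (hφ ▸ h.le) (by
    rw [hC, ← Nat.card_congr (MonoidHom.ofInjective hinj).toEquiv, RG.card]; rfl)) φz))

/-- A non-isolated involution with centraliser `2^(1+4)_-.S₄` has the centraliser `H00.H`. -/
theorem Cox.pin [Finite G] (h : Cox z q a b c) (hz : z ≠ 1)
    (hC : Nat.card (Subgroup.centralizer {z}) = 768) {k : G} (hk : Commute z (k * z * k⁻¹))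
    (hn : k * z * k⁻¹ ≠ z) :
    ∃ φ : H00.H →* G, Mdl φ H00.z ∧ φ H00.z = z ∧ IsConj z (φ H00.e) := by
  obtain ⟨a, c, h, hab, hbc⟩ := h.norm
  have ea := h.pow h.za h.qa (n := 2) (by decide)
  have eb := h.pow h.zb h.qb (n := 2) (by decide)
  have ec := h.pow h.zc h.qc (n := 2) (by decide)
  have e1 := sq_eq_of_braid h.z2 h.zb hab ea eb h.za
  have e2 := sq_eq_of_braid h.z2 h.zc hbc eb ec h.zb
  have t : ∀ {u v : G}, (u * v) ^ 3 = 1 → u * (v * (u * (v * (u * v)))) = 1 := fun e => by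
    rw [← e]; simp only [pow_succ]; group
  have s0 : ∀ {u : G}, u ^ 2 = 1 → u * u = 1 := fun e => by rw [← e, pow_two]
  have s1 : ∀ {u : G}, u ^ 2 = z → u * (u * z) = 1 := fun e => by
    rw [← mul_assoc, ← pow_two, e, h.z2]
  have s2 : ∀ {u v : G}, (u * v) ^ 2 = 1 → u * (v * (u * v)) = 1 := fun e => by
    rw [← mul_assoc, s0 e]
  have s3 : ∀ {u v : G}, (u * v) ^ 2 = z → u * (v * (u * (v * z))) = 1 := fun e => by
    simpa only [mul_assoc] using s1 e
  rcases ea with ea | ea <;>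
    rcases h.pow₂ h.za h.qa h.zc h.qc (n := 2) (by decide) with l | l
  · p34_mdl H00.iv H00.Rels H00.H_hom H00.wd_z H00.ker_chk H00.qq (s0 ea) (s0 (e1 ▸ ea))
      (s0 (e2 ▸ e1 ▸ ea)) (s2 l)
    subst φz
    exact ⟨φ, M, rfl, H00.fct.conj_e M hk hn⟩
  · p34_mdl H01.iv H01.Rels H01.H_hom H01.wd_z H01.ker_chk H01.qq (s0 ea) (s0 (e1 ▸ ea))
      (s0 (e2 ▸ e1 ▸ ea)) (s3 l)
    subst φz
    exact (H01.fct.not_conj M (H01.fct.conj_e M hk hn) (by simpa only [RG.ncard_eq] using H01.cnt.1)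
      (by simpa only [RG.ncard_eq] using H01.cnt.2)).elim
  · p34_mdl H10.iv H10.Rels H10.H_hom H10.wd_z H10.ker_chk H10.qq (s1 ea) (s1 (e1 ▸ ea))
      (s1 (e2 ▸ e1 ▸ ea)) (s2 l)
    subst φz
    exact (H10.fct.not_conj M (H10.fct.conj_e M hk hn) (by simpa only [RG.ncard_eq] using H10.cnt.1)
      (by simpa only [RG.ncard_eq] using H10.cnt.2)).elim
  · p34_mdl H11.iv H11.Rels H11.H_hom H11.wd_z H11.ker_chk H11.qq (s1 ea) (s1 (e1 ▸ ea))
      (s1 (e2 ▸ e1 ▸ ea)) (s3 l)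
    subst φz
    exact (H11.fct.not_conj M (H11.fct.conj_e M hk hn) (by simpa only [RG.ncard_eq] using H11.cnt.1)
      (by simpa only [RG.ncard_eq] using H11.cnt.2)).elim

end CL.P34
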