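/- Computations in the centraliser of an inner involution of `Aut PSL₃(4)`. -/
import Cfsg.Agent.SYL.P34Pin

set_option autoImplicit false
set_option maxRecDepth 100000
set_option synthInstance.maxSize 2000

namespace CL.P34.H00

open CL.CE CL.Reg CL.A10

noncomputable abbrev el (i : ℕ) : H := RG.mk' H_good i
noncomputable def x : H := el (nat_lit 5)
noncomputable def f : H := el (nat_lit 6)
noncomputable def c : H := el (nat_lit 37)
noncomputable def b : H := el (nat_lit 167)

def msk (m : ℕ) (h : H) : Prop := Nat.testBit m h.val = true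

instance decMsk (m : ℕ) (h : H) : Decidable (msk m h) := inferInstanceAs (Decidable (_ = true))

/-- a subgroup given by a bit mask -/
def sub (m : ℕ) (h : msk m 1 ∧ ∀ u, msk m u → msk m u⁻¹ ∧ ∀ v, msk m v → msk m (u * v)) :
    Subgroup H :=
  ⟨⟨⟨{u | msk m u}, fun hu => (h.2 _ hu).2 _⟩, h.1⟩, fun hu => (h.2 _ hu).1⟩

def mA : ℕ := nat_lit 0xc00000000000202000000000000000000000000200100000000000000000000000000000400800000000000000000000000000000000000000001000000080000000000000000000000000044000000000000000000000000400020000000003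
def mB : ℕ := nat_lit 0x28210000000000000000000000000000000000000400000808000000000010000000000000000000000000000000000000000000000000000000000000040000200000000100000000844000000000000000000000000000000000000003
def mT : ℕ := nat_lit 0xc000fe230204202000000000000000000000000200108420210808010020200010000800400800000000000000000000000000000000000000001000000080042100210801010100200400844000000000000000000000000400021c71c70003

noncomputable def A : Subgroup H := sub mA (by decide +kernel)
noncomputable def B : Subgroup H := sub mB (by decide +kernel)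
noncomputable def T : Subgroup H := sub mT (by decide +kernel)

instance decA (h : H) : Decidable (h ∈ A) := decMsk mA h
instance decB (h : H) : Decidable (h ∈ B) := decMsk mB h
instance decT (h : H) : Decidable (h ∈ T) := decMsk mT h

theorem card_A : Nat.card A = 16 := (RG.ncard_eq (· ∈ A)).trans (by decide +kernel)
theorem card_T : Nat.card T = 64 := (RG.ncard_eq (· ∈ T)).trans (by decide +kernel)

/-- the centre of `T` -/
abbrev U (w : H) : Prop := w = 1 ∨ w = z ∨ w = e ∨ w = e * z

theorem cls : ∀ w : H, w * w = 1 → w ∈ A ∨ w ∈ B ∨ (∃ h, h * w = c * h) ∨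
    (w * e ≠ e * w ∧ ∃ h, h * w = f * h ∨ h * w = x * h) := by decide +kernel
theorem cls_AB : ∀ w : H, w ∈ A ∨ w ∈ B → w ∈ T ∧ w * w = 1 ∧ (U w ∨ ∃ h, h * a = w * h) := by
  decide +kernel
theorem cls_e : ∀ h : H, (h * e = e * h ∨ h * e = e * z * h) ∧
    Xor (h * x * e = e * (h * x)) (h * e = e * h) := by decide +kernel
theorem ez : ∃ h : H, h * e = e * z * h := by decide +kernel
theorem nsq : ∀ w : H, w * w ≠ x ∧ w * w ≠ f ∧ w * w ≠ c := by decide +kernel
theorem inv2 : x * x = 1 ∧ f * f = 1 ∧ c * c = 1 ∧ x ≠ 1 ∧ f ≠ 1 ∧ c ≠ 1 := by decide +kernel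

/-- `C(y)` has exponent four and centre `⟨z, y⟩` -/
abbrev Sm (y : H) : Prop := ∀ u : H, u * y = y * u → u * u * (u * u) = 1 ∧
  ((∀ w, w * y = y * w → w * u = u * w) → u = 1 ∨ u = z ∨ ∃ h, h * u = y * h)

theorem sm_c : Sm c := by decide +kernel
theorem sm_a : Sm a := by decide +kernel
theorem eight : (∃ r, r * x = x * r ∧ r * r * (r * r) = z) ∧
    (∃ r, r * f = f * r ∧ r * r * (r * r) = z) ∧ (∃ r, r * r = a) ∧
    ∃ r, r * r = e ∧ ∀ u, U u → u * r * (u * r) = e := by decide +kernel
theorem wds : RG.wd H_good [5] = f ∧ RG.wd H_good [4, 5] = c := by decide +kernel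
theorem g1 : ∀ w : H, w * w = 1 ∨ w * e * (w * e) = 1 ∨ (w * w = z ∧ w * e = e * w) ∨
    ∃ h ∈ [el (nat_lit 189), el (nat_lit 6), el (nat_lit 271), el (nat_lit 7)],
      (fun k => (k * k = 1 ∧ ¬ U k) ∨ k * k = e) (el (w * (h * w⁻¹ * h⁻¹)).val) := by decide +kernel
theorem g2 : ∃ h : H, ∀ w : H, w * w = e →
    (fun k => k * k = 1 ∧ ¬ U k) (el (w * (h * w⁻¹ * h⁻¹)).val) := ⟨el (nat_lit 77), by decide +kernel⟩
theorem g3 : ∀ w, U w → U (w * e) ∧ w * e = e * w := by decide +kernel
theorem g4 : ∀ w : H, (fun v => v * v * (v * v) * (v * v * (v * v)) = 1) (el (w * w * w).val) ∧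
    ((fun v => v * v * (v * v) = 1) (el (w * w).val) → ∃ t ∈ T, w * t * (w * t) = 1) := by
  decide +kernel
theorem prod : ∀ t ∈ T, (∃ u ∈ A, u⁻¹ * t ∈ B) ∧ (t * t = 1 → t ∈ A ∨ t ∈ B) ∧
    (t * b = b * t ∨ ∃ u ∈ T, t * (u * t⁻¹ * u⁻¹) = z) := by decide +kernel
theorem ab : a ∈ A ∧ a ∉ B ∧ b ∈ B ∧ b ∉ A ∧ a * b ≠ b * a ∧ ∃ h, h * a = b * h := by decide +kernel

end CL.P34.H00
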