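/- Fusion and transfer in a group with the involution centraliser of `Aut PSL₃(4)`. -/
import Cfsg.Agent.SYL.P34Dec
import Cfsg.Agent.TECH.SylIn
import Cfsg.Agent.INV.ThompsonTransfer
import Cfsg.Agent.INV.IndexTwo

set_option autoImplicit false
set_option maxRecDepth 100000

namespace CL.P34.H00

open CL.CE CL.Reg CL.A10 CL.MSS Subgroup

theorem mem_of_index_two {N G : Type*} [Group N] [Group G] [Group.IsPerfect N] (j : N →* G)
    {K : Subgroup G} (hK : K.index = 2) (n : N) : j n ∈ K :=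
  (Group.IsPerfect.commutator_eq_top (G := N)).ge.trans (b := _root_.commutator N)
    (c := K.comap j) (commutator_le.2 fun u _ v _ => by
      simp only [mem_comap, commutatorElement_def, map_mul, map_inv, mul_mem_iff_of_index_two hK,
        inv_mem_iff]; tauto) trivial

noncomputable def W : Subgroup H := sub 3 (by decide +kernel)
instance decW (h : H) : Decidable (h ∈ W) := decMsk 3 h
theorem W_spec : ∀ w : H, (w ∈ W → w = 1 ∨ w = z) ∧ (U w → Xor (w * e ∈ W) (w ∈ W)) := by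
  decide +kernel

theorem exists_sign : ∃ l : H →* ℤˣ, l f = -1 ∧ l c = -1 := by
  obtain ⟨l, -, h⟩ := H_hom (g := lets [1, 1, 1, 1, 1, -1, -1, -1, -1, -1, (-1 : ℤˣ)])
    (pres_lets _ (by decide) rfl (by decide +kernel))
  exact ⟨l, wds.1 ▸ h _ rfl, wds.2 ▸ h _ rfl⟩

variable {G : Type*} [Group G] [Finite G] {φ : H →* G} (M : Mdl φ z)
include M

theorem syl {y : H} (hy : Sm y) (hz : ¬ IsConj (φ z) (φ y)) {r : G} (hr : r * φ y = φ y * r)
    (h2 : r ^ 2 ^ 3 = 1) : ∃ g w, w * y = y * w ∧ g * φ y * g⁻¹ = φ y ∧ g * r * g⁻¹ = φ w := by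
  have m := fun {u v : H} => mem_centralizer_singleton_iff (g := u) (k := v)
  have m' := fun {u v : G} => mem_centralizer_singleton_iff (g := u) (k := v)
  have hP : IsPGroup 2 ((centralizer {y}).map φ) := IsPGroup.map (fun u => ⟨2, Subtype.ext (by
    simpa [pow_succ, mul_assoc] using (hy u (m.1 u.2)).1)⟩) φ
  obtain ⟨g, hg, h⟩ := ((sylIn_self hP).of_normalizer_le (H := centralizer {φ y}) (by
    rintro _ ⟨u, hu, rfl⟩; exact m'.2 (M.comm_iff.2 (m.1 hu))) fun n ⟨h1, h2⟩ => by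
      obtain ⟨u, hu, e⟩ := (mem_normalizer_iff.1 h2 _).1 ⟨z, m.2 (M.comm y).symm, rfl⟩
      rcases (hy u (m.1 hu)).2 fun w hw => by
        obtain ⟨v, -, l⟩ := (mem_normalizer_iff''.1 h2 _).1 ⟨w, m.2 hw, rfl⟩
        rw [← M.comm_iff, e, show φ w = n * φ v * n⁻¹ by rw [l]; group, comm_conj, M.comm']
        with rfl | rfl | l
      · exact absurd (M.inj (by simpa using e.symm)) fct.f0.2.1
      · obtain ⟨v, rfl⟩ := M.cent n (mul_inv_eq_iff_eq_mul.1 e.symm)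
        exact ⟨v, m.2 (M.comm_iff.1 (m'.1 h1)), rfl⟩
      · exact absurd ((isConj_iff.2 ⟨n, e.symm⟩).trans (cj_of φ l)) hz).exists_conj_le
    (R := zpowers r) (IsPGroup.of_card_dvd_pow (n := 3) (by
      rw [Nat.card_zpowers]; exact orderOf_dvd_of_pow_eq_one h2)) (zpowers_le.2 (m'.2 hr))
  obtain ⟨w, hw, e⟩ := h (conj_mem_cj (mem_zpowers r))
  exact ⟨g, w, m.1 hw, mul_inv_eq_of_eq_mul (m'.1 hg), e.symm⟩

theorem no8 {y v : H} (hy : Sm y) (hz : ¬ IsConj (φ z) (φ y))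
    (h8 : ∃ r, r * v = v * r ∧ r * r * (r * r) = z) : ¬ IsConj (φ v) (φ y) := fun h => by
  obtain ⟨r, h1, h2⟩ := h8
  obtain ⟨k, hk⟩ := isConj_iff.1 h
  have h3 : φ r ^ 4 = φ z := by rw [← h2]; simp [pow_succ, mul_assoc]
  obtain ⟨g, w, h4, -, h5⟩ := syl M hy hz (r := k * φ r * k⁻¹) (by rw [← hk, comm_conj, M.comm_iff, h1])
    (by rw [conj_pow, show 2 ^ 3 = 4 + 4 from rfl, pow_add, h3, ← map_mul, fct.f0.1]; simp)
  have h6 : φ w ^ 4 = 1 := by simpa [pow_succ, mul_assoc] using congrArg φ (hy w h4).1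
  rw [← h5, conj_pow, conj_pow, h3] at h6
  exact fct.f0.2.1 (M.inj (by simpa using h6))

omit [Finite G] in
theorem nz {y : H} (hy : y = x ∨ y = f ∨ y = c) : ¬ IsConj (φ z) (φ y) := fun h => by
  obtain ⟨w, hw⟩ := fct.root M h
  rcases hy with rfl | rfl | rfl
  exacts [(nsq w).1 hw, (nsq w).2.1 hw, (nsq w).2.2 hw]

theorem na {y : H} (hy : y = x ∨ y = f ∨ y = c) : ¬ IsConj (φ y) (φ a) := fun h => by
  have h1 : ¬ IsConj (φ z) (φ a) := fun k => nz M hy (k.trans h.symm)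
  rcases hy with rfl | rfl | rfl
  · exact no8 M sm_a h1 eight.1 h
  · exact no8 M sm_a h1 eight.2.1 h
  obtain ⟨r, hr⟩ := eight.2.2.1
  obtain ⟨k, hk⟩ := isConj_iff.1 h.symm
  have h2 : k * φ r * k⁻¹ * (k * φ r * k⁻¹) = φ c := by rw [conj_mul, ← map_mul, hr, hk]
  obtain ⟨g, w, -, h4, h5⟩ := syl M sm_c (nz M (.inr (.inr rfl))) (r := k * φ r * k⁻¹)
    (by rw [← h2]; group) (by
      rw [show 2 ^ 3 = 2 * 2 * 2 from rfl, pow_mul, pow_mul, pow_two (_ * _), h2, pow_two (φ c),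
        ← map_mul, inv2.2.2.1]; simp)
  exact (nsq w).2.2 (M.inj (by rw [map_mul, ← h5, conj_mul, h2, h4]))

variable (hk : IsConj (φ z) (φ e))
include hk

theorem nAB {y : H} (hy : y = x ∨ y = f ∨ y = c) {w : H} (hw : w ∈ A ∨ w ∈ B) :
    ¬ IsConj (φ y) (φ w) := fun h => by
  rcases (cls_AB w hw).2.2 with (rfl | rfl | rfl | rfl) | l
  · obtain rfl : y = 1 := M.inj (by simpa using h)
    have := inv2; grind
  exacts [nz M hy h.symm, nz M hy (hk.trans h.symm), nz M hy ((hk.trans (cj_of φ ez)).trans h.symm),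
    na M hy (h.trans (cj_of φ l).symm)]

variable {S : Subgroup G} (hS : SylIn 2 S ⊤) (hS' : S ≤ φ.range) {N : Subgroup G} [hN : N.Normal]
  [Group.IsPerfect N]
include hS hS'

theorem mem_AB {w : H} (hw : w * w = 1) (h : φ w ∈ N) : w ∈ A ∨ w ∈ B := by
  have th : ∀ {V : Subgroup H} {y}, V.index = 2 → y * y = 1 →
      (∀ w ∈ V, w * w = 1 → ¬ IsConj (φ y) (φ w)) → ¬ ∃ h, h * w = y * h := by
    rintro V y hV hy l ⟨u, hu⟩
    obtain ⟨K, -, h1, h2⟩ := CL.ThompsonTransfer.exists_index_two_of_not_conj (V.map φ)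
      (m := φ.range.index) (by rw [index_map_of_injective _ M.inj, hV])
      (Nat.odd_iff.2 (Nat.two_dvd_ne_zero.1 fun k => hS.not_dvd_relIndex
        (relIndex_top_right S ▸ k.trans (index_dvd_of_le hS')))) (u := φ y)
      (by rw [← map_mul, hy, map_one]) fun g ⟨w, hw, e⟩ => l w hw
        (M.inj (by rw [map_mul, e, conj_mul, ← map_mul, hy]; simp)) (isConj_iff.2 ⟨g, e.symm⟩)
    exact h2 (mem_of_index_two N.subtype h1 ⟨φ y, by
      simpa only [← map_inv, ← map_mul, hu, mul_inv_cancel_right] using hN.conj_mem _ h (φ u)⟩)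
  have te : ∀ {y}, y = x ∨ y = f → y * y = 1 → ¬ IsConj (φ y) (φ c) → ¬ ∃ h, h * w = y * h :=
    fun hy h1 h2 => th (V := centralizer {e}) (index_eq_two_iff.2 ⟨x, fun u => by
      simpa only [mem_centralizer_singleton_iff] using (cls_e u).2⟩) h1 fun v hv h3 h4 => by
        rcases cls v h3 with l | l | l | l
        exacts [nAB M hk (by tauto) (.inl l) h4, nAB M hk (by tauto) (.inr l) h4,
          h2 (h4.trans (cj_of φ l)), l.1 (mem_centralizer_singleton_iff.1 hv)]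
  have nc := nz M (.inr (.inr rfl))
  rcases cls w hw with l | l | l | ⟨-, u, l | l⟩
  · exact .inl l
  · exact .inr l
  · obtain ⟨s, h1, h2⟩ := exists_sign
    refine absurd l (th (V := s.ker) (index_eq_two_iff.2 ⟨f, fun u => ?_⟩) inv2.2.2.1
      fun v hv h3 h4 => ?_)
    · rcases Int.units_eq_one_or (s u) with l | l <;> simp [l, h1]
    have k : ∀ {u y}, u * v = y * u → s y = 1 := fun l => by
      simpa [MonoidHom.mem_ker.1 hv] using congr(s $l).symm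
    rcases cls v h3 with l | l | ⟨u, l⟩ | ⟨-, u, l | l⟩
    exacts [nAB M hk (by tauto) (.inl l) h4, nAB M hk (by tauto) (.inr l) h4,
      by simp [k l] at h2, by simp [k l] at h1,
      no8 M sm_c nc eight.1 (h4.trans (cj_of φ ⟨u, l⟩)).symm]
  · exact absurd ⟨u, l⟩ (te (.inr rfl) inv2.2.1 (no8 M sm_c nc eight.2.1))
  · exact absurd ⟨u, l⟩ (te (.inl rfl) inv2.1 (no8 M sm_c nc eight.1))

variable (hz : φ z ∈ N)
include hz

theorem a_mem : φ a ∈ N := by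
  by_contra ha
  obtain ⟨k, hk'⟩ := isConj_iff.1 hk
  have he : φ e ∈ N := hk' ▸ hN.conj_mem _ hz k
  have cm : ∀ {w} h, φ w ∈ N → φ (el (w * (h * w⁻¹ * h⁻¹)).val) ∈ N := fun h hw => by
    simpa [RG.mk'_val] using N.mul_mem hw (hN.conj_mem _ (N.inv_mem hw) (φ h))
  have h1 : ∀ w, φ w ∈ N → w * w = 1 → U w := fun w hw h2 =>
    (cls_AB w (mem_AB M hk hS hS' h2 hw)).2.2.resolve_right fun l => ha (by
      obtain ⟨g, hg⟩ := isConj_iff.1 (cj_of φ l).symm; exact hg ▸ hN.conj_mem _ hw g)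
  have h2 : ∀ w, φ w ∈ N → w * w ≠ e := fun w hw h => let ⟨u, hu⟩ := g2
    (hu w h).2 (h1 _ (cm u hw) (hu w h).1)
  have h3 : ∀ w, φ w ∈ N → U w := fun w hw => by
    rcases g1 w with l | l | ⟨l, l'⟩ | ⟨u, -, l | l⟩
    · exact h1 w hw l
    · simpa [mul_assoc, fct.f0.2.2.1] using (g3 _ (h1 _ (map_mul φ _ _ ▸ N.mul_mem hw he) l)).1
    · obtain ⟨s, hs⟩ := Fct.pull M (k := k⁻¹) (y := e) (by rw [← hk']; group) (M.comm e).symm
      have h4 : φ s ∈ N := hs ▸ hN.conj_mem _ hz _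
      obtain ⟨r, hr⟩ := Fct.pull M (k := k) (y := s) (w := w) (by rw [hs]; group) (by
        rcases h1 s h4 (fct.sq_of M (isConj_iff.2 ⟨_, hs.symm⟩)) with rfl | rfl | rfl | rfl
        exacts [by simp, M.comm w, l', (show Commute w e from l').mul_right (M.comm w)])
      exact absurd (M.inj (by rw [map_mul, hr, conj_mul, ← map_mul, l, hk']))
        (h2 r (hr ▸ hN.conj_mem _ hw k))
    exacts [absurd (h1 _ (cm u hw) l.1) l.2, absurd l (h2 _ (cm u hw))]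
  by_cases h4 : ∀ g : N, g * ⟨_, he⟩ * g⁻¹ ∉ (W.map φ).subgroupOf N
  · obtain ⟨K, h5, h6⟩ := CL.Iso.thompson_transfer_inv (H := φ.range.subgroupOf N)
      (Nat.odd_iff.2 (Nat.two_dvd_ne_zero.1 fun k => (sylIn_inf_subnormal hS
        hN.isSubnormal).not_dvd_relIndex (k.trans (relIndex_dvd_of_le_left N
          (inf_le_left.trans hS')))))
      (relIndex_eq_two_iff.2 ⟨⟨_, he⟩, ⟨e, rfl⟩, fun u ⟨w, hw⟩ => by
        simp only [mem_subgroupOf, coe_mul, show ↑u = φ w from hw.symm, ← map_mul,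
          mem_map_iff_mem M.inj]
        exact (W_spec w).2 (h3 w (hw ▸ u.2))⟩) ⟨e, rfl⟩
      (orderOf_eq_prime (Subtype.ext (by simpa [pow_two] using congrArg φ fct.f0.2.2.1))
        fun l => fct.f0.2.2.2.1 (M.inj (by simpa using congrArg Subtype.val l))) h4
    exact h6 (mem_of_index_two (MonoidHom.id N) h5 _)
  obtain ⟨g, w, hw, l⟩ : ∃ g : N, ∃ w ∈ W, φ w = g * φ e * (g : G)⁻¹ := not_forall_not.1 h4
  obtain rfl : w = z := ((W_spec w).1 hw).resolve_left fun l' =>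
    fct.f0.2.2.2.1 (M.inj (by simpa [l'] using l.symm))
  obtain ⟨i, h5, h6⟩ := eight.2.2.2
  obtain ⟨j, hj⟩ := Fct.pull M l.symm (w := i) (by rw [← h5, mul_assoc])
  have h7 := h6 _ (h3 (j * i⁻¹) (by
    simpa [hj, mul_assoc] using N.mul_mem g.2 (hN.conj_mem _ (N.inv_mem g.2) (φ i))))
  exact fct.f0.2.2.2.2 (M.inj (by
    rw [← h7, inv_mul_cancel_right, map_mul, hj, conj_mul, ← map_mul, h5, l]))

theorem T_le : T.map φ ≤ N := by
  have k : ∀ w, w ∈ A ∨ w ∈ B → φ w ∈ N := fun w hw => by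
    have l : ∀ {u v}, IsConj u v → u ∈ N → v ∈ N := fun h hu =>
      let ⟨g, hg⟩ := isConj_iff.1 h; hg ▸ hN.conj_mem _ hu g
    rcases (cls_AB w hw).2.2 with (rfl | rfl | rfl | rfl) | l'
    exacts [by simp, hz, l hk hz, map_mul φ _ _ ▸ N.mul_mem (l hk hz) hz,
      l (cj_of φ l') (a_mem M hk hS hS' hz)]
  rintro _ ⟨t, ht, rfl⟩
  obtain ⟨u, h1, h2⟩ := (prod t ht).1
  simpa using N.mul_mem (k _ (.inl h1)) (k _ (.inr h2))

theorem syl_T : SylIn 2 (T.map φ) N := by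
  have h := sylIn_inf_subnormal hS hN.isSubnormal
  have h1 := T_le M hk hS hS' hz
  rwa [h.max (T.map φ) ((IsPGroup.of_card (n := 6) card_T).map φ) (fun u hu => ?_) h1]
  obtain ⟨w, rfl⟩ := hS' hu.1
  obtain ⟨n, hn⟩ := h.pgroup ⟨_, hu⟩
  have h2 : w ^ 2 ^ n = 1 := M.inj (by simpa using congrArg Subtype.val hn)
  have h3 : w ^ (3 * 8) = 1 := by simpa [pow_succ, mul_assoc, RG.mk'_val] using (g4 w).1
  have h4 : w ^ 8 = 1 := orderOf_dvd_iff_pow_eq_one.1 (Nat.Coprime.dvd_of_dvd_mul_left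
    (Nat.Coprime.coprime_dvd_left (orderOf_dvd_of_pow_eq_one h2)
      (Nat.Coprime.pow_left n (by decide))) (orderOf_dvd_of_pow_eq_one h3))
  obtain ⟨t, ht, h5⟩ := (g4 w).2 (by simpa [pow_succ, mul_assoc, RG.mk'_val] using h4)
  exact ⟨w, (T.mul_mem_cancel_right ht).1 (cls_AB _ (mem_AB M hk hS hS' h5
    (map_mul φ _ _ ▸ N.mul_mem hu.2 (h1 ⟨t, ht, rfl⟩)))).1, rfl⟩

theorem not_prod {L L' : Subgroup G} (h1 : L ⊓ L' = ⊥) (h2 : ∀ x ∈ L, ∀ y ∈ L', x * y = y * x)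
    (h3 : L ⊔ L' = N) (h4 : φ z ∈ L ↔ φ z ∈ L') : False := by
  have nm : ∀ {L L' : Subgroup G}, (∀ x ∈ L, ∀ y ∈ L', x * y = y * x) → L' ≤ normalizer L :=
    fun h2 y hy => centralizer_le_normalizer _ fun x hx => h2 x hx y hy
  have key : ∀ {L L' : Subgroup G}, (∀ x ∈ L, ∀ y ∈ L', x * y = y * x) → L ⊔ L' = N →
      ∀ n ∈ N, ∀ l ∈ L, n * l * n⁻¹ ∈ L := fun {L L'} h2 h3 n hn l =>
    (mem_normalizer_iff.1 (sup_le le_normalizer (nm h2) (h3.ge hn)) l).1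
  have h2' := fun x hx y hy => (h2 y hy x hx).symm
  have h3' := (sup_comm _ _).trans h3
  have key2 : ∀ {L L' : Subgroup G}, (∀ x ∈ L, ∀ y ∈ L', x * y = y * x) → L ⊔ L' = N → φ z ∉ L →
      ∀ l ∈ L, l * φ z = φ z * l → l * l = 1 → Commute l (φ b) := fun {L L'} h2 h3 h4 l hl h5 h6 => by
    obtain ⟨w, rfl⟩ := M.cent l h5
    rcases (prod w (cls_AB w (mem_AB M hk hS hS' (M.inj (by simpa using h6))
      (h3 ▸ mem_sup_left hl))).1).2.2 with k | ⟨u, hu, k⟩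
    · exact M.comm_iff.2 k
    · exact absurd (by simpa [← k] using L.mul_mem hl (key h2 h3 _
        (T_le M hk hS hS' hz ⟨u, hu, rfl⟩) _ (L.inv_mem hl))) h4
  have h5 : φ z ∉ L := fun k => fct.f0.2.1 (M.inj (by simpa using h1.le ⟨k, h4.1 k⟩))
  have uq : ∀ {u u' v v'}, u ∈ L → u' ∈ L → v ∈ L' → v' ∈ L' → u * v = u' * v' → u = u' ∧ v = v' :=
    fun {u u' v v'} a1 a2 a3 a4 e => by
      have : u = u' := (inv_mul_eq_one.1 (h1.le ⟨L.mul_mem (L.inv_mem a2) a1, by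
        rw [show u'⁻¹ * u = v' * v⁻¹ by rw [eq_mul_inv_of_mul_eq e]; group]
        exact L'.mul_mem a4 (L'.inv_mem a3)⟩)).symm
      exact ⟨this, by simpa [this] using e⟩
  obtain ⟨l, hl, m, hm, e⟩ := (mem_sup_of_normalizes_left (nm h2)).1 (h3.ge (a_mem M hk hS hS' hz))
  have h6 := uq (key h2 h3 _ hz l hl) hl (key h2' h3' _ hz m hm) hm (by
    rw [conj_mul, e, ← M.comm', mul_inv_cancel_right])
  have h7 := uq (L.mul_mem hl hl) L.one_mem (L'.mul_mem hm hm) L'.one_mem (by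
    rw [(show Commute l m from h2 l hl m hm).mul_mul_mul_comm, e, ← map_mul,
      (cls_AB a (.inl ab.1)).2.1]; simp)
  exact ab.2.2.2.2.1 (M.comm_iff.1 (e ▸ (key2 h2 h3 h5 l hl (mul_inv_eq_iff_eq_mul.1 h6.1).symm
    h7.1).mul_left (key2 h2' h3' (h4.not.1 h5) m hm (mul_inv_eq_iff_eq_mul.1 h6.2).symm h7.2)))

end CL.P34.H00
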