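import Cfsg.Agent.SYL.NEy2
import Cfsg.Agent.S0215

/-!
No normal elementary abelian subgroup of order eight, the normal four-group not fused, the centralizers
of its involutions 2-constrained: this does not occur in a simple group with 2-rank at least three.
-/

set_option autoImplicit false
set_option linter.unusedSectionVars false

namespace CL.NE

open Subgroup CL.MSS CL.PComp Cfsg
open scoped commutatorElement

variable {G : Type*} [Group G] [Finite G] {S T U : Subgroup G} {z t u v x y : G}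

theorem nx_c0 {Z : Subgroup G} (e : x * y = y * x) : ⁅x, y⁆ ∈ Z := by
  rw [commutatorElement_eq_one_iff_mul_comm.2 e]; exact one_mem _

theorem nx_sup {A : Subgroup G} (t2 : t * t = 1) (c : t ∈ centralizer (A : Set G)) :
    x ∈ A ⊔ zpowers t ↔ x ∈ A ∨ x * t ∈ A := by
  rw [mem_sup_of_normalizes_left (zpowers_le.2 (centralizer_le_normalizer _ c))]
  refine ⟨?_, fun h => h.elim (fun h => ⟨x, h, 1, one_mem _, mul_one x⟩) fun h =>
    ⟨_, h, t, mem_zpowers t, by rw [mul_assoc, t2, mul_one]⟩⟩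
  rintro ⟨a, ha, y, hy, rfl⟩
  rcases (nx_zp t2).1 hy with rfl | rfl
  · exact Or.inl (by rwa [mul_one])
  · exact Or.inr (by rwa [mul_assoc, t2, mul_one])

theorem nx_sup2 {A : Subgroup G} (h2 : ∀ a ∈ A, a * a = 1) (t2 : t * t = 1) (c : t ∈ centralizer (A : Set G)) :
    ∀ x ∈ A ⊔ zpowers t, x * x = 1 := fun x hx => by
  refine ((nx_sup t2 c).1 hx).elim (h2 x) fun h => ?_
  have e : x * t = t * x := mul_right_cancel (b := t) (by rw [c _ h, mul_assoc])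
  have := h2 _ h
  rwa [mul_assoc, ← mul_assoc t, ← e, mul_assoc, t2, mul_one] at this

namespace NX

variable (h : NX S U z)
include h

theorem zc' {g : G} (hg : g * z = z * g) (x : G) : g * (z * x) * g⁻¹ = z * (g * x * g⁻¹) := by
  rw [← conj_mul, nx_cj hg]

theorem nzx (x : G) : z * x ≠ x := fun e => h.z1 (mul_eq_right.1 e)

/-- An involution of `C(z)` does not move `U` to a commuting conjugate unless the third four-group is
conjugate too. -/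
theorem l1 (hv : v ∈ U) (v1 : v ≠ 1) (vz : v ≠ z) {f : G} (fz : f * z = z * f)
    (f2 : f * f = 1) (n : f * v * f⁻¹ ∉ U) (c : v * (f * v * f⁻¹) = f * v * f⁻¹ * v)
    (hn : ∀ k, k * z = z * k → k * v * k⁻¹ ≠ v * (f * v * f⁻¹) ∧ k * v * k⁻¹ ≠ z * (v * (f * v * f⁻¹))) :
    False := by
  have vc : ∀ f, f * z = z * f → v * (f * v * f⁻¹) = f * v * f⁻¹ * v → f * v * f⁻¹ ∈ centralizer (U : Set G) :=
    fun f fz c => h.cen hv v1 vz (by simpa only [nx_cj fz] using nx_cjc f (h.cm hv h.zU)) c.symm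
  wlog hS : f * v * f⁻¹ ∈ S generalizing f
  · obtain ⟨x, hx, e⟩ := ((h.sylT hv v1 vz).of_le inf_le_right fun g hg =>
      mem_centralizer_singleton_iff.2 (hg v hv).symm).exists_conj_le (nx_p2 (nx_cj2 f (h.sq v hv)))
      (zpowers_le.2 (vc f fz c))
    have xv := nx_cj (hx v hv).symm
    have xz := (hx z h.zU).symm
    have e1 : x * f * x⁻¹ * v * (x * f * x⁻¹)⁻¹ = x * (f * v * f⁻¹) * x⁻¹ := by
      conv_lhs => rw [← xv]
      group
    refine this (f := x * f * x⁻¹) (by simpa only [nx_cj xz] using nx_cjc x fz) (nx_cj2 x f2) (fun c => n ?_)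
      (by simpa only [xv, e1] using nx_cjc x c) (fun k hk => ?_) (e1 ▸ (e (conj_mem_cj (mem_zpowers _))).1)
    · rw [e1] at c
      have := nx_cj (inv_mem hx _ c).symm
      rwa [← this, show x⁻¹ * (x * (f * v * f⁻¹) * x⁻¹) * x⁻¹⁻¹ = f * v * f⁻¹ by group] at c
    · have := hn (x⁻¹ * k) (Commute.mul_left (Commute.inv_left xz) hk).eq
      rw [show x⁻¹ * k * v * (x⁻¹ * k)⁻¹ = x⁻¹ * (k * v * k⁻¹) * x⁻¹⁻¹ by group] at this
      have e2 : x⁻¹ * (v * (x * (f * v * f⁻¹) * x⁻¹)) * x⁻¹⁻¹ = v * (f * v * f⁻¹) := by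
        nth_rewrite 1 [← xv]
        group
      rw [e1]
      exact ⟨fun e => this.1 (by rw [e, e2]), fun e => this.2 (by rw [e, h.zc' (Commute.inv_left xz).eq, e2])⟩
  have cU := vc f fz c
  obtain ⟨v', ev⟩ : ∃ v', f * v * f⁻¹ = v' := ⟨_, rfl⟩
  rw [ev] at n c hn hS cU
  have v2 := h.sq v hv
  have v'2 : v' * v' = 1 := ev ▸ nx_cj2 f v2
  obtain ⟨Q, N, QS, SN, Nz, NQ, c1, c2⟩ := nx_con h.z2 (h.con z h.zU h.z1) h.sylz
  have Nz' : ∀ n ∈ N, n * z = z * n := fun n hn => mem_centralizer_singleton_iff.1 (Nz hn)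
  have vQ : v ∈ Q := c1 v (h.US hv) fun q hq => nx_cms (h.cmU (QS hq) hv)
  obtain ⟨Ω, hΩ⟩ : ∃ Ω : Set G, ∀ x, x ∈ Ω ↔ ∃ n ∈ N, n * v * n⁻¹ = x := ⟨{x | _}, fun _ => Iff.rfl⟩
  have ΩQ : ∀ x ∈ Ω, x ∈ Q := fun x hx => by
    obtain ⟨n, hn, rfl⟩ := (hΩ x).1 hx
    exact conj_mem_of_normalizes NQ hn vQ
  have ΩN : ∀ n ∈ N, ∀ x ∈ Ω, n * x * n⁻¹ ∈ Ω := fun n hn x hx => by
    obtain ⟨m, hm, rfl⟩ := (hΩ x).1 hx
    exact (hΩ _).2 ⟨n * m, mul_mem hn hm, by group⟩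
  have Ω2 : ∀ x ∈ Ω, x * x = 1 := fun x hx => by
    obtain ⟨n, -, rfl⟩ := (hΩ x).1 hx
    exact nx_cj2 n v2
  have Ωc : ∀ x ∈ Ω, ∀ y ∈ Ω, ⁅x, y⁆ ∈ zpowers z := fun x hx y hy => by
    obtain ⟨n, hn, rfl⟩ := (hΩ y).1 hy
    have := conj_mem_cj (g := n) (h.cmU (QS (conj_mem_of_normalizes' NQ hn (ΩQ x hx))) hv)
    rw [cj_zpowers, nx_cj (Nz' n hn)] at this
    convert this using 1
    group
  have vΩ : v ∈ Ω := (hΩ v).2 ⟨1, one_mem _, by simp⟩
  have v'Ω : v' ∈ Ω := (hΩ _).2 (ev ▸ c2 v vQ f (mem_centralizer_singleton_iff.2 fz) (ev ▸ hS))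
  obtain ⟨a, ha, av⟩ : ∃ a ∈ Ω, a ∉ centralizer (U : Set G) := by
    by_contra hn
    push Not at hn
    refine n (h.kt' (J := fun x => x ∈ Ω) (fun x hx => ⟨QS (ΩQ x hx), hn x hx⟩) (fun g hg => ΩN g (SN hg)) Ω2
      (fun x y hx hy => ?_) v'Ω)
    obtain ⟨n, hn', rfl⟩ := (hΩ y).1 hy
    simpa [mul_assoc] using (nx_cjc n (hn _ (ΩN _ (inv_mem hn') x hx) v hv)).symm
  have WS : closure (insert z Ω) ≤ S := (closure_le _).2 (by
    rintro x (rfl | hx); exacts [h.US h.zU, QS (ΩQ x hx)])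
  have k1 := h.r4 (K := insert z Ω) (h.p2.to_le WS) h.z2 (Or.inl rfl) (fun x hx => h.zc x (WS (subset_closure hx)))
    (by rintro x (rfl | hx); exacts [h.z2, Ω2 x hx]) (by
      rintro x (rfl | hx) y hy
      · exact nx_c0 (h.zc y (WS (subset_closure hy))).symm
      rcases hy with rfl | hy
      exacts [nx_c0 (h.zc x (QS (ΩQ x hx))), Ωc x hx y hy])
  let B := closure (insert z Ω) ⊓ (S ⊓ centralizer (U : Set G))
  have k2 : 2 * Nat.card B ≤ Nat.card (closure (insert z Ω)) :=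
    two_mul_card_le (inf_le_left : B ≤ _) fun c => av (c (subset_closure (Or.inr ha))).2.2
  have Bn : ∀ g ∈ S, ∀ b ∈ B, g * b * g⁻¹ ∈ B := fun g hg b hb => ⟨nx_clos (by
    rintro x (rfl | hx); exacts [Or.inl (nx_cj (h.zc g hg)), Or.inr (ΩN g (SN hg) x hx)]) hb.1, h.nT g hg b hb.2⟩
  have UB : U ≤ B := fun x hx => ⟨by
    have m1 : z ∈ closure (insert z Ω) := subset_closure (Or.inl rfl)
    have m2 : v ∈ closure (insert z Ω) := subset_closure (Or.inr vΩ)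
    rcases h.cases hv v1 vz hx with rfl | rfl | rfl | rfl
    exacts [one_mem _, m1, m2, mul_mem m1 m2], h.UT hx⟩
  have v'B : v' ∈ B := ⟨subset_closure (Or.inr v'Ω), hS, cU⟩
  let B₁ : Subgroup G :=
    { carrier := {b | b ∈ B ∧ ∀ g ∈ S, b⁻¹ * (g * b * g⁻¹) ∈ U}
      one_mem' := ⟨one_mem _, fun g _ => by simp⟩
      mul_mem' := fun {a b} ha hb => ⟨mul_mem ha.1 hb.1, fun g hg => by
        convert mul_mem (h.nU _ (inv_mem hb.1.2.1) _ (ha.2 g hg)) (hb.2 g hg) using 1; group⟩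
      inv_mem' := fun {a} ha => ⟨inv_mem ha.1, fun g hg => by
        convert h.nU _ ha.1.2.1 _ (inv_mem (ha.2 g hg)) using 1; group⟩ }
  have UB₁ : U ≤ B₁ := fun x hx => ⟨UB hx, fun g hg => mul_mem (inv_mem hx) (h.nU g hg x hx)⟩
  have A2 := nx_sup2 h.sq v'2 cU
  have mA : ∀ x, x ∈ U ⊔ zpowers v' ↔ x ∈ U ∨ x * v' ∈ U := fun x => nx_sup v'2 cU
  have v'A : v' ∈ U ⊔ zpowers v' := mem_sup_right (mem_zpowers _)
  have nA : ∀ g : G, (∀ x ∈ U, g * x * g⁻¹ ∈ U ⊔ zpowers v') → g * v' * g⁻¹ ∈ U ⊔ zpowers v' →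
      g ∈ normalizer ((U ⊔ zpowers v' : Subgroup G) : Set G) := fun g h1 h2 =>
    mem_normalizer_of_cj_le (by rw [cj_sup, cj_zpowers]; exact sup_le (cj_le_iff_forall.2 h1) (zpowers_le.2 h2))
  have nA' : ∀ g ∈ S, v'⁻¹ * (g * v' * g⁻¹) ∈ U → g ∈ normalizer ((U ⊔ zpowers v' : Subgroup G) : Set G) :=
    fun g hg e => nA g (fun x hx => mem_sup_left (h.nU g hg x hx))
      ((mul_mem_cancel_left (inv_mem v'A)).1 (mem_sup_left e))
  have A8 := two_mul_card_le (le_sup_left : U ≤ U ⊔ zpowers v') fun c => n (c v'A)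
  have U4 := h.kl.card_four
  have v'B₁ : v' ∉ B₁ := fun c => by
    have := h.k4 _ (sup_le h.US (zpowers_le.2 hS))
      (fun g hg x hx => conj_mem_of_normalizes (H := normalizer _) le_rfl (nA' g hg (c.2 g hg)) hx) A2
    omega
  obtain ⟨y, y1, y2, -, y3⟩ := step h.p2 UB (fun x hx => hx.2.1) h.nU Bn fun c => n (c v'B)
  have k3 : 2 * Nat.card U ≤ Nat.card B₁ := two_mul_card_le UB₁ fun c => y2 (c ⟨y1, y3⟩)
  have k4 : 2 * Nat.card B₁ ≤ Nat.card B :=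
    two_mul_card_le (show B₁ ≤ B from fun _ hx => hx.1) fun c => v'B₁ (c v'B)
  have k5 : ∀ g ∈ S, v'⁻¹ * (g * v' * g⁻¹) ∈ B₁ := fun g hg =>
    nx_cov (A := B₁) (B := B) (fun _ hx => hx.1) (by omega) v'B (Bn g hg _ v'B) v'B₁ fun c => v'B₁ (by
      convert mul_mem c (UB₁ (c.2 _ (inv_mem hg))) using 1; group)
  have k6 : Nat.card S ≤ 2 * Nat.card (S ⊓ normalizer ((U ⊔ zpowers v' : Subgroup G) : Set G) : Subgroup G) :=
    nx_card inf_le_left fun a ha b hb aN bN => ⟨S.mul_mem (S.inv_mem ha) hb, nA' _ (S.mul_mem (S.inv_mem ha) hb) (by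
      have := nx_cov (A := U) (B := B₁) UB₁ (by omega) (k5 a ha) (k5 b hb) (fun c => aN ⟨ha, nA' a ha c⟩) fun c => bN ⟨hb, nA' b hb c⟩
      convert h.nU _ (inv_mem ha) _ this using 1; group)⟩
  obtain ⟨R, hR, R1⟩ := exists_sylIn_ge (h.p2.to_le inf_le_left)
    (inf_le_inf_right (normalizer ((U ⊔ zpowers v' : Subgroup G) : Set G)) h.sylz.le)
  have Az : ∀ x ∈ U ⊔ zpowers v', x * z = z * x := fun x hx => nx_comm A2 hx (mem_sup_left h.zU)
  have R2 : R ≤ S := by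
    by_contra c
    obtain ⟨g, -, e⟩ := h.syl.exists_conj (h.syl.of_card_le hR.pgroup le_top
      (k6.trans (two_mul_card_le R1 fun c' => c (c'.trans inf_le_left))))
    have := (h.cj g).k4 _ (e ▸ hR.le_of_normalized (nx_el A2) (le_inf
      (fun x hx => mem_centralizer_singleton_iff.2 (Az x hx)) le_normalizer) (hR.le.trans inf_le_right))
      (fun k hk x hx => conj_mem_of_normalizes (hR.le.trans inf_le_right) (e ▸ hk) hx) A2
    omega
  have fA : f ∈ normalizer ((U ⊔ zpowers v' : Subgroup G) : Set G) := nA f (fun x hx => by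
    have m : z ∈ U ⊔ zpowers v' := mem_sup_left h.zU
    rcases h.cases hv v1 vz hx with rfl | rfl | rfl | rfl
    exacts [by simp, by rwa [nx_cj fz], ev ▸ v'A, by rw [h.zc' fz, ev]; exact mul_mem m v'A]) (by
      rw [← ev, show f * (f * v * f⁻¹) * f⁻¹ = f * f * v * (f * f)⁻¹ by group, f2]
      simpa using mem_sup_left hv)
  obtain ⟨x, hx, e⟩ := hR.exists_conj_le (nx_p2 f2) (zpowers_le.2 ⟨mem_centralizer_singleton_iff.2 fz, fA⟩)
  have m := e (conj_mem_cj (mem_zpowers f))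
  have k7 : ∀ s ∈ R, ∀ a ∈ U ⊔ zpowers v', ⁅a, s⁆ ∈ zpowers z := fun s hs a ha => by
    have q1 : U ≤ stz z s := fun a ha => ⟨h.cm ha h.zU, nx_cms (h.cmU (R2 hs) ha)⟩
    refine (sup_le q1 (zpowers_le.2 ⟨Az _ v'A, nx_cms ((nx_cm h.z2).2 ?_)⟩) ha).2
    have q2 := hn (s * f) (Commute.mul_left (h.zc s (R2 hs)) fz).eq
    rw [show s * f * v * (s * f)⁻¹ = s * (f * v * f⁻¹) * s⁻¹ by group, ev] at q2
    rcases (mA _).1 (conj_mem_of_normalizes (hR.le.trans inf_le_right) hs v'A) with q | q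
    · exact (n (by simpa [mul_assoc] using h.nU _ (inv_mem (R2 hs)) _ q)).elim
    have q3 : ∀ y, s * v' * s⁻¹ * v' = y → s * v' * s⁻¹ = y * v' := by
      rintro _ rfl; rw [mul_assoc (s * v' * s⁻¹), v'2, mul_one]
    rcases h.cases hv v1 vz q with q | q | q | q
    · exact Or.inl ((q3 _ q).trans (one_mul _))
    · exact Or.inr (q3 _ q)
    · exact (q2.1 (q3 _ q)).elim
    · exact (q2.2 ((q3 _ q).trans (mul_assoc _ _ _))).elim
  have k8 := conj_mem_cj (g := x⁻¹) (nx_cms (k7 _ m _ (conj_mem_of_normalizes (H := normalizer _) le_rfl hx.2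
    (mem_sup_left hv))))
  rw [cj_zpowers, nx_cj (Commute.inv_left (mem_centralizer_singleton_iff.1 hx.1)).eq,
    show x⁻¹ * ⁅x * f * x⁻¹, x * v * x⁻¹⁆ * x⁻¹⁻¹ = ⁅f, v⁆ by group, nx_cm h.z2, ev] at k8
  exact n (k8.elim (fun e => e ▸ hv) fun e => e ▸ mul_mem h.zU hv)

variable (hG : ∀ H : Subgroup G, H.index ≠ 2)
include hG

theorem pti₀ (hv : v ∈ U) (v1 : v ≠ 1) (vz : v ≠ z) {P : Subgroup G} (hP : IsPGroup 2 P)
    (hc : P ≤ centralizer {v}) (hz : z ∈ P) {k : G} (hk : k * v = v * k) (hk' : k * z * k⁻¹ ∈ P) :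
    k * z * k⁻¹ = z := by
  obtain ⟨x, hx, e⟩ := (h.sylT hv v1 vz).exists_conj_le hP hc
  have xv := mem_centralizer_singleton_iff.1 hx
  have e1 := h.wc hG hv v1 vz xv (e (conj_mem_cj hz))
  have e2 := h.wc hG hv v1 vz (k := x * k) (Commute.mul_left xv hk).eq (by
    convert e (conj_mem_cj hk') using 1; group)
  calc _ = x⁻¹ * (x * k * z * (x * k)⁻¹) * x := by group
    _ = x⁻¹ * (x * z * x⁻¹) * x := by rw [e2, e1]
    _ = _ := by group

theorem pti (hv : v ∈ U) (v1 : v ≠ 1) (vz : v ≠ z) {P : Subgroup G} (hP : IsPGroup 2 P) (hz : z ∈ P)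
    (hx : x ∈ P) (c : x * v = v * x) : x * z = z * x :=
  have m : ∀ y ∈ P, y * v = v * y → y ∈ P ⊓ centralizer {v} := fun _ h1 h2 =>
    ⟨h1, mem_centralizer_singleton_iff.2 h2⟩
  nx_cj' (h.pti₀ hG hv v1 vz (hP.to_le inf_le_left) inf_le_right (m z hz (h.cm h.zU hv)) c
    (mul_mem (mul_mem (m x hx c) (m z hz (h.cm h.zU hv))) (inv_mem (m x hx c))))

theorem meet {g : G} (e : g * z * g⁻¹ = t) (tz : t ≠ z) (c : z * t = t * z) (hv : v ∈ U) (hv' : v ∈ g •ᶜ U) :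
    v = 1 := by
  by_contra v1
  have h' := e ▸ h.cj g
  have vz : v ≠ z := by
    rintro rfl
    exact h'.nc hv' tz.symm (isConj_iff.2 ⟨g, e⟩)
  obtain ⟨v₀, h0, rfl⟩ := mem_cj'.1 hv'
  obtain ⟨s, hs, e1⟩ := h.adj h0 (fun c => v1 (by simp [c])) (fun c => tz (e ▸ h.p0 g (c ▸ hv))) hv
  have e2 : g * s⁻¹ * z * (g * s⁻¹)⁻¹ = t := by
    rw [← e, show g * s⁻¹ * z * (g * s⁻¹)⁻¹ = g * (s⁻¹ * z * s⁻¹⁻¹) * g⁻¹ by group, nx_cj (h.zc _ (inv_mem hs))]
  refine tz (e2 ▸ h.pti₀ hG hv v1 vz (P := closure {z, t}) (nx_el (closure_sq (by simp [h.z2, h'.z2]) (by simp [c])))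
    ((closure_le _).2 ?_) (subset_closure (by simp)) (nx_cj' ?_) (e2 ▸ subset_closure (by simp)))
  · rintro _ (rfl | rfl)
    exacts [mem_centralizer_singleton_iff.2 (h.cm h.zU hv), mem_centralizer_singleton_iff.2 (h'.cm h'.zU hv')]
  · nth_rewrite 1 [← e1]
    group

theorem exists_t {g : G} (hg : g * z * g⁻¹ ∈ S) (ne : g * z * g⁻¹ ≠ z) :
    ∃ g, g * z * g⁻¹ ∈ S ⊓ centralizer (U : Set G) ∧ g * z * g⁻¹ ≠ z := by
  by_contra hn
  have hn : ∀ g, g * z * g⁻¹ ∈ S ⊓ centralizer (U : Set G) → g * z * g⁻¹ = z := fun g h1 =>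
    by_contra fun h2 => hn ⟨g, h1, h2⟩
  obtain ⟨k, et, hk⟩ := h.ext g (h.p2.to_le (inf_le_left (b := centralizer {g * z * g⁻¹}))) inf_le_right
  rw [← et] at hg ne hk
  obtain ⟨t, et⟩ : ∃ t, k * z * k⁻¹ = t := ⟨_, rfl⟩
  have h' := h.cj k
  rw [et] at hg ne hk h'
  have tT : t ∉ S ⊓ centralizer (U : Set G) := fun c => ne (et ▸ hn k (et ▸ c))
  have hn' : ∀ y, IsConj z y → y ∈ k •ᶜ S ⊓ centralizer ((k •ᶜ U : Subgroup G) : Set G) → y = t := fun y hy c => by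
    obtain ⟨a, rfl⟩ := isConj_iff.1 hy
    rw [← cj_centralizer, ← cj_inf, mem_cj] at c
    rw [← et, ← hn (k⁻¹ * a) (by convert c using 1; group)]
    nth_rewrite 1 [hn (k⁻¹ * a) (by convert c using 1; group)]
    group
  set T' := k •ᶜ S ⊓ centralizer ((k •ᶜ U : Subgroup G) : Set G)
  have zT : z ∉ T' := fun c => ne (hn' z (IsConj.refl z) c).symm
  obtain ⟨u, hu, u1, uz⟩ := h.exists_u
  have tz := h.zc t hg
  have zP : z ∈ S ⊓ centralizer {t} := ⟨h.US h.zU, mem_centralizer_singleton_iff.2 tz.symm⟩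
  have tP : t ∈ S ⊓ centralizer {t} := ⟨hg, mem_centralizer_singleton_iff.2 rfl⟩
  have tT' : t ∈ T' := h'.UT h'.zU
  have ut : u * t * u⁻¹ = z * t := ((nx_cm h.z2).1 (nx_cms (h.cmU hg hu))).resolve_left fun e =>
    tT ⟨hg, h.cen hu u1 uz tz (nx_cj' e).symm⟩
  have dec : ∀ y ∈ S ⊓ centralizer {t}, ∃ x ∈ S ⊓ centralizer {t}, x ∈ S ⊓ centralizer (U : Set G) ∧ x ∈ T' ∧
      (y = x ∨ y = z * x ∨ y = t * x ∨ y = z * t * x) := fun y hy => by
    have d1 : ∀ y ∈ S ⊓ centralizer {t}, y ∈ S ⊓ centralizer (U : Set G) → ∃ x ∈ S ⊓ centralizer {t},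
        x ∈ S ⊓ centralizer (U : Set G) ∧ x ∈ T' ∧ (y = x ∨ y = z * x) := fun y hy yT => by
      by_cases c : y ∈ T'
      · exact ⟨y, hy, yT, c, Or.inl rfl⟩
      · exact ⟨z⁻¹ * y, mul_mem (inv_mem zP) hy, mul_mem (inv_mem (h.UT h.zU)) yT,
          h'.cov h'.zU h'.z1 h'.zc (hk zP) (hk hy) zT c, Or.inr (by group)⟩
    by_cases c : y ∈ S ⊓ centralizer (U : Set G)
    · obtain ⟨x, x1, x2, x3, e⟩ := d1 y hy c
      exact ⟨x, x1, x2, x3, e.imp_right Or.inl⟩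
    · obtain ⟨x, x1, x2, x3, e⟩ := d1 _ (mul_mem (inv_mem tP) hy) (h.cov h.zU h.z1 h.zc hg hy.1 tT c)
      refine ⟨x, x1, x2, x3, Or.inr (Or.inr (e.imp (fun e => by rw [← e]; group) fun e => ?_))⟩
      rw [← tz, mul_assoc, ← e]; group
  have zt : IsConj z t := isConj_iff.2 ⟨k, et⟩
  have cl : ∀ a ∈ S, a * t * a⁻¹ ∈ S ⊓ centralizer {t} → ⁅a, t⁆ ∈ zpowers z := fun a ha hy => by
    have cj := zt.trans (isConj_iff.2 ⟨a, rfl⟩)
    have nT : a * t * a⁻¹ ∉ S ⊓ centralizer (U : Set G) := fun c =>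
      tT (by simpa [mul_assoc] using h.nT _ (inv_mem ha) _ c)
    obtain ⟨x, x1, x2, x3, e | e | e | e⟩ := dec _ hy
    · exact (nT (e ▸ x2)).elim
    · exact (nT (e ▸ mul_mem (h.UT h.zU) x2)).elim
    · exact (nx_cm h.z2).2 (Or.inl (hn' _ cj (e ▸ mul_mem tT' x3)))
    · have e1 : u * (a * t * a⁻¹) * u⁻¹ = t * x := by
        rw [e, ← conj_mul, h.zc' (h.cm hu h.zU), ut, ← mul_assoc z, h.z2, one_mul, nx_cj (x2.2 u hu)]
      have e2 := hn' _ (cj.trans (isConj_iff.2 ⟨u, rfl⟩)) (e1 ▸ mul_mem tT' x3)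
      rw [e1, mul_eq_left] at e2
      exact (nx_cm h.z2).2 (Or.inr (by rw [e, e2, mul_one]))
  have uN : u ∈ S ⊓ stz z t := ⟨h.US hu, h.cm hu h.zU, (nx_cm h.z2).2 (Or.inr ut)⟩
  have Ndec : ∀ a ∈ S ⊓ stz z t, a ∈ S ⊓ centralizer {t} ∨ u * a ∈ S ⊓ centralizer {t} := fun a ha =>
    ((nx_cm h.z2).1 ha.2.2).imp (fun e => ⟨ha.1, mem_centralizer_singleton_iff.2 (nx_cj' e)⟩) fun e =>
      ⟨mul_mem uN.1 ha.1, mem_centralizer_singleton_iff.2 (nx_cj' (by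
        rw [show u * a * t * (u * a)⁻¹ = u * (a * t * a⁻¹) * u⁻¹ by group, e, h.zc' (h.cm hu h.zU), ut, ← mul_assoc,
          h.z2, one_mul]))⟩
  have t2 := h'.z2
  by_cases hN : S ≤ stz z t
  · have hb : ¬ S ≤ centralizer (U : Set G) := fun c => tT ⟨hg, c hg⟩
    have X1 : S ⊓ centralizer {t} ⊓ (S ⊓ centralizer (U : Set G)) ⊓ T' = ⊥ := by
      by_contra c
      refine zT (h.nz hb (M := S ⊓ centralizer {t} ⊓ (S ⊓ centralizer (U : Set G)) ⊓ T') (fun x hx => hx.1.1.1) (le_normalizer_of_cj_le fun a ha => cj_le_iff_forall.2 fun x hx => ?_) c).2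
      have k1 : ∀ a ∈ S ⊓ centralizer {t}, a * x * a⁻¹ ∈ S ⊓ centralizer {t} ⊓ (S ⊓ centralizer (U : Set G)) ⊓ T' :=
        fun a ha => ⟨⟨(S ⊓ centralizer {t}).mul_mem ((S ⊓ centralizer {t}).mul_mem ha hx.1.1)
          ((S ⊓ centralizer {t}).inv_mem ha), h.nT a ha.1 x hx.1.2⟩, h'.nT a (hk ha) x hx.2⟩
      refine (Ndec a ⟨ha, hN ha⟩).elim (k1 a) fun c => ?_
      have k2 := k1 _ c
      have k3 := nx_cj (k2.1.2.2 _ (U.inv_mem hu))
      rwa [← k3, show u⁻¹ * (u * a * x * (u * a)⁻¹) * u⁻¹⁻¹ = a * x * a⁻¹ by group] at k2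
    obtain ⟨a, ha⟩ := CL.ThompsonTransfer.exists_conj_mem hG h.syl.toSylowTop (Q := S ⊓ centralizer {t})
      inf_le_left (relIndex_dvd_two_iff.2 ⟨u⁻¹, h.US (inv_mem hu), fun x hx =>
        (Ndec x⁻¹ ⟨S.inv_mem hx, hN (S.inv_mem hx)⟩).symm.imp
          (fun c => by simpa using (S ⊓ centralizer {t}).inv_mem c) fun c => inv_mem_iff.1 c⟩) (h.sq u hu)
    obtain ⟨x, x1, x2, x3, e⟩ := dec _ ha
    obtain rfl : x = 1 := mem_bot.1 (X1 ▸ ⟨⟨x1, x2⟩, x3⟩)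
    refine h.nc hu uz ((isConj_iff.2 ⟨a, rfl⟩).trans ?_)
    rcases e with e | e | e | e <;> rw [e]
    · exact (u1 (conj_eq_one_iff.1 e)).elim
    · rw [mul_one]
    · rw [mul_one]; exact zt.symm
    · rw [mul_one, ← ut]; exact (zt.trans (isConj_iff.2 ⟨u, rfl⟩)).symm
  obtain ⟨y, hy, yN⟩ := SetLike.exists_of_lt (lt_inf_normalizer_of_lt h.p2
    (lt_of_le_not_ge (inf_le_left : S ⊓ stz z t ≤ S) fun c => hN (c.trans inf_le_right)))
  have m := conj_mem_of_normalizes (H := normalizer _) le_rfl hy.2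
    (show t ∈ S ⊓ stz z t from ⟨hg, tz, nx_c0 rfl⟩)
  refine (Ndec _ m).elim (fun c => yN ⟨hy.1, h.zc y hy.1, cl y hy.1 c⟩) fun c => ?_
  have nT : u * (y * t * y⁻¹) ∉ S ⊓ centralizer (U : Set G) := fun c =>
    tT (by simpa [mul_assoc] using h.nT _ (inv_mem hy.1) _ ((mul_mem_cancel_left (h.UT hu)).1 c))
  obtain ⟨x, x1, x2, x3, e⟩ := dec _ c
  have xt := mem_centralizer_singleton_iff.1 x1.2
  have fin : ∀ t', u * t' * u⁻¹ = z * t' → t' * t' = 1 → x * t' = t' * x → u * (y * t * y⁻¹) ≠ t' * x :=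
    fun t' e1 e2 e3 e4 => by
      have e5 : y * t * y⁻¹ = u * t' * x := by rw [mul_assoc u, ← e4, ← mul_assoc u, h.sq u hu, one_mul]
      have e6 := nx_cj2 y t2
      have e7 : x * (u * t') = u * t' * x := (Commute.mul_right (x2.2 u hu).symm e3).eq
      rw [nx_inv (h.sq u hu)] at e1
      rw [e5, mul_assoc, ← mul_assoc x, e7, mul_assoc _ x, ← mul_assoc, ← mul_assoc (u * t'), e1, mul_assoc z, e2,
        mul_one] at e6
      exact zT (by rw [eq_inv_of_mul_eq_one_left e6]; exact inv_mem (mul_mem x3 x3))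
  rcases e with e | e | e | e
  · exact nT (e ▸ x2)
  · exact nT (e ▸ mul_mem (h.UT h.zU) x2)
  · exact fin t ut t2 xt e
  · exact fin (z * t) (by rw [h.zc' (h.cm hu h.zU), ut])
      (by rw [mul_assoc, ← mul_assoc t, tz, mul_assoc, t2, mul_one, h.z2])
      (Commute.mul_right (h.zc x x1.1) xt).eq e

theorem exists_E {g : G} (hg : g * z * g⁻¹ ∈ S ⊓ centralizer (U : Set G)) (ne : g * z * g⁻¹ ≠ z) :
    ∃ k, k * z * k⁻¹ ≠ z ∧ k •ᶜ U ≤ centralizer (U : Set G) := by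
  obtain ⟨k, et, hk⟩ := h.ext g (h.p2.to_le (inf_le_left (b := centralizer {g * z * g⁻¹}))) inf_le_right
  rw [← et] at hg ne hk
  refine ⟨k, ne, fun w hw => ?_⟩
  obtain ⟨t, et⟩ : ∃ t, k * z * k⁻¹ = t := ⟨_, rfl⟩
  have h' := h.cj k
  rw [et] at hg ne hk h'
  have US' : U ≤ k •ᶜ S := fun a ha => hk ⟨h.US ha, mem_centralizer_singleton_iff.2 (hg.2 a ha)⟩
  obtain ⟨u, hu, u1, uz⟩ := h.exists_u
  obtain ⟨zu1, zu2, zu3⟩ := h.zu hu u1 uz
  have key : ∀ v ∈ U, v ≠ 1 → v ≠ z → w * v * w⁻¹ = v → w ∈ centralizer (U : Set G) := fun v hv v1 vz e =>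
    h.cen hv v1 vz (h.pti hG hv v1 vz h'.p2 (US' h.zU) (h'.US hw) (nx_cj' e)) (nx_cj' e)
  rcases (nx_cm h'.z2).1 (nx_cms (h'.cmU (US' hu) hw)) with e1 | e1
  · exact key u hu u1 uz e1
  rcases (nx_cm h'.z2).1 (nx_cms (h'.cmU (US' zu1) hw)) with e2 | e2
  · exact key _ zu1 zu2 zu3 e2
  have tz := h.zc t hg.1
  have tu := hg.2 u hu
  have wz : w * z = z * w := nx_cj' (mul_right_cancel (b := t * u) (by
    rw [← e1, conj_mul, e2, ← mul_assoc, tz, e1, mul_assoc]))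
  have tU : t ∉ U := fun c => ne (et ▸ h.p0 k (et ▸ c))
  have e3 : u * (t * u) = t := by rw [← tu, ← mul_assoc, h.sq u hu, one_mul]
  have zt : IsConj t z := (isConj_iff.2 ⟨k, et⟩).symm
  refine (h.l1 hu u1 uz wz (h'.sq w hw) (fun c => tU ((mul_mem_cancel_right hu).1 (e1 ▸ c)))
    (by rw [e1, e3, mul_assoc, h.sq u hu, mul_one]) fun a ha => ?_).elim
  rw [e1, e3]
  refine ⟨fun e => h.nc hu uz ((isConj_iff.2 ⟨a, e⟩).trans zt), fun e => h.nc zu1 zu3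
    ((isConj_iff.2 ⟨a, ?_⟩).trans zt)⟩
  rw [h.zc' ha, e, ← mul_assoc, h.z2, one_mul]

theorem key₀ {g : G} {U' : Subgroup G} (eU : g •ᶜ U = U') (et : g * z * g⁻¹ = t) (tz : t ≠ z)
    (hc : U' ≤ centralizer (U : Set G)) (hS : U' ≤ S) {a b : G} (ha : a ∈ U) (hb : b ∈ U') (b1 : b ≠ 1)
    (hv : v ∈ U) : IsConj (a * b) (v * b) := by
  have h' : NX (g •ᶜ S) U' t := eU ▸ et ▸ h.cj g
  have tU' := h'.zU
  have t2 := h'.z2
  have zt := hc tU' z h.zU
  have meet : ∀ k, k * z * k⁻¹ = t → ∀ a ∈ U, a ∈ k •ᶜ U → a = 1 := fun k e a => h.meet hG e tz zt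
  have dj : ∀ a ∈ U, a ∈ U' → a = 1 := eU ▸ meet g et
  have tU : t ∉ U := fun c => h'.z1 (dj t c tU')
  obtain ⟨w, hw, w1, wt⟩ := h'.exists_u
  have mE : ∀ e, e ∈ U ⊔ U' ↔ ∃ a ∈ U, ∃ b ∈ U', a * b = e := fun e =>
    mem_sup_of_normalizes_left (hc.trans (centralizer_le_normalizer _))
  set E := U ⊔ U' with hE
  have UE : U ≤ E := le_sup_left
  have U'E : U' ≤ E := le_sup_right
  have E2 : ∀ e ∈ E, e * e = 1 := fun e he => by
    obtain ⟨a, ha, b, hb, rfl⟩ := (mE e).1 he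
    rw [mul_assoc, ← mul_assoc b, ← hc hb a ha, mul_assoc, h'.sq b hb, mul_one, h.sq a ha]
  have ES : E ≤ S := sup_le h.US hS
  have E16 : 16 ≤ Nat.card E := by
    have := CL.PN.card_sup_mul_card_inf (hc.trans (centralizer_le_normalizer _))
    rw [eq_bot_iff.2 (show U' ⊓ U ≤ ⊥ from fun a ha => dj a ha.2 ha.1), card_bot, h.kl.card_four, h'.kl.card_four,
      sup_comm, ← hE] at this
    omega
  have omE : ∀ x, x * x = 1 → x ∈ centralizer (U : Set G) → x ∈ centralizer (U' : Set G) → x ∈ E := fun x x2 c1 c2 => by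
    by_contra n
    have c : x ∈ centralizer (E : Set G) := fun e he => by
      obtain ⟨a, ha, b, hb, rfl⟩ := (mE e).1 he
      exact (Commute.mul_left (c1 a ha) (c2 b hb)).eq
    have k1 := h.r4' (nx_sup2 E2 x2 c)
    have k2 := two_mul_card_le (le_sup_left : E ≤ E ⊔ zpowers x) fun c => n (c (mem_sup_right (mem_zpowers x)))
    omega
  set P := S ⊓ normalizer (E : Set G) with hP
  have PS : ¬ S ≤ P := fun c => tU (h.kt E ES (fun g hg _ => conj_mem_of_normalizes inf_le_right (c hg)) E2 UE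
    (U'E tU'))
  obtain ⟨x, hx, xP, x2, -⟩ := step (S := S ⊓ normalizer (P : Set G)) (B := P) (h.p2.to_le inf_le_left)
    (le_inf inf_le_left le_normalizer) le_rfl (fun g hg _ => conj_mem_of_normalizes inf_le_right hg)
    (fun g hg y hy => mul_mem (mul_mem hg hy) (inv_mem hg))
    (lt_inf_normalizer_of_lt h.p2 (lt_of_le_not_ge inf_le_left PS)).not_ge
  have EP : E ≤ P := le_inf ES le_normalizer
  obtain ⟨F, hF⟩ : ∃ F, x •ᶜ E = F := ⟨_, rfl⟩
  have EF : ∀ e ∈ E, x * e * x⁻¹ ∈ F := fun e he => hF ▸ conj_mem_cj he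
  have FE : ∀ f ∈ F, x * f * x⁻¹ ∈ E := fun f hf => by
    have : x •ᶜ F = E := by rw [← hF, ← cj_mul, cj_eq_of_mem_normalizer x2.2]
    exact this ▸ conj_mem_cj hf
  have FP : F ≤ P := hF ▸ cj_le_of_mem_normalizer EP hx.2
  have PF : P ≤ normalizer (F : Set G) := by
    rw [← hF, ← cj_normalizer, ← cj_eq_of_mem_normalizer hx.2]
    exact cj_mono x inf_le_right
  have F2 : ∀ f ∈ F, f * f = 1 := fun f hf => by simpa only [conj_mul, conj_eq_one_iff] using E2 _ (FE f hf)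
  have F16 : Nat.card F ≤ 16 := h.r4' F2
  have UF : U ≤ F := fun a ha => by
    simpa [mul_assoc] using EF _ (UE (h.nU _ (inv_mem hx.1) a ha))
  have FU : ∀ f ∈ F, f ∈ centralizer (U : Set G) := fun f hf a ha => nx_comm F2 (UF ha) hf
  have FE' : ¬ F ≤ E := fun c => xP ⟨hx.1, mem_normalizer_of_cj_le (hF ▸ c)⟩
  have cEF : ∀ e ∈ E, ∀ f ∈ F, ⁅f, e⁆ ∈ E ∧ ⁅f, e⁆ ∈ F := fun e he f hf =>
    ⟨mul_mem (conj_mem_of_normalizes inf_le_right (FP hf) he) (inv_mem he), nx_cms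
      (mul_mem (conj_mem_of_normalizes PF (EP he) hf) (inv_mem hf))⟩
  have C1 : ∀ f ∈ F, f ∉ E → ∀ b ∈ U', b ≠ 1 → f * b = b * f → b = t := fun f hf fE b hb b1 c => by
    by_contra bt
    exact fE (omE f (F2 f hf) (FU f hf) (h'.cen hb b1 bt (h'.pti hG hb b1 bt h.p2 (hS tU') (FP hf).1 c) c))
  have C2 : ∀ f ∈ F, f ∉ E → ∀ e ∈ E, f * e = e * f → ∃ a ∈ U, e = a ∨ e = a * t := fun f hf fE e he c => by
    obtain ⟨a, ha, b, hb, rfl⟩ := (mE e).1 he
    refine ⟨a, ha, ?_⟩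
    by_cases b1 : b = 1
    · exact Or.inl (by rw [b1, mul_one])
    · rw [← mul_assoc, ← FU f hf a ha, mul_assoc, mul_assoc] at c
      exact Or.inr (by rw [C1 f hf fE b hb b1 (mul_left_cancel c)])
  have mt : ∀ k, k * z * k⁻¹ = t → ∀ e ∈ k •ᶜ U, (∃ a ∈ U, e = a ∨ e = a * t) → e = 1 ∨ e = t := by
    rintro k ek e he ⟨a, ha, e1⟩
    have tk : t ∈ k •ᶜ U := ek ▸ conj_mem_cj h.zU
    obtain rfl := meet k ek a ha (e1.elim (fun e => e ▸ he) fun e => (mul_mem_cancel_right tk).1 (e ▸ he))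
    simpa using e1
  have C3 : ∀ f ∈ F, f ∉ E → f * t ≠ t * f := fun f hf fE c => by
    have fw : f * w * f⁻¹ ≠ w := fun e => wt (C1 f hf fE w hw w1 (nx_cj' e))
    have m1 : f * w * f⁻¹ ∈ E := conj_mem_of_normalizes inf_le_right (FP hf) (U'E hw)
    have m2 : f * w * f⁻¹ ∈ U' := by
      by_contra n
      have q := C2 f hf fE _ (mul_mem (U'E hw) m1) (nx_cj' (by
        rw [← conj_mul, show f * (f * w * f⁻¹) * f⁻¹ = f * f * w * (f * f)⁻¹ by group, F2 f hf,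
          nx_comm E2 (U'E hw) m1]; simp))
      refine h'.l1 hw w1 wt c (F2 f hf) n (nx_comm E2 (U'E hw) m1) fun k hk => ?_
      have ek : k * g * z * (k * g)⁻¹ = t := by rw [← nx_cj hk, ← et]; group
      have q1 : k * w * k⁻¹ ∈ (k * g) •ᶜ U := by rw [cj_mul, eU]; exact conj_mem_cj hw
      have q2 : w * (f * w * f⁻¹) ∉ (k * g) •ᶜ U := fun m => n ((mul_mem_cancel_left hw).1
        ((mt _ ek _ m q).elim (fun e => e ▸ one_mem _) fun e => e ▸ tU'))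
      exact ⟨fun e => q2 (e ▸ q1), fun e => q2 ((mul_mem_cancel_left (ek ▸ conj_mem_cj h.zU)).1 (e ▸ q1))⟩
    have m3 : f * w * f⁻¹ = t * w := by
      rcases h'.cases hw w1 wt m2 with e | e | e | e
      · exact (w1 (conj_eq_one_iff.1 e)).elim
      · exact (wt (by simpa using e.trans (nx_cj c).symm)).elim
      · exact (fw e).elim
      · exact e
    have tF : t ∈ F := by
      have := (cEF w (U'E hw) f hf).2
      rwa [commutatorElement_def, m3, mul_inv_cancel_right] at this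
    have k1 := two_mul_card_le (le_inf UE UF) fun c => tU (c ⟨U'E tU', tF⟩)
    have U4 := h.kl.card_four
    have cm : ∀ f' ∈ F, ∀ e ∈ E, ⁅e, f'⁆ ∈ zpowers t := fun f' hf' e he => by
      by_cases c' : f' ∈ E
      · exact nx_c0 (nx_comm E2 he c')
      have q := nx_cov (inf_le_right : E ⊓ F ≤ F) (by omega) hf hf' (fun c => fE c.1) fun c => c' c.1
      have q1 : w ∈ stz t f' := ⟨h'.cm hw tU', nx_cms ((nx_cm t2).2 (Or.inr (by
        rw [← m3, show f' * w * f'⁻¹ = f * (f⁻¹ * f' * w * (f⁻¹ * f')⁻¹) * f⁻¹ by group,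
          nx_cj (nx_comm E2 q.1 (U'E hw))])))⟩
      have q2 : t ∈ stz t f' := ⟨rfl, nx_c0 (nx_comm F2 tF hf')⟩
      have : E ≤ stz t f' := sup_le (fun a ha => ⟨hc tU' a ha, nx_c0 (FU f' hf' a ha)⟩) fun b hb => by
        rcases h'.cases hw w1 wt hb with rfl | rfl | rfl | rfl
        exacts [one_mem _, q2, q1, mul_mem q2 q1]
      exact (this he).2
    have wF : w ∉ F := fun c => fw (nx_cj (nx_comm F2 hf c))
    have xt : x * t = t * x := nx_cj' (((nx_zp t2).1 (by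
      have := cm _ (EF w (U'E hw)) _ (FE f hf)
      rwa [← conjugate_commutatorElement, commutatorElement_def f, m3, mul_inv_cancel_right] at this)).resolve_left
      fun e => h'.z1 (conj_eq_one_iff.1 e))
    obtain ⟨k, ek, hk⟩ := h.ext g (h.p2.to_le (inf_le_left (b := centralizer {g * z * g⁻¹}))) inf_le_right
    rw [et] at ek hk
    have h'' := ek ▸ h.cj k
    obtain ⟨u, hu, u1, ut⟩ := h''.exists_u
    have Et : ∀ e ∈ E, e * t = t * e := fun e he => nx_comm E2 he (U'E tU')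
    have Ft : ∀ e ∈ F, e * t = t * e := fun e he => nx_comm F2 he tF
    have kS : ∀ y ∈ (E : Set G) ∪ F, y ∈ k •ᶜ S := fun y hy => hk (hy.elim
      (fun hy => ⟨ES hy, mem_centralizer_singleton_iff.2 (Et y hy)⟩)
      fun hy => ⟨(FP hy).1, mem_centralizer_singleton_iff.2 (Ft y hy)⟩)
    have kS' : ∀ y ∈ insert u ((E : Set G) ∪ F), y ∈ k •ᶜ S := by
      rintro y (rfl | hy); exacts [h''.US hu, kS y hy]
    have k2 := h.r4 (K := insert u (E ∪ F)) (h''.p2.to_le ((closure_le _).2 kS')) t2 (Or.inr (Or.inr tF))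
      (fun y hy => h''.zc y (kS' y hy)) (by rintro y (rfl | hy | hy); exacts [h''.sq _ hu, E2 y hy, F2 y hy]) (by
        rintro y (rfl | hy) y' hy'
        · exact nx_cms (h''.cmU (kS' y' hy') hu)
        rcases hy' with rfl | hy'
        · exact h''.cmU (kS y hy) hu
        rcases hy with hy | hy <;> rcases hy' with hy' | hy'
        exacts [nx_c0 (nx_comm E2 hy hy'), cm _ hy' _ hy, nx_cms (cm _ hy _ hy'), nx_c0 (nx_comm F2 hy hy')])
    have k3 := two_mul_card_le (le_sup_left : E ≤ E ⊔ F) fun c => FE' (le_sup_right.trans c)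
    have k4 : E ⊔ F ≤ closure (insert u (E ∪ F)) := sup_le (fun y hy => subset_closure (Or.inr (Or.inl hy)))
      fun y hy => subset_closure (Or.inr (Or.inr hy))
    obtain ⟨e, he, f', hf', ef⟩ := (mem_sup_of_normalizes_right (EP.trans PF)).1
      ((eq_of_le_of_card_ge k4 (by omega)).ge (subset_closure (Or.inl rfl)))
    have k5 : u ∈ E ∨ u ∈ F := by
      by_cases c' : f' ∈ E
      · exact Or.inl (ef ▸ mul_mem he c')
      obtain ⟨a, ha, e1⟩ := C2 f' hf' c' e he (by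
        rw [← nx_inv (F2 f' hf'), ← nx_inv (E2 e he), ← mul_inv_rev, ef, nx_inv (h''.sq u hu), ← ef,
          nx_inv (F2 f' hf'), nx_inv (E2 e he)])
      exact Or.inr (ef ▸ mul_mem (e1.elim (fun e => e ▸ UF ha) fun e => e ▸ mul_mem (UF ha) tF) hf')
    have k6 := (nx_cm t2).1 (h''.cmU (hk ⟨hx.1, mem_centralizer_singleton_iff.2 xt⟩) hu)
    have k7 : ∀ A : Subgroup G, t ∈ A → x * u * x⁻¹ ∈ A → u ∈ A := fun A h1 h2 =>
      k6.elim (fun e => e ▸ h2) fun e => (mul_mem_cancel_left h1).1 (e ▸ h2)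
    have k8 : u ∈ E ∧ u ∈ F := k5.elim (fun c => ⟨c, k7 F tF (EF u c)⟩) fun c => ⟨k7 E (U'E tU') (FE u c), c⟩
    exact (mt k ek u hu (C2 f hf fE u k8.1 (nx_comm F2 hf k8.2))).elim u1 ut
  have C4 : ∀ f ∈ F, f ∉ E → ∀ e ∈ E, f * e = e * f → e ∈ U := fun f hf fE e he c => by
    obtain ⟨a, ha, rfl | rfl⟩ := C2 f hf fE e he c
    · exact ha
    · rw [← mul_assoc, ← FU f hf a ha, mul_assoc, mul_assoc] at c
      exact (C3 f hf fE (mul_left_cancel c)).elim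
  obtain ⟨f₀, hf₀, f₀E⟩ := SetLike.not_le_iff_exists.1 FE'
  have EFU : ∀ e ∈ E, e ∈ F → e ∈ U := fun e he hf => C4 f₀ hf₀ f₀E e he (nx_comm F2 hf₀ hf)
  have φU : ∀ f ∈ F, ⁅f, b⁆ ∈ U := fun f hf => EFU _ (cEF b (U'E hb) f hf).1 (cEF b (U'E hb) f hf).2
  have φ1 : ∀ c ∈ U', c ≠ 1 → ⁅x * c * x⁻¹, b⁆ ≠ 1 := fun c hc c1 e => by
    have m := EF c (U'E hc)
    refine b1 (dj b (C4 _ m (fun c' => c1 (dj c ?_ hc)) b (U'E hb) (commutatorElement_eq_one_iff_mul_comm.1 e)) hb)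
    simpa [mul_assoc] using h.nU _ (inv_mem hx.1) _ (EFU _ c' m)
  have φm : ∀ f ∈ F, ∀ f' ∈ F, ⁅f * f', b⁆ = ⁅f, b⁆ * ⁅f', b⁆ := fun f hf f' hf' => by
    rw [h.cm (φU f hf) (φU f' hf'), ← nx_cj (FU f hf _ (φU f' hf')).symm]
    group
  have m1 := EF t (U'E tU')
  have m2 := EF w (U'E hw)
  obtain ⟨f, hf, e⟩ : ∃ f ∈ F, ⁅f, b⁆ = a⁻¹ * v := by
    rcases CL.Four.eq_or_of_mem h.kl (φU _ m1) (φU _ m2) (mul_mem (inv_mem ha) hv) (φ1 t tU' h'.z1) (φ1 w hw w1)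
      (fun e => φ1 _ (mul_mem tU' hw) (h'.zu hw w1 wt).2.1 (by
        rw [← conj_mul, φm _ m1 _ m2, e, h.sq _ (φU _ m2)])) with e | e | e | e
    exacts [⟨1, one_mem _, by simp [e]⟩, ⟨_, m1, e.symm⟩, ⟨_, m2, e.symm⟩,
      ⟨_, mul_mem m1 m2, (φm _ m1 _ m2).trans e.symm⟩]
  refine isConj_iff.2 ⟨f, ?_⟩
  rw [← conj_mul, nx_cj (FU f hf a ha).symm, ← mul_inv_cancel_left a v, ← e]
  group

theorem key {g : G} {U' : Subgroup G} (eU : g •ᶜ U = U') (et : g * z * g⁻¹ = t) (tz : t ≠ z)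
    (hc : U' ≤ centralizer (U : Set G)) {a b : G} (ha : a ∈ U) (hb : b ∈ U') (b1 : b ≠ 1)
    (hv : v ∈ U) : IsConj (a * b) (v * b) := by
  obtain ⟨u, hu, u1, uz⟩ := h.exists_u
  obtain ⟨x, hx, e⟩ := ((h.sylT hu u1 uz).of_le inf_le_right fun g hg =>
    mem_centralizer_singleton_iff.2 (hg u hu).symm).exists_conj_le
    (eU ▸ isPGroup_cj g (h.p2.to_le h.US) : IsPGroup 2 U') hc
  have c : ∀ a ∈ U, IsConj (a * b) (a * (x * b * x⁻¹)) := fun a ha =>
    isConj_iff.2 ⟨x, by rw [← conj_mul, nx_cj (hx a ha).symm]⟩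
  refine (c a ha).trans ((h.key₀ hG (g := x * g) (t := x * t * x⁻¹) (by rw [cj_mul, eU]) (by rw [← et]; group)
    (fun e => tz ?_) (e.trans inf_le_right) (e.trans inf_le_left) ha (conj_mem_cj hb) (by simpa using b1) hv).trans
    (c v hv).symm)
  simpa using e.trans (nx_cj (hx z h.zU).symm).symm

theorem false {g : G} (hg : g * z * g⁻¹ ∈ S) (ne : g * z * g⁻¹ ≠ z) : False := by
  obtain ⟨g, hg, ne⟩ := h.exists_t hG hg ne
  obtain ⟨k, ne, hc⟩ := h.exists_E hG hg ne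
  obtain ⟨u, hu, u1, uz⟩ := h.exists_u
  have h' := h.cj k
  have c1 := h.key hG rfl rfl ne hc (one_mem _) h'.zU h'.z1 hu
  have c2 := h'.key hG (inv_cj_cj k U) (t := z) (by group) ne.symm (le_centralizer_iff.1 hc) h'.zU hu u1 (one_mem _)
  rw [one_mul] at c1 c2
  rw [hc h'.zU u hu] at c1
  exact h.nc hu uz ((isConj_iff.2 ⟨k, rfl⟩).trans (c1.trans c2)).symm

end NX

/-- The non-fused case. -/
theorem Pre.fused' (hG : ∀ H : Subgroup G, H.index ≠ 2) {P : Sylow 2 G} (h : Pre P U)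
    (hZ : ∀ z ∈ (P : Subgroup G), orderOf z = 2 → ∃ g : G, g * z * g⁻¹ ∈ (P : Subgroup G) ∧ g * z * g⁻¹ ≠ z)
    (hc : ∀ t ∈ U, t ≠ 1 → IsPConstrained 2 (centralizer ({t} : Set G))) :
    ∀ u ∈ U, ∀ v ∈ U, u ≠ 1 → v ≠ 1 → IsConj u v := by
  by_contra hn
  obtain ⟨z, zU, z1, zc⟩ := h.exists_z
  have H : NX P U z := ⟨h, sylIn_top P, zU, z1, zc, fun g hg => by
    by_contra ne
    have g1 : g * z * g⁻¹ ≠ 1 := by simpa using z1
    have c1 : IsConj z (g * z * g⁻¹) := isConj_iff.2 ⟨g, rfl⟩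
    have c2 : IsConj z (z * (g * z * g⁻¹)) := by
      by_cases hb : (P : Subgroup G) ≤ centralizer (U : Set G)
      · exact h.burn (sylIn_top P) hb zU z1 hg ne
      · obtain ⟨s, hs, sT⟩ := SetLike.not_le_iff_exists.1 hb
        exact c1.trans (isConj_iff.2 ⟨s, h.mv zU z1 zc hg g1 (Ne.symm ne) hs fun c => sT c.2⟩)
    have c3 : ∀ u ∈ U, u ≠ 1 → IsConj z u := fun u hu u1 => by
      rcases CL.Four.eq_or_of_mem h.kl zU hg hu z1 g1 (Ne.symm ne) with rfl | rfl | rfl | rfl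
      exacts [(u1 rfl).elim, IsConj.refl _, c1, c2]
    exact hn fun u hu v hv u1 v1 => (c3 u hu u1).symm.trans (c3 v hv v1), hc⟩
  obtain ⟨g, hg, ne⟩ := hZ z (h.US zU) (CL.Four.orderOf_of_mem h.kl zU z1)
  exact H.false hG hg ne

theorem Pre.fused [IsSimpleGroup G] (hG : ¬ IsMulCommutative G) {P : Sylow 2 G} (h : Pre P U)
    (hc : ∀ t ∈ U, t ≠ 1 → IsPConstrained 2 (centralizer ({t} : Set G))) :
    ∀ u ∈ U, ∀ v ∈ U, u ≠ 1 → v ≠ 1 → IsConj u v := by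
  have cen : center G = ⊥ := (IsSimpleGroup.eq_bot_or_eq_top_of_normal (center G) inferInstance).resolve_right
    fun e => hG ⟨⟨fun a b => mem_center_iff.1 (e ▸ mem_top b : b ∈ center G) a⟩⟩
  refine h.fused' (fun K hK => ?_) (fun z zP hz => ?_) hc
  · have := normal_of_index_eq_two hK
    rcases IsSimpleGroup.eq_bot_or_eq_top_of_normal K this with rfl | rfl
    · rw [index_bot] at hK
      have := isCyclic_of_prime_card hK
      exact hG inferInstance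
    · simp at hK
  by_contra c
  have z1 : z ≠ 1 := fun e => by simp [e] at hz
  obtain ⟨N, hN, ho, e⟩ := Cfsg.Agent.S0215.result P z hz zP fun g hg => by_contra fun ne => c ⟨g, hg, ne⟩
  rcases IsSimpleGroup.eq_bot_or_eq_top_of_normal N hN with rfl | rfl
  · refine z1 (mem_bot.1 (cen ▸ mem_center_iff.2 fun g => ?_))
    exact (commutatorElement_eq_one_iff_mul_comm.1 (mem_bot.1 (e g))).symm
  · exact (Nat.not_even_iff_odd.2 ho) (even_iff_two_dvd.2 (hz ▸ orderOf_dvd_natCard _ (mem_top z)))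

end CL.NE
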