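import Cfsg.Agent.SYL.NE7
import Cfsg.Agent.PLOC.PConstrained

/-!
2-groups without normal elementary abelian subgroup of order eight whose normal four-group is fused:
a 2-constrained centralizer of the central involution forces type `J₂`.
-/

set_option autoImplicit false

namespace CL.NE

open Subgroup CL.MSS Cfsg

variable {G : Type*} [Group G] [Finite G] {T U B M : Subgroup G} {a : G →* G} {s z x c e : G} {k : ℕ}

/-- if `C(z)` is 2-constrained and `u ∈ S` acts trivially on `S / ⟨z⟩`, then the `C(z)`-conjugates of `u`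
in `S` lie in a normal subgroup of `S` whose squares lie in `⟨z⟩` -/
theorem exists_P1 (P : Sylow 2 G) (zP : z ∈ (P : Subgroup G)) (zz : z * z = 1) (zc : ∀ g ∈ (P : Subgroup G), g * z = z * g)
    (hC : IsPConstrained 2 (centralizer ({z} : Set G))) :
    ∃ Q : Subgroup G, (∀ g ∈ (P : Subgroup G), ∀ y ∈ Q, g * y * g⁻¹ ∈ Q) ∧ (∀ y ∈ Q, y * y ∈ zpowers z) ∧
      ∀ u ∈ (P : Subgroup G), u * u = 1 → (∀ g ∈ (P : Subgroup G), ep g u ∈ zpowers z) →
        ∀ g, Commute g z → g * u * g⁻¹ ∈ (P : Subgroup G) → g * u * g⁻¹ ∈ Q := by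
  let H := centralizer ({z} : Set G)
  have PH : (P : Subgroup G) ≤ H := fun g hg => mem_centralizer_singleton_iff.2 (zc g hg)
  let π := QuotientGroup.mk' (pPrimeCore 2 H)
  let z0 : H := ⟨z, mem_centralizer_singleton_iff.2 rfl⟩
  have hz : ∀ g, g * π z0 = π z0 * g := fun g => by
    obtain ⟨g, rfl⟩ := QuotientGroup.mk'_surjective _ g
    rw [← map_mul, ← map_mul]; congr 1; exact Subtype.ext (mem_centralizer_singleton_iff.1 g.2)
  have z2 : π z0 * π z0 = 1 := by rw [← map_mul, ← map_one π]; congr 1; exact Subtype.ext zz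
  have cz : ∀ g, ∀ w ∈ zpowers (π z0), g * w = w * g := by
    rintro g _ ⟨n, rfl⟩; exact Commute.zpow_right (hz g) n
  have hc := CL.PC.isPConstrained_iff.1 hC
  set O := pCore 2 (H ⧸ pPrimeCore 2 H)
  have nO : O.Normal := inferInstance
  let K : Subgroup (H ⧸ pPrimeCore 2 H) :=
    { carrier := {y | ∀ q ∈ O, ep y q ∈ zpowers (π z0)}
      one_mem' := by simp [ep]
      mul_mem' := fun {y w} hy hw q hq => by
        have := mul_mem (hw q hq) (hy q hq)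
        rw [← mul_inv_cancel_right (ep w q) y, ← cz y _ (hw q hq)] at this
        convert this using 1; simp only [ep]; group
      inv_mem' := fun {y} hy q hq => by
        have l := inv_mem (hy q hq)
        have := l
        rw [← mul_inv_cancel_right (ep y q)⁻¹ y⁻¹, ← cz y⁻¹ _ l] at this
        convert this using 1; simp only [ep]; group }
  have nK : K.Normal := ⟨fun y hy g q hq => by
    have l := hy _ (nO.conj_mem q hq g⁻¹)
    have := l
    rw [← mul_inv_cancel_right (ep y _) g, ← cz g _ l] at this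
    convert this using 1; simp only [ep]; group⟩
  have k2 : ∀ y ∈ K, y * y ∈ O := fun y hy => hc fun q hq => by
    refine (ep_eq_one.1 ?_).symm
    have l := hy q hq
    calc _ = y * ep y q * y⁻¹ * ep y q := by simp only [ep]; group
      _ = _ := by
        rw [cz y _ l, mul_inv_cancel_right]
        rcases CL.SR1.zp2 z2 l with l | l <;> simp [l, z2]
  have KO : K ≤ O := le_sSup ⟨nK, fun y => by
    obtain ⟨n, l⟩ := CL.isPGroup_pCore 2 (H ⧸ pPrimeCore 2 H) ⟨_, k2 y y.2⟩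
    exact ⟨n + 1, Subtype.ext (by rw [pow_succ', pow_mul, pow_two]; simpa using congrArg Subtype.val l)⟩⟩
  have inj : ∀ y ∈ (P : Subgroup G).subgroupOf H, π y = 1 → y = 1 := fun y hy l =>
    mem_bot.1 ((CL.PC.inf_ker_eq_bot (f := π) (by rw [QuotientGroup.ker_mk']; exact CL.coprime_card_pPrimeCore 2 H)
      (isPGroup_subgroupOf P.isPGroup' H)).le ⟨hy, l⟩)
  have OP : O ≤ ((P : Subgroup G).subgroupOf H).map π :=
    CL.pCore_le_sylow ((P.subtype PH).mapSurjective (QuotientGroup.mk'_surjective _))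
  let L : Subgroup (H ⧸ pPrimeCore 2 H) :=
    { carrier := {y | y ∈ K ∧ y * y ∈ zpowers (π z0)}
      one_mem' := ⟨one_mem _, by simp⟩
      mul_mem' := fun {y w} hy hw => ⟨mul_mem hy.1 hw.1, by
        convert mul_mem (mul_mem hy.2 (hy.1 _ (KO hw.1) |> fun l => (inv_mem hy.1 : y⁻¹ ∈ K) _ (KO hw.1))) hw.2 using 1
        simp only [ep]; group⟩
      inv_mem' := fun {y} hy => ⟨inv_mem hy.1, by rw [← mul_inv_rev]; exact inv_mem hy.2⟩ }
  have nL : L.Normal := ⟨fun y hy g => ⟨nK.conj_mem y hy.1 g, by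
    rw [conj_mul, cz g _ hy.2, mul_inv_cancel_right]; exact hy.2⟩⟩
  refine ⟨(P : Subgroup G) ⊓ (L.comap π).map H.subtype, fun g hg y hy =>
    ⟨(P : Subgroup G).mul_mem ((P : Subgroup G).mul_mem hg hy.1) ((P : Subgroup G).inv_mem hg), ?_⟩,
    ?_, fun u hu u2 l g hg hg' => ⟨hg', ?_⟩⟩
  · obtain ⟨w, hw, rfl⟩ := hy.2
    exact ⟨_, (nL.comap π).conj_mem w hw ⟨g, PH hg⟩, rfl⟩
  · rintro _ ⟨hy, y, ⟨-, n, l⟩, rfl⟩
    refine ⟨n, congrArg Subtype.val (mul_inv_eq_one.1 (inj (z0 ^ n * (y * y)⁻¹) ?_ ?_))⟩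
    · exact mul_mem (zpow_mem (show z0 ∈ (P : Subgroup G).subgroupOf H from zP) n)
        (inv_mem (mul_mem (show y ∈ (P : Subgroup G).subgroupOf H from hy) hy))
    · simp only at l
      rw [map_mul, map_zpow, l, map_inv, map_mul, mul_inv_cancel]
  · refine ⟨_, (nL.comap π).conj_mem ⟨u, PH hu⟩ ⟨fun q hq => ?_, ?_⟩ ⟨g, mem_centralizer_singleton_iff.2 hg⟩, rfl⟩
    · obtain ⟨w, hw, rfl⟩ := OP hq
      obtain ⟨n, l⟩ := inv_mem (l w hw)
      refine ⟨n, ?_⟩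
      show π z0 ^ n = _
      simp only [ep, ← map_inv, ← map_mul, ← map_zpow]
      congr 1
      refine Subtype.ext (l.trans ?_)
      simp only [ep, coe_mul, coe_inv]; group
    · rw [← map_mul, show (⟨u, PH hu⟩ * ⟨u, PH hu⟩ : H) = 1 from Subtype.ext u2]; simp

namespace St

variable {P : Sylow 2 G} (h : St P T U B M a s z x c k)
include h

omit [Finite G] in
theorem cs2 : c * s * (c * s) = s * s := by
  rw [show c * s * (c * s) = c * (s * c * s⁻¹) * (s * s) by group, h.sc, h.cc, one_mul]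

theorem s_sq (hG : ∀ H : Subgroup G, H.index ≠ 2) (c1 : c ≠ 1) (hs : s ∉ T) : s * s = 1 := by
  refine h.ss'.resolve_right fun s2 => h.x2 hG hs c1 s2 fun e he => ?_
  have key : ∀ s, St P T U B M a s z x c k → s * s = c → ep e (s * e * s⁻¹) ≠ 1 := fun s h s2 l =>
    h.c_moves he c1 (by convert h.line_conj he h.hs l (h.Iv_conj he h.hs).mem l using 2; rw [← s2]; group)
  have hf := h.Iv_conj he h.hs
  rcases h.two he (h.Iv_conj he (h.TS h.cT)) (h.c_moves he c1) hf.mem hf.sq with l | l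
  · exact key s h s2 l
  · refine key _ (h.swap hs) (h.cs2.trans s2) ?_
    have := congrArg (fun y => c * y * c⁻¹) l
    simp only [conj_ep, mul_one, mul_inv_cancel] at this
    rw [show c * (c * e * c⁻¹) * c⁻¹ = c * c * e * (c * c)⁻¹ by group, h.cc] at this
    convert this using 2 <;> group

theorem exists_rho (c1 : c ≠ 1) (hs : s ∉ T) (s2 : s * s = 1) :
    ∃ ρ ∈ (P : Subgroup G), Commute ρ s ∧ ρ * ρ * (ρ * ρ) = z := by
  have ss : ∀ m : G, s * (s * m * s⁻¹) * s⁻¹ = m := fun m => by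
    rw [show s * (s * m * s⁻¹) * s⁻¹ = s * s * m * (s * s)⁻¹ by group, s2]; group
  rcases h.k1.eq_or_lt with hk | hk
  swap
  · have b0 := h.aB _ h.xB
    have b1 := h.nB s h.hs _ b0
    have e0 : a x ^ 2 ^ k = a z := by rw [← map_pow, h.xz]
    have e2 : (a x * (s * a x * s⁻¹)) ^ 2 ^ k = z := by
      rw [Commute.mul_pow (h.comm _ b0 _ b1), conj_pow, e0, h.s_az hs, ← mul_assoc,
        h.cen _ (h.UT h.azU) z h.zU, mul_assoc, h.sq _ h.azU, mul_one]
    obtain ⟨n, rfl⟩ := Nat.exists_eq_add_of_le' hk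
    refine ⟨(a x * (s * a x * s⁻¹)) ^ 2 ^ n, pow_mem (h.TS (h.BT (mul_mem b0 b1))) _,
      Commute.pow_left (mul_inv_eq_iff_eq_mul.1 ?_).symm _, ?_⟩
    · rw [← conj_mul, ss, h.comm _ b0 _ b1]
    · rw [← e2, ← pow_add, ← pow_add]; congr 1; ring
  replace hk := hk.symm
  obtain ⟨t, ht, tB⟩ := SetLike.not_le_iff_exists.1 fun hB : M ≤ B => h.notriv c1 fun m hm =>
    h.ep4 h.cT (hB hm) (h.sq_k1 hk (hB hm))
  obtain ⟨t, ht, tB⟩ : ∃ t ∈ M, t * (s * t * s⁻¹) ∉ B := by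
    by_contra hn
    push Not at hn
    have h1 := h.aB _ (h.aB _ (hn t ht))
    have h2 := hn _ (h.aM t ht)
    rw [map_mul, map_mul, ← h.s_a hs (h.MT ht)] at h1
    have h3 := h.aB _ (h.aB _ (mul_mem h1 (inv_mem h2)))
    rw [show a (a t) * (s * a t * s⁻¹) * (a t * (s * a t * s⁻¹))⁻¹ = a (a t) * (a t)⁻¹ by group, map_mul,
      map_mul, map_inv, map_inv, h.a3 _ (h.aT t (h.MT ht)), h.a3 t (h.MT ht)] at h3
    obtain ⟨d, e, b, hb, rfl⟩ := h.exists_fix (t := t)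
      (by convert h.nB _ (inv_mem (h.TS (h.MT ht))) _ h3 using 1; group)
    rw [h.fp d (by simpa using mul_mem ht (inv_mem (h.BM hb))) e, one_mul] at tB
    exact tB hb
  have t' := h.nM s h.hs t ht
  have hv := h.epM hk (inv_mem t') (inv_mem ht)
  have l : s * (t * (s * t * s⁻¹)) * s⁻¹ = t * (s * t * s⁻¹) * ep (s * t * s⁻¹)⁻¹ t⁻¹ := by
    rw [← conj_mul, ss]; simp only [ep]; group
  have hw := mul_mem ht t'
  generalize t * (s * t * s⁻¹) = w at tB l hw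
  generalize ep (s * t * s⁻¹)⁻¹ t⁻¹ = v at hv l
  obtain ⟨m, hm, mB, l⟩ : ∃ m ∈ M, m ∉ B ∧ s * m * s⁻¹ = m := by
    rcases h.s_fix hs hv (by
      have := ss w
      rw [l, ← conj_mul, l, mul_assoc, mul_eq_left] at this
      rw [eq_inv_of_mul_eq_one_right this, h.inv_U hv]) with rfl | rfl
    · exact ⟨w, hw, tB, by simpa using l⟩
    · exact ⟨w * a v, mul_mem hw (h.BM (h.UB h.azU)), fun k => tB (by simpa using mul_mem k (inv_mem (h.UB h.azU))),
        by rw [← conj_mul, l, h.s_az hs, mul_assoc, ← mul_assoc v, h.zz, one_mul]⟩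
  have ρT := mul_mem h.cT (h.MT hm)
  have ρ2 := h.sqT h.k1 ρT
  have ρs : s * (c * m) * s⁻¹ = c * m := by rw [← conj_mul, h.sc, l]
  refine ⟨c * m, h.TS ρT, (mul_inv_eq_iff_eq_mul.1 ρs).symm, (h.s_fix hs (h.sqM hk (h.BM ρ2))
    (by rw [← conj_mul, ← conj_mul, ρs])).resolve_left fun k => mB (h.cB c1 hm ?_).1⟩
  convert mul_mem (h.om' ρ2 k) (inv_mem (h.sqM hk hm)) using 1
  rw [ep, h.cinv]; group

theorem conjU (hG : ∀ H : Subgroup G, H.index ≠ 2) (c1 : c ≠ 1) (hs : s ∉ T) {α : G} (ha : ∀ y, a y = α * y * α⁻¹) :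
    ∃ g, Commute g z ∧ g * s * g⁻¹ ∈ U := by
  have s2 := h.s_sq hG c1 hs
  obtain ⟨ρ, hρ, ρs, ρ4⟩ := h.exists_rho c1 hs s2
  obtain ⟨g, sT, hg⟩ := xt' hG P (fun y hy w hw => h.MT (h.commM y hy w hw)) h.hs hs s2 fun f hf _ => h.cov f hf
  have r2 : g * ρ * g⁻¹ * (g * ρ * g⁻¹) ∈ M := by
    obtain ⟨d, hd, e, hm⟩ := h.decS (hg ρ hρ ρs)
    have d2 : d * d = 1 := by
      rcases e with rfl | rfl | rfl | rfl
      exacts [mul_one _, h.cc, s2, by
        rw [show s * c * (s * c) = s * c * s⁻¹ * (s * s) * c by group, h.sc, s2, mul_one, h.cc]]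
    convert mul_mem (h.nM d hd _ hm) hm using 1
    calc _ = g * ρ * g⁻¹ * (d * d)⁻¹ * (g * ρ * g⁻¹) := by rw [d2, inv_one, mul_one]
      _ = _ := by group
  have rc : Commute (g * ρ * g⁻¹ * (g * ρ * g⁻¹)) (g * s * g⁻¹) := (conj_comm.2 ρs).mul_left (conj_comm.2 ρs)
  have r4 : g * ρ * g⁻¹ * (g * ρ * g⁻¹) * (g * ρ * g⁻¹ * (g * ρ * g⁻¹)) = g * z * g⁻¹ := by
    rw [conj_mul, conj_mul, ρ4]
  generalize g * ρ * g⁻¹ * (g * ρ * g⁻¹) = r at r2 rc r4
  have z1 : g * z * g⁻¹ ≠ 1 := by simpa using h.z1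
  have sU : g * s * g⁻¹ ∈ U := by
    by_contra sU
    by_cases sM : g * s * g⁻¹ ∈ M
    · exact z1 (r4 ▸ h.line_sq ⟨sM, conj_sq s2, sU⟩ r2 (ep_eq_one.2 rc.symm))
    · exact z1 (r4 ▸ h.sq _ (h.cent_outer sT sM (conj_sq s2) r2 rc.symm))
  have cj : ∀ y, a (g * y * g⁻¹) = α * g * y * (α * g)⁻¹ := fun y => by rw [ha]; group
  have cj' : ∀ y, a (a (g * y * g⁻¹)) = α * (α * g) * y * (α * (α * g))⁻¹ := fun y => by rw [cj, ha]; group
  rcases h.mem _ (h.om' (r4 ▸ h.sqT h.k1 (h.MT r2)) (conj_sq h.zz)) with l | l | l | l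
  · exact (z1 l).elim
  · exact ⟨g, mul_inv_eq_iff_eq_mul.1 l, sU⟩
  · exact ⟨α * (α * g), mul_inv_eq_iff_eq_mul.1 (by rw [← cj', l, h.a3z]), cj' s ▸ h.aU _ (h.aU _ sU)⟩
  · exact ⟨α * g, mul_inv_eq_iff_eq_mul.1 (by rw [← cj, l, h.a3z]), cj s ▸ h.aU _ sU⟩

theorem c_one (hG : ∀ H : Subgroup G, H.index ≠ 2) (hs : s ∉ T) {α : G} (ha : ∀ y, a y = α * y * α⁻¹)
    (hC : IsPConstrained 2 (centralizer ({z} : Set G))) : c = 1 := by
  by_contra c1
  obtain ⟨Q, nQ, sQ, hQ⟩ := exists_P1 P (h.US h.zU) h.zz h.zcen hC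
  have hz : ∀ {w}, w ∈ zpowers z ↔ w = 1 ∨ w = z := ⟨CL.SR1.zp2 h.zz, by rintro (rfl | rfl) <;> simp⟩
  have key : ∀ s', St P T U B M a s' z x c k → s' ∉ T → s' ∈ Q := fun s' h' hs' => by
    obtain ⟨g, gz, l⟩ := h'.conjU hG c1 hs' ha
    have := hQ _ (h.US l) (h.sq _ l) (fun y hy => ?_) g⁻¹ gz.inv_left (by simpa [mul_assoc] using h'.hs)
    · simpa [mul_assoc] using this
    generalize g * s' * g⁻¹ = u at l
    rcases h.cov y hy with t | t
    · rw [h.ep_U t l]; exact one_mem _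
    have e : ep y u = ep s u := by
      rw [ep, ep, show y * u * y⁻¹ = s * (s⁻¹ * y * u * (s⁻¹ * y)⁻¹) * s⁻¹ by group, h.cjU t l]
    have m : ep s u ∈ U := mul_mem (h.nU s h.hs u l) (inv_mem l)
    refine e ▸ hz.2 (h.s_fix hs m (Eq.trans ?_ (h.inv_U m)))
    rw [ep, show s * (s * u * s⁻¹ * u⁻¹) * s⁻¹ = s * s * u * (s * s)⁻¹ * (s * u⁻¹ * s⁻¹) by group, h.cjU h.ssT l]
    group
  have cQ : c ∈ Q := by
    simpa using mul_mem (key _ (h.swap hs) fun k => hs (by simpa using mul_mem (inv_mem h.cT) k))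
      (inv_mem (key s h hs))
  have hq : ∀ m ∈ M, ep c m * ep c m ∈ zpowers z := fun m hm => sQ _ (by
    convert mul_mem cQ (nQ m (h.TS (h.MT hm)) _ (inv_mem cQ)) using 1; simp only [ep]; group)
  refine h.notriv c1 fun m hm => h.cent_outer h.cT (h.cM c1) h.cc (h.comm_T h.cT (h.MT hm)) ?_
  have v1 : ep c m * ep c m = 1 := (hz.1 (hq m hm)).resolve_right fun l => h.az_zp (by
    rw [← l, map_mul, ← h.ep_c]; exact l.symm ▸ hq _ (h.aM m hm))
  refine mul_inv_eq_iff_eq_mul.1 (Eq.trans ?_ (inv_eq_of_mul_eq_one_right v1))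
  rw [ep, show c * (c * m * c⁻¹ * m⁻¹) * c⁻¹ = c * c * m * (c * c)⁻¹ * (c * m⁻¹ * c⁻¹) by group, h.cc]
  group

end St

theorem Ctx.tyJ {P : Sylow 2 G} (h : Ctx P T U a s z) (hG : ∀ H : Subgroup G, H.index ≠ 2) {t : G} (ht : t ∈ T)
    (t2 : t * t = 1) (tU : t ∉ U) {α : G} (ha : ∀ y, a y = α * y * α⁻¹)
    (hC : IsPConstrained 2 (centralizer ({z} : Set G))) : TyJ (P : Subgroup G) := by
  obtain ⟨B, M, x, c, k, h⟩ := h.exists_St fun l => tU (l ht)
  rcases h.cases hG ht t2 tU with ⟨c1, e, he⟩ | ⟨c1, hs, -⟩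
  · exact h.tyJ he c1
  · exact (c1 (h.c_one hG hs ha hC)).elim

end CL.NE
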