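import Cfsg.Agent.SYL.NE1

/-!
2-groups without normal elementary abelian subgroup of order eight whose normal four-group is fused:
the action of `T` on the homocyclic subgroup `B`.
-/

set_option autoImplicit false

namespace CL.NE

open Subgroup

variable {G : Type*} [Group G] {S T U B M : Subgroup G} {a : G →* G} {s z x : G} {k : ℕ}

theorem Ctx.surj [Finite G] (h : Ctx S T U a s z) (aM : ∀ y ∈ M, a y ∈ M)
    (fp : ∀ y ∈ M, a y = y → y = 1) {y : G} (hy : y ∈ M) : ∃ w ∈ M, w⁻¹ * a w = y := by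
  have := h.z1
  obtain ⟨w, e⟩ := Finite.surjective_of_injective
    (f := fun w : M => (⟨(w : G)⁻¹ * a w, mul_mem (inv_mem w.2) (aM w w.2)⟩ : M)) (fun v w e => by
      have e' : (v : G)⁻¹ * a v = (w : G)⁻¹ * a w := congrArg Subtype.val e
      refine Subtype.ext (mul_inv_eq_one.1 (fp _ (mul_mem v.2 (inv_mem w.2)) ?_))
      rw [map_mul, map_inv, ← mul_inv_cancel_left (v : G) (a v), e']; group) ⟨y, hy⟩
  exact ⟨w, w.2, congrArg Subtype.val e⟩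

theorem Ctx.fpf [Finite G] (h : Ctx S T U a s z) (MT : M ≤ T) (aM : ∀ y ∈ M, a y ∈ M)
    (fp : ∀ y ∈ M, a y = y → y = 1) {y : G} (hy : y ∈ M) :
    y * a y * a (a y) = 1 ∧ y * a y = a y * y := by
  have key : ∀ y ∈ M, y * a y * a (a y) = 1 := fun y hy => by
    obtain ⟨w, hw, rfl⟩ := h.surj aM fp hy
    simp only [map_mul, map_inv, h.a3 w (MT hw)]; group
  refine ⟨key y hy, ?_⟩
  have e1 := eq_inv_of_mul_eq_one_right (key y hy)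
  have e2 := key _ (inv_mem hy)
  simp only [map_inv] at e2
  rw [e1, inv_inv, ← mul_inv_rev, inv_mul_eq_one] at e2
  exact e2.symm

/-- the homocyclic subgroup of exponent `2 ^ (k + 1)` -/
structure Bx (S T U B : Subgroup G) (a : G →* G) (s z x : G) (k : ℕ) : Prop
    extends Ctx S T U a s z, Ab S T U B a where
  self : ∀ t ∈ T, (∀ b ∈ B, b * t = t * b) → t ∈ B
  xB : x ∈ B
  xz : x ^ 2 ^ k = z
  ex : ∀ b ∈ B, b ^ 2 ^ (k + 1) = 1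

theorem Ctx.exists_Bx [Finite G] (h : Ctx S T U a s z) : ∃ B x k, Bx S T U B a s z x k := by
  obtain ⟨B, hB, hs⟩ := h.exists_Ab
  obtain ⟨n, hn⟩ := IsPGroup.iff_card.1 h.p2
  have H : ∃ n, ∀ b ∈ B, b ^ 2 ^ n = 1 := ⟨n, fun b hb =>
    congrArg Subtype.val (hn ▸ pow_card_eq_one' (x := (⟨b, h.TS (hB.BT hb)⟩ : S)))⟩
  classical
  obtain ⟨k, hk⟩ := Nat.exists_eq_succ_of_ne_zero fun e : Nat.find H = 0 =>
    h.z1 (by simpa [e] using Nat.find_spec H z (hB.UB h.zU))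
  have h1 : ∀ b ∈ B, b ^ 2 ^ (k + 1) = 1 := by simpa [hk] using Nat.find_spec H
  have h2 := Nat.find_min H (m := k) (by omega)
  push Not at h2
  obtain ⟨b, hb, e⟩ := h2
  have hw := h.om hB (pow_mem hb (2 ^ k)) (by rw [← pow_two, ← pow_mul, ← pow_succ, h1 b hb])
  rcases h.memU hw e h.zU with e | e | e | e
  · exact (h.z1 e).elim
  · exact ⟨B, b, k, h, hB, hs, hb, e.symm, h1⟩
  · exact ⟨B, a b, k, h, hB, hs, hB.aB b hb, by rw [e, map_pow], h1⟩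
  · exact ⟨B, a (a b), k, h, hB, hs, hB.aB _ (hB.aB b hb), by rw [e, map_pow, map_pow], h1⟩

namespace Bx

variable (h : Bx S T U B a s z x k)
include h

theorem om' {b : G} (hb : b ∈ B) (e : b * b = 1) : b ∈ U := h.om h.toAb hb e

theorem fix {b : G} (hb : b ∈ B) (e : a b = b) : b = 1 := h.fixB h.toAb hb e

theorem nrm {b : G} (hb : b ∈ B) : b * a b * a (a b) = 1 :=
  h.fix (mul_mem (mul_mem hb (h.aB b hb)) (h.aB _ (h.aB b hb))) (by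
    rw [map_mul, map_mul, h.a3 b (h.BT hb), ← h.comm b hb _ (mul_mem (h.aB b hb) (h.aB _ (h.aB b hb))),
      mul_assoc])

theorem topU {b : G} (hb : b ∈ B) : b ^ 2 ^ k ∈ U :=
  h.om' (pow_mem hb _) (by rw [← pow_two, ← pow_mul, ← pow_succ, h.ex b hb])

theorem root {H : Subgroup G} (HB : H ≤ B) (hH : ∀ w ∈ U, ∃ y ∈ H, y ^ 2 ^ k = w) :
    ∀ j i, i + j = k + 1 → ∀ b ∈ B, b ^ 2 ^ j = 1 → ∃ y ∈ H, y ^ 2 ^ i = b := by
  intro j
  induction j with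
  | zero => exact fun i _ b _ e => ⟨1, one_mem _, by simpa using e.symm⟩
  | succ j ih =>
    intro i hi b hb e
    obtain ⟨y, hy, e1⟩ := hH _ (h.om' (pow_mem hb (2 ^ j)) (by rw [← pow_two, ← pow_mul, ← pow_succ, e]))
    have m := inv_mem (pow_mem (HB hy) (2 ^ i))
    obtain ⟨w, hw, e2⟩ := ih (i + 1) (by omega) _ (mul_mem hb m) (by
      rw [Commute.mul_pow (h.comm _ hb _ m), inv_pow, ← pow_mul, ← pow_add, show i + j = k by omega, e1,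
        mul_inv_cancel])
    refine ⟨w ^ 2 * y, mul_mem (pow_mem hw 2) hy, ?_⟩
    rw [Commute.mul_pow (h.comm _ (pow_mem (HB hw) 2) _ (HB hy)), ← pow_mul, ← pow_succ', e2,
      inv_mul_cancel_right]

theorem top (w : G) (hw : w ∈ U) : ∃ y ∈ B, y ^ 2 ^ k = w := by
  rcases h.mem w hw with rfl | rfl | rfl | rfl
  · exact ⟨1, one_mem _, one_pow _⟩
  · exact ⟨x, h.xB, h.xz⟩
  · exact ⟨a x, h.aB _ h.xB, by rw [← map_pow, h.xz]⟩
  · exact ⟨a (a x), h.aB _ (h.aB _ h.xB), by rw [← map_pow, ← map_pow, h.xz]⟩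

theorem sqrt {b : G} (hb : b ∈ B) (e : b ^ 2 ^ k = 1) : ∃ y ∈ B, y * y = b := by
  simpa [pow_two] using h.root le_rfl h.top k 1 (by omega) b hb e

theorem cls {b : G} (hb : b ∈ B) :
    ∃ y ∈ B, b = y * y ∨ b = x * (y * y) ∨ b = a x * (y * y) ∨ b = a (a x) * (y * y) := by
  have key : ∀ w ∈ B, b ^ 2 ^ k = w ^ 2 ^ k → ∃ y ∈ B, b = w * (y * y) := fun w hw e => by
    obtain ⟨y, hy, e'⟩ := h.sqrt (mul_mem (inv_mem hw) hb) (by
      rw [Commute.mul_pow (h.comm _ (inv_mem hw) _ hb), e, inv_pow, inv_mul_cancel])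
    exact ⟨y, hy, by rw [e', mul_inv_cancel_left]⟩
  rcases h.mem _ (h.topU hb) with e | e | e | e
  · exact (h.sqrt hb e).imp fun y hy => ⟨hy.1, .inl hy.2.symm⟩
  · exact (key x h.xB (by rw [e, h.xz])).imp fun y hy => ⟨hy.1, .inr (.inl hy.2)⟩
  · exact (key _ (h.aB _ h.xB) (by rw [e, ← map_pow, h.xz])).imp fun y hy => ⟨hy.1, .inr (.inr (.inl hy.2))⟩
  · exact (key _ (h.aB _ (h.aB _ h.xB)) (by rw [e, ← map_pow, ← map_pow, h.xz])).imp fun y hy =>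
      ⟨hy.1, .inr (.inr (.inr hy.2))⟩

theorem of_sq {i b : G} (hi : i ∈ B) (hb : b ∈ B) (e : b * b = i * i) : ∃ u ∈ U, b = i * u :=
  ⟨i⁻¹ * b, h.om' (mul_mem (inv_mem hi) hb) (by
    rw [mul_assoc, ← mul_assoc b, h.comm b hb _ (inv_mem hi), mul_assoc, e]; group), by group⟩

theorem cls4 {i b : G} (hi : i ∈ B) (iU : i * i ∈ U) (i1 : i ∉ U) (hb : b ∈ B) (bU : b * b ∈ U) :
    ∃ u ∈ U, b = u ∨ b = i * u ∨ b = a i * u ∨ b = a (a i) * u := by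
  rcases h.memU iU (fun e => i1 (h.om' hi e)) bU with e | e | e | e
  · exact ⟨b, h.om' hb e, .inl rfl⟩
  · exact (h.of_sq hi hb e).imp fun y hy => ⟨hy.1, .inr (.inl hy.2)⟩
  · exact (h.of_sq (h.aB _ hi) hb (by rw [e, map_mul])).imp fun y hy => ⟨hy.1, .inr (.inr (.inl hy.2))⟩
  · exact (h.of_sq (h.aB _ (h.aB _ hi)) hb (by rw [e, map_mul, map_mul])).imp fun y hy =>
      ⟨hy.1, .inr (.inr (.inr hy.2))⟩

theorem exists_fix [Finite G] {t : G} (e : t⁻¹ * a t ∈ B) : ∃ c, a c = c ∧ ∃ b ∈ B, t = c * b := by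
  obtain ⟨b, hb, e'⟩ := h.surj h.aB (fun _ => h.fix) e
  refine ⟨t * b⁻¹, ?_, b, hb, by group⟩
  rw [map_mul, map_inv, ← mul_inv_cancel_left t (a t), ← e']; group

theorem four_pow {b : G} (hb : b ∈ B) (bU : b ∉ U) : ∃ j, b ^ 2 ^ j ∉ U ∧ b ^ 2 ^ j * b ^ 2 ^ j ∈ U :=
  h.exists_last (P := (· ∈ U)) (one_mem _) (h.TS (h.BT hb)) bU

theorem ep_inv_left {t b : G} (ht : t ∈ T) (e : ep t b ∈ U) : ep t⁻¹ b = ep t b := by
  calc _ = (t⁻¹ * ep t b * t⁻¹⁻¹)⁻¹ := by simp only [ep]; group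
    _ = _ := by rw [h.cjU (inv_mem ht) e, h.inv_U e]

theorem ep_B {t b c : G} (hb : b ∈ B) (hc : c ∈ B) : ep (t * c) b = ep t b := by
  calc _ = t * (c * b) * c⁻¹ * t⁻¹ * b⁻¹ := by simp only [ep]; group
    _ = _ := by rw [h.comm c hc b hb]; simp only [ep]; group

theorem ep_a {t b : G} (hb : b ∈ T) : ep (a t) b = a (ep t (a (a b))) := by rw [map_ep, h.a3 b hb]

/-- the elements acting trivially on `B / U` -/
def T1 : Subgroup G where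
  carrier := {t | t ∈ T ∧ ∀ b ∈ B, ep t b ∈ U}
  one_mem' := ⟨one_mem _, by simp [ep]⟩
  mul_mem' := fun {t t'} ht ht' => ⟨mul_mem ht.1 ht'.1, fun b hb => by
    rw [h.ep_mul_left ht.1 (h.BT hb) (ht'.2 b hb)]; exact mul_mem (ht.2 b hb) (ht'.2 b hb)⟩
  inv_mem' := fun {t} ht => ⟨inv_mem ht.1, fun b hb => by
    rw [h.ep_inv_left ht.1 (ht.2 b hb)]; exact ht.2 b hb⟩

theorem B_T1 : B ≤ h.T1 := fun c hc => ⟨h.BT hc, fun b hb => by
  rw [ep_eq_one.2 (h.comm c hc b hb)]; exact one_mem _⟩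

theorem n_T1 (g : G) (hg : g ∈ S) (t : G) (ht : t ∈ h.T1) : g * t * g⁻¹ ∈ h.T1 :=
  ⟨h.nT g hg t ht.1, fun b hb => by
    convert h.nU g hg _ (ht.2 _ (h.nB _ (inv_mem hg) b hb)) using 1; simp only [ep]; group⟩

theorem a_T1 (t : G) (ht : t ∈ h.T1) : a t ∈ h.T1 := ⟨h.aT t ht.1, fun b hb => by
  rw [h.ep_a (h.BT hb)]; exact h.aU _ (ht.2 _ (h.aB _ (h.aB b hb)))⟩

theorem self' {t : G} (ht : t ∈ T) (e : ∀ b ∈ B, ep t b = 1) : t ∈ B :=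
  h.self t ht fun b hb => (ep_eq_one.1 (e b hb)).symm

theorem sq_T1 {t : G} (ht : t ∈ h.T1) : t * t ∈ B := h.self' (mul_mem ht.1 ht.1) fun b hb => by
  rw [h.ep_mul_left ht.1 (h.BT hb) (ht.2 b hb), h.sq _ (ht.2 b hb)]

theorem cen_T1 {t g : G} (ht : t ∈ h.T1) (hg : g ∈ T) : t⁻¹ * (g * t * g⁻¹) ∈ B := by
  have h1 := h.n_T1 g (h.TS hg) t ht
  refine h.self' (mul_mem (inv_mem ht.1) h1.1) fun b hb => ?_
  have h2 := h.nB _ (inv_mem (h.TS hg)) b hb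
  obtain ⟨y, hy, e⟩ := h.sqrt (mul_mem (inv_mem hb) h2) (by
    rw [Commute.mul_pow (h.comm _ (inv_mem hb) _ h2), conj_pow, h.cjU (inv_mem hg) (h.topU hb), inv_pow,
      inv_mul_cancel])
  have e1 : ep (g * t * g⁻¹) b = ep t b := by
    calc _ = g * ep t (b * (b⁻¹ * (g⁻¹ * b * g⁻¹⁻¹))) * g⁻¹ := by simp only [ep]; group
      _ = _ := by
        rw [← e, h.ep_mul_right (h.BT hb) (ht.2 _ (mul_mem hy hy)), h.ep_sq (h.BT hy) (ht.2 y hy), mul_one,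
          h.cjU hg (ht.2 b hb)]
  rw [h.ep_mul_left (inv_mem ht.1) (h.BT hb) (h1.2 b hb), h.ep_inv_left ht.1 (ht.2 b hb), e1,
    h.sq _ (ht.2 b hb)]

theorem semiB {t b : G} (ht : t ∈ h.T1) (hN : t * a t * a (a t) = 1) (hb : b ∈ B) :
    ep t (a b) = a (a (ep t b)) :=
  h.semi ht.1 (h.BT hb) (by rw [hN]; simp [ep]) (h.nrm hb) (ht.2 b hb) (ht.2 _ (h.aB b hb))

theorem ep_cls {t y w : G} (ht : t ∈ h.T1) (hw : w ∈ B) (hy : y ∈ B) : ep t (w * (y * y)) = ep t w := by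
  rw [h.ep_mul_right (h.BT hw) (ht.2 _ (mul_mem hy hy)), h.ep_sq (h.BT hy) (ht.2 y hy), mul_one]

theorem vanish {t : G} (ht : t ∈ h.T1) (hN : t * a t * a (a t) = 1) (e : ep t x = 1) : t ∈ B :=
  h.self' ht.1 fun b hb => by
    have x1 := h.aB _ h.xB
    obtain ⟨y, hy, rfl | rfl | rfl | rfl⟩ := h.cls hb
    · exact h.ep_sq (h.BT hy) (ht.2 y hy)
    · rw [h.ep_cls ht h.xB hy, e]
    · rw [h.ep_cls ht x1 hy, h.semiB ht hN h.xB, e, map_one, map_one]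
    · rw [h.ep_cls ht (h.aB _ x1) hy, h.semiB ht hN x1, h.semiB ht hN h.xB, e]; simp

theorem ker {t b : G} (ht : t ∈ h.T1) (hN : t * a t * a (a t) = 1) (tB : t ∉ B) (hb : b ∈ B)
    (e : ep t b = 1) : ∃ y ∈ B, y * y = b := by
  have x1 := h.aB _ h.xB
  have i : ∀ u ∈ U, a u = 1 → u = 1 := fun u hu e => h.inj (h.UT hu) (one_mem _) (by rw [e, map_one])
  have p := ht.2 x h.xB
  obtain ⟨y, hy, rfl | rfl | rfl | rfl⟩ := h.cls hb
  · exact ⟨y, hy, rfl⟩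
  all_goals refine (tB (h.vanish ht hN ?_)).elim
  · rwa [h.ep_cls ht h.xB hy] at e
  · rw [h.ep_cls ht x1 hy, h.semiB ht hN h.xB] at e
    exact i _ p (i _ (h.aU _ p) e)
  · rw [h.ep_cls ht (h.aB _ x1) hy, h.semiB ht hN x1, h.semiB ht hN h.xB, h.a3 _ (h.UT (h.aU _ p))] at e
    exact i _ p e

theorem four (M1 : M ≤ h.T1) (aM : ∀ y ∈ M, a y ∈ M) (hN : ∀ y ∈ M, y * a y * a (a y) = 1) {t t' : G}
    (ht : t ∈ M) (tB : t ∉ B) (ht' : t' ∈ M) :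
    t' ∈ B ∨ t⁻¹ * t' ∈ B ∨ (a t)⁻¹ * t' ∈ B ∨ (a (a t))⁻¹ * t' ∈ B := by
  have p := (M1 ht).2 x h.xB
  have xT := h.BT h.xB
  have key : ∀ r ∈ M, ep t' x = ep r x → r⁻¹ * t' ∈ B := fun r hr e =>
    h.vanish (M1 (mul_mem (inv_mem hr) ht')) (hN _ (mul_mem (inv_mem hr) ht')) (by
      rw [h.ep_mul_left (inv_mem (M1 hr).1) xT ((M1 ht').2 x h.xB),
        h.ep_inv_left (M1 hr).1 ((M1 hr).2 x h.xB), e, h.sq _ ((M1 hr).2 x h.xB)])
  have e1 : ∀ t ∈ M, ep (a t) x = a (a (ep t x)) := fun t ht => by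
    rw [h.ep_a xT, h.semiB (M1 ht) (hN t ht) (h.aB _ h.xB), h.semiB (M1 ht) (hN t ht) h.xB,
      h.a3 _ (h.UT (h.aU _ (h.aU _ ((M1 ht).2 x h.xB))))]
  rcases h.memU p (fun e => tB (h.vanish (M1 ht) (hN t ht) e)) ((M1 ht').2 x h.xB) with e | e | e | e
  · exact .inl (h.vanish (M1 ht') (hN _ ht') e)
  · exact .inr (.inl (key t ht e))
  · exact .inr (.inr (.inr (key _ (aM _ (aM t ht)) (by
      rw [e, e1 _ (aM t ht), e1 t ht, h.a3 _ (h.UT (h.aU _ p))]))))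
  · exact .inr (.inr (.inl (key _ (aM t ht) (by rw [e, e1 t ht]))))

theorem sqrt4 (hk : 2 ≤ k) {b : G} (hb : b ∈ B) (e : b * b ∈ U) : ∃ y ∈ B, y * y = b := by
  obtain ⟨j, rfl⟩ := Nat.exists_eq_add_of_le hk
  exact h.sqrt hb (by rw [pow_add, pow_mul, show b ^ 2 ^ 2 = b * b * (b * b) by simp [pow_succ, mul_assoc], h.sq _ e, one_pow])

theorem invol (hk : 2 ≤ k) {t b : G} (ht : t ∈ h.T1) (t2 : t * t = 1) (hb : b ∈ B)
    (e : t * b * (t * b) = 1) : b ∈ U := by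
  have e1 : ep t b * (b * b) = 1 := by
    calc _ = t * b * (t * t)⁻¹ * (t * b) := by simp only [ep]; group
      _ = _ := by rw [t2, inv_one, mul_one, e]
  obtain ⟨y, hy, rfl⟩ := h.sqrt4 hk hb (by
    rw [eq_inv_of_mul_eq_one_right e1]; exact inv_mem (ht.2 b hb))
  rw [h.ep_sq (h.BT hy) (ht.2 y hy), one_mul] at e1
  exact h.om' hb e1

theorem comm_U {c c' u u' : G} (hc : c ∈ T) (hc' : c' ∈ T) (hu : u ∈ U) (hu' : u' ∈ U) (e : c * c' = c' * c) :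
    c * u * (c' * u') = c' * u' * (c * u) := by
  calc _ = c * (u * c') * u' := by group
    _ = c * c' * (u * u') := by rw [← h.cen c' hc' u hu]; group
    _ = c' * (c * u') * u := by rw [e, h.cen u (h.UT hu) u' hu']; group
    _ = _ := by rw [h.cen c hc u' hu']; group

theorem T1_le [Finite G] (hk : 2 ≤ k) : h.T1 ≤ B := by
  have f2 : ∀ c ∈ h.T1, a c = c → c * c = 1 := fun c hc e => h.fix (h.sq_T1 hc) (by rw [map_mul, e])
  have dec : ∀ y, y ∈ h.T1 ∧ y * y = 1 ∧ y ∈ Fx h.toAb h.TS → ∃ c ∈ h.T1, a c = c ∧ ∃ u ∈ U, y = c * u := by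
    rintro y ⟨h1, h2, h3⟩
    obtain ⟨c, e, b, hb, rfl⟩ := h.exists_fix h3.2
    have hc : c ∈ h.T1 := by simpa using mul_mem h1 (inv_mem (h.B_T1 hb))
    exact ⟨c, hc, e, b, h.invol hk hc (f2 c hc e) hb h2, rfl⟩
  have fp : ∀ c ∈ h.T1, a c = c → c = 1 := fun c hc e => h.fixU (h.kt'
    (J := fun y => y ∈ h.T1 ∧ y * y = 1 ∧ y ∈ Fx h.toAb h.TS) (fun y hy => hy.1.1)
    (fun g hg y hy => ⟨h.n_T1 g hg y hy.1, by rw [conj_mul, hy.2.1]; simp,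
      (h.inv_of (J := fun y => y ∈ h.T1 ∧ y ∈ Fx h.toAb h.TS)
        (fun g hg y hy => ⟨h.n_T1 g (h.TS hg) y hy.1, h.conj_Fx h.toAb hy.2 (h.cen_T1 hy.1 hg)⟩)
        (fun y hy => ⟨h.n_T1 s h.hs y hy.1, h.s_Fx h.toAb hy.2⟩) g hg y ⟨hy.1, hy.2.2⟩).2⟩)
    (fun y hy => hy.2.1) (fun y y' hy hy' => by
      obtain ⟨c, hc, e, u, hu, rfl⟩ := dec y hy
      obtain ⟨c', hc', e', u', hu', rfl⟩ := dec y' hy'
      refine h.comm_U hc.1 hc'.1 hu hu' ?_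
      rw [← inv_eq_of_mul_eq_one_right (f2 _ (mul_mem hc hc') (by rw [map_mul, e, e'])), mul_inv_rev,
        inv_eq_of_mul_eq_one_right (f2 c hc e), inv_eq_of_mul_eq_one_right (f2 c' hc' e')])
    ⟨hc, f2 c hc e, hc.1, by rw [e, inv_mul_cancel]; exact one_mem _⟩) e
  have hN := fun y (hy : y ∈ h.T1) => h.fpf (M := h.T1) (fun _ hx => hx.1) h.a_T1 fp hy
  intro t ht
  by_contra tB
  obtain ⟨b, hb, e⟩ := h.ker ht (hN t ht).1 tB (h.sq_T1 ht) (ep_eq_one.2 (mul_assoc _ _ _).symm)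
  have e1 : t * b⁻¹ * (t * b⁻¹) = ep t b⁻¹ := by
    calc _ = t * b⁻¹ * t⁻¹ * (t * t) * b⁻¹ := by group
      _ = _ := by rw [← e]; simp only [ep]; group
  have p := ht.2 _ (inv_mem hb)
  obtain ⟨y, hy, e2⟩ := h.sqrt4 hk (h.UB p) (by rw [h.sq _ p]; exact one_mem _)
  obtain ⟨w, hw, rfl⟩ := h.sqrt4 hk hy (e2 ▸ p)
  have t1 : t * b⁻¹ ∈ h.T1 := mul_mem ht (inv_mem (h.B_T1 hb))
  have c := ep_eq_one.1 (h.ep_sq (h.BT (inv_mem hw)) (t1.2 _ (inv_mem hw)))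
  have t2 : t * b⁻¹ * (w⁻¹ * w⁻¹) ∈ h.T1 := mul_mem t1 (h.B_T1 (mul_mem (inv_mem hw) (inv_mem hw)))
  have e3 : t * b⁻¹ * (w⁻¹ * w⁻¹) * (t * b⁻¹ * (w⁻¹ * w⁻¹)) = 1 := by
    rw [mul_assoc, ← mul_assoc (w⁻¹ * w⁻¹), ← c, mul_assoc (t * b⁻¹), ← mul_assoc, e1, ← e2]; group
  have rB : t * b⁻¹ * (w⁻¹ * w⁻¹) ∉ B := fun hr => tB (by
    convert mul_mem (mul_mem hr (mul_mem hw hw)) hb using 1; group)
  generalize t * b⁻¹ * (w⁻¹ * w⁻¹) = r at t2 e3 rB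
  have r1 := h.a_T1 r t2
  have r2 := h.a_T1 _ r1
  have dec' : ∀ y, y ∈ h.T1 ∧ y * y = 1 → ∃ c, (c = 1 ∨ c = r ∨ c = a r ∨ c = a (a r)) ∧ ∃ u ∈ U, y = c * u := by
    rintro y ⟨h1, h2⟩
    have k : ∀ c ∈ h.T1, c * c = 1 → c⁻¹ * y ∈ B → ∃ u ∈ U, y = c * u := fun c hc c2 e =>
      ⟨_, h.invol hk hc c2 e (by rwa [mul_inv_cancel_left]), by group⟩
    rcases h.four le_rfl h.a_T1 (fun y hy => (hN y hy).1) t2 rB h1 with e | e | e | e
    · exact ⟨1, .inl rfl, y, h.om' e h2, by group⟩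
    · exact ⟨_, .inr (.inl rfl), k r t2 e3 e⟩
    · exact ⟨_, .inr (.inr (.inl rfl)), k _ r1 (by rw [← map_mul, e3, map_one]) e⟩
    · exact ⟨_, .inr (.inr (.inr rfl)), k _ r2 (by rw [← map_mul, ← map_mul, e3, map_one, map_one]) e⟩
  refine rB (h.UB (h.kt' (J := fun y => y ∈ h.T1 ∧ y * y = 1) (fun y hy => hy.1.1)
    (fun g hg y hy => ⟨h.n_T1 g hg y hy.1, by rw [conj_mul, hy.2]; simp⟩) (fun y hy => hy.2)
    (fun y y' hy hy' => ?_) ⟨t2, e3⟩))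
  obtain ⟨c, hc, u, hu, rfl⟩ := dec' y hy
  obtain ⟨c', hc', u', hu', rfl⟩ := dec' y' hy'
  have c1 := (hN r t2).2
  have c2 := (hN _ r1).2
  have c3 := (hN _ r2).2
  rw [h.a3 r t2.1] at c3
  refine h.comm_U ?_ ?_ hu hu' ?_
  · rcases hc with rfl | rfl | rfl | rfl; exacts [one_mem _, t2.1, r1.1, r2.1]
  · rcases hc' with rfl | rfl | rfl | rfl; exacts [one_mem _, t2.1, r1.1, r2.1]
  · rcases hc with rfl | rfl | rfl | rfl <;> rcases hc' with rfl | rfl | rfl | rfl <;> simp [c1, c2, c3]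

end Bx

end CL.NE
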