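import Cfsg.Agent.SYL.NE2

/-!
2-groups without normal elementary abelian subgroup of order eight whose normal four-group is fused:
the structure of `T`.
-/

set_option autoImplicit false

namespace CL.NE

open Subgroup

variable {G : Type*} [Group G] {S T U B M : Subgroup G} {a : G →* G} {s z x c i : G} {k : ℕ}

namespace Bx

variable (h : Bx S T U B a s z x k)
include h

theorem ep4 {t b : G} (ht : t ∈ T) (hb : b ∈ B) (e : b * b ∈ U) : ep t b ∈ U := by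
  have h1 := h.nB t (h.TS ht) b hb
  refine h.om' (mul_mem h1 (inv_mem hb)) ?_
  rw [ep, mul_assoc, ← mul_assoc b⁻¹, h.comm _ (inv_mem hb) _ h1, mul_assoc _ b⁻¹ b⁻¹, ← mul_assoc, conj_mul,
    h.cjU ht e]
  group

theorem sq_k1 (hk : k = 1) {b : G} (hb : b ∈ B) : b * b ∈ U := by
  subst hk; simpa [pow_two] using h.topU hb

theorem T1_k1 (hk : k = 1) {t : G} (ht : t ∈ T) : t ∈ h.T1 :=
  ⟨ht, fun _ hb => h.ep4 ht hb (h.sq_k1 hk hb)⟩

theorem inverts {t b : G} (t2 : t * t ∈ B) (hb : b ∈ B) : t * ep t b * t⁻¹ = (ep t b)⁻¹ := by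
  have := h.comm _ t2 b hb
  calc _ = t * t * b * (t * t)⁻¹ * (t * b⁻¹ * t⁻¹) := by simp only [ep]; group
    _ = _ := by rw [this]; simp only [ep]; group

theorem self4 [Finite G] (hk : 1 ≤ k) {t : G} (ht : t ∈ T) (e : ∀ b ∈ B, b * b ∈ U → ep t b = 1) : t ∈ B := by
  rcases hk.eq_or_lt with hk | hk
  · exact h.self' ht fun b hb => e b hb (h.sq_k1 hk.symm hb)
  by_contra tB
  obtain ⟨j, h1, h2⟩ := h.exists_last (P := (· ∈ B)) (one_mem _) (h.TS ht) tB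
  refine h1 (h.T1_le hk ⟨pow_mem ht _, fun b hb => by_contra fun hd => ?_⟩)
  have dB : ep (t ^ 2 ^ j) b ∈ B := mul_mem (h.nB _ (pow_mem (h.TS ht) _) b hb) (inv_mem hb)
  obtain ⟨l, h3, h4⟩ := h.four_pow dB hd
  have e1 : Commute t (ep (t ^ 2 ^ j) b ^ 2 ^ l) := ep_eq_one.1 (e _ (pow_mem dB _) h4)
  have e2 := congrArg (· ^ 2 ^ l) (h.inverts h2 hb)
  simp only [conj_pow, inv_pow, (e1.pow_left _).eq, mul_inv_cancel_right] at e2
  exact h3 (h.om' (pow_mem dB _) (mul_eq_one_iff_eq_inv.2 e2))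

theorem sqT [Finite G] (hk : 1 ≤ k) {t : G} (ht : t ∈ T) : t * t ∈ B :=
  h.self4 hk (mul_mem ht ht) fun b hb e => by
    rw [h.ep_mul_left ht (h.BT hb) (h.ep4 ht hb e), h.sq _ (h.ep4 ht hb e)]

theorem cenT [Finite G] (hk : 1 ≤ k) {t g : G} (ht : t ∈ T) (hg : g ∈ T) : t⁻¹ * (g * t * g⁻¹) ∈ B := by
  convert mul_mem (mul_mem (h.sqT hk (mul_mem (inv_mem ht) hg))
    (h.nB _ (inv_mem (h.TS hg)) _ (h.sqT hk ht))) (inv_mem (h.sqT hk hg)) using 1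
  group

theorem exists_i (hk : 1 ≤ k) : ∃ i ∈ B, i * i = z := by
  obtain ⟨j, rfl⟩ := Nat.exists_eq_add_of_le' hk
  exact ⟨x ^ 2 ^ j, pow_mem h.xB _, by rw [← pow_two, ← pow_mul, ← pow_succ, h.xz]⟩

theorem sq_notU {i p : G} (e : i * i = p) (p1 : p ≠ 1) : i ∉ U := fun hi => p1 (e ▸ h.sq i hi)

theorem ep_U' {t w u : G} (ht : t ∈ T) (hw : w ∈ T) (hu : u ∈ U) : ep t (w * u) = ep t w := by
  rw [h.ep_mul_right hw (by rw [h.ep_U ht hu]; exact one_mem _), h.ep_U ht hu, mul_one]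

theorem mulU_sq {w u : G} (hw : w ∈ T) (hu : u ∈ U) : w * u * (w * u) = w * w := by
  rw [mul_assoc, ← mul_assoc u, ← h.cen w hw u hu, mul_assoc, h.sq u hu, mul_one]

theorem fix_sq [Finite G] (hk : 1 ≤ k) (hc : c ∈ T) (e : a c = c) : c * c = 1 :=
  h.fix (h.sqT hk hc) (by rw [map_mul, e])

theorem fix_comm [Finite G] (hk : 1 ≤ k) {c' : G} (hc : c ∈ T) (e : a c = c) (hc' : c' ∈ T) (e' : a c' = c') :
    c * c' = c' * c := by
  rw [← inv_eq_of_mul_eq_one_right (h.fix_sq hk (mul_mem hc hc') (by rw [map_mul, e, e'])), mul_inv_rev,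
    inv_eq_of_mul_eq_one_right (h.fix_sq hk hc e), inv_eq_of_mul_eq_one_right (h.fix_sq hk hc' e')]

/-- a fixed point of `a` is trivial or inverts the elements of order four of `B` -/
theorem fix_inv [Finite G] (hk : 1 ≤ k) (hc : c ∈ T) (e : a c = c) :
    c = 1 ∨ ∀ b ∈ B, b * b ∈ U → ep c b = b * b := by
  obtain ⟨i, hi, i2⟩ := h.exists_i hk
  have iT := h.BT hi
  have p := h.ep4 hc hi (i2 ▸ h.zU)
  have e1 : ∀ b, ep c (a b) = a (ep c b) := fun b => by rw [map_ep, e]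
  have cl : ∀ b ∈ B, b * b ∈ U → b ∈ U ∨ (ep c b = ep c i ∧ b * b = z) ∨
      (ep c b = a (ep c i) ∧ b * b = a z) ∨ (ep c b = a (a (ep c i)) ∧ b * b = a (a z)) := fun b hb bU => by
    obtain ⟨u, hu, rfl | rfl | rfl | rfl⟩ := h.cls4 hi (i2 ▸ h.zU) (h.sq_notU i2 h.z1) hb bU
    · exact .inl hu
    · exact .inr (.inl ⟨h.ep_U' hc iT hu, by rw [h.mulU_sq iT hu, i2]⟩)
    · exact .inr (.inr (.inl ⟨by rw [h.ep_U' hc (h.aT _ iT) hu, e1],
        by rw [h.mulU_sq (h.aT _ iT) hu, ← map_mul, i2]⟩))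
    · exact .inr (.inr (.inr ⟨by rw [h.ep_U' hc (h.aT _ (h.aT _ iT)) hu, e1, e1],
        by rw [h.mulU_sq (h.aT _ (h.aT _ iT)) hu, ← map_mul, ← map_mul, i2]⟩))
  by_cases p1 : ep c i = 1
  · refine .inl (h.fix (h.self4 hk hc fun b hb bU => ?_) e)
    rcases cl b hb bU with k | k | k | k
    · exact h.ep_U hc k
    all_goals simp [k.1, p1]
  by_cases pz : ep c i = z
  · refine .inr fun b hb bU => ?_
    rcases cl b hb bU with k | k | k | k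
    · rw [h.ep_U hc k, h.sq b k]
    all_goals rw [k.1, k.2, pz]
  refine .inl (h.fixU (h.kt' (J := fun y => y ∈ Fx h.toAb h.TS ∧ y * y = 1 ∧
    ∀ b ∈ B, b * b ∈ U → (ep y b = 1 ∨ ep y b = b * b) → b ∈ U) (fun y hy => hy.1.1)
    (fun g hg y hy => ⟨h.inv_of (J := (· ∈ Fx h.toAb h.TS))
      (fun g hg y hy => h.conj_Fx h.toAb hy (h.cenT hk hy.1 hg)) (fun y => h.s_Fx h.toAb) g hg y hy.1,
      by rw [conj_mul, hy.2.1]; simp, fun b hb bU k => ?_⟩) (fun y hy => hy.2.1) (fun y y' hy hy' => ?_)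
    ⟨⟨hc, by rw [e, inv_mul_cancel]; exact one_mem _⟩, h.fix_sq hk hc e, fun b hb bU k => ?_⟩) e)
  · have := h.nU g hg _ (hy.2.2 _ (h.nB _ (inv_mem hg) b hb) (by
      rw [conj_mul]; exact h.nU _ (inv_mem hg) _ bU) (by
      have e2 : ep y (g⁻¹ * b * g⁻¹⁻¹) = g⁻¹ * ep (g * y * g⁻¹) b * g⁻¹⁻¹ := by simp only [ep]; group
      rw [e2, conj_mul]
      exact k.imp (fun k => by rw [k]; simp) fun k => by rw [k]))
    simpa [mul_assoc] using this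
  · have dec : ∀ y, y ∈ Fx h.toAb h.TS ∧ y * y = 1 ∧
        (∀ b ∈ B, b * b ∈ U → (ep y b = 1 ∨ ep y b = b * b) → b ∈ U) →
        ∃ c ∈ T, a c = c ∧ ∃ u ∈ U, y = c * u := by
      rintro y ⟨h1, h2, h3⟩
      obtain ⟨c, e, b, hb, rfl⟩ := h.exists_fix h1.2
      have hc : c ∈ T := by simpa using mul_mem h1.1 (inv_mem (h.BT hb))
      refine ⟨c, hc, e, b, by_contra fun bU => ?_, rfl⟩
      obtain ⟨l, h4, h5⟩ := h.four_pow hb bU
      have e2 : c * b * c⁻¹ = b⁻¹ := by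
        rw [inv_eq_of_mul_eq_one_right (h.fix_sq hk hc e), ← mul_eq_one_iff_eq_inv, mul_assoc, h2]
      refine h4 (h3 _ (pow_mem hb _) h5 (.inr ?_))
      rw [h.ep_B (pow_mem hb _) hb, ep, ← conj_pow, e2, inv_pow, ← mul_inv_rev, h.inv_U h5]
    obtain ⟨c, hc, e, u, hu, rfl⟩ := dec y hy
    obtain ⟨c', hc', e', u', hu', rfl⟩ := dec y' hy'
    exact h.comm_U hc hc' hu hu' (h.fix_comm hk hc e hc' e')
  · have j : ∀ u ∈ U, ∀ v ∈ U, a u = a v → u = v := fun u hu v hv => h.inj (h.UT hu) (h.UT hv)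
    rcases cl b hb bU with l | l | l | l
    · exact l
    all_goals rw [l.1, l.2] at k; exfalso
    · tauto
    · exact k.elim (fun k => p1 (j _ p _ (one_mem _) (by simpa using k))) fun k => pz (j _ p _ h.zU k)
    · exact k.elim (fun k => p1 (j _ p _ (one_mem _) (j _ (h.aU _ p) _ (by simp) (by simpa using k))))
        fun k => pz (j _ p _ h.zU (j _ (h.aU _ p) _ h.azU k))

/-- the elements acting semilinearly -/
def Mx : Subgroup G where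
  carrier := {t | t ∈ T ∧ ∀ b ∈ B, b * b ∈ U → ep t (a b) = a (a (ep t b))}
  one_mem' := ⟨one_mem _, by simp [ep]⟩
  mul_mem' := fun {t t'} ht ht' => ⟨mul_mem ht.1 ht'.1, fun b hb e => by
    rw [h.ep_mul_left ht.1 (h.BT hb) (h.ep4 ht'.1 hb e), h.ep_mul_left ht.1 (h.BT (h.aB b hb))
      (h.ep4 ht'.1 (h.aB b hb) (by rw [← map_mul]; exact h.aU _ e)), ht.2 b hb e, ht'.2 b hb e,
      map_mul, map_mul]⟩
  inv_mem' := fun {t} ht => ⟨inv_mem ht.1, fun b hb e => by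
    rw [h.ep_inv_left ht.1 (h.ep4 ht.1 hb e), h.ep_inv_left ht.1
      (h.ep4 ht.1 (h.aB b hb) (by rw [← map_mul]; exact h.aU _ e)), ht.2 b hb e]⟩

theorem asq {b : G} (e : b * b ∈ U) : a b * a b ∈ U := by rw [← map_mul]; exact h.aU _ e

theorem a_Mx (t : G) (ht : t ∈ h.Mx) : a t ∈ h.Mx := ⟨h.aT t ht.1, fun b hb e => by
  rw [← map_ep, h.ep_a (h.BT hb), ht.2 _ (h.aB b hb) (h.asq e), ht.2 b hb e,
    h.a3 _ (h.UT (h.aU _ (h.ep4 ht.1 hb e))), h.a3 _ (h.UT (h.aU _ (h.ep4 ht.1 hb e)))]⟩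

theorem Mx_ep [Finite G] (hk : 1 ≤ k) {t : G} (ht : t ∈ h.Mx) (hi : i ∈ B) (iU : i * i ∈ U) (i1 : i ∉ U)
    (e : ep t i = 1) : t ∈ B := h.self4 hk ht.1 fun b hb bU => by
  have iT := h.BT hi
  obtain ⟨u, hu, rfl | rfl | rfl | rfl⟩ := h.cls4 hi iU i1 hb bU
  · exact h.ep_U ht.1 hu
  · rw [h.ep_U' ht.1 iT hu, e]
  · rw [h.ep_U' ht.1 (h.aT _ iT) hu, ht.2 i hi iU, e, map_one, map_one]
  · rw [h.ep_U' ht.1 (h.aT _ (h.aT _ iT)) hu, ht.2 _ (h.aB _ hi) (h.asq iU), ht.2 i hi iU, e]; simp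

theorem Mx_fp [Finite G] (hk : 1 ≤ k) (y : G) (hy : y ∈ h.Mx) (e : a y = y) : y = 1 := by
  obtain ⟨i, hi, i2⟩ := h.exists_i hk
  have p := h.ep4 hy.1 hi (i2 ▸ h.zU)
  refine h.fix (h.Mx_ep hk hy hi (i2 ▸ h.zU) (h.sq_notU i2 h.z1) (h.fixU p ?_)) e
  refine h.inj (h.UT (h.aU _ p)) (h.UT p) ?_
  rw [← hy.2 i hi (i2 ▸ h.zU), map_ep, e]

theorem mem_Mx {t : G} (ht : t ∈ T) (hN : t * a t * a (a t) = 1) : t ∈ h.Mx := ⟨ht, fun b hb e =>
  h.semi ht (h.BT hb) (by rw [hN]; simp [ep]) (h.nrm hb) (h.ep4 ht hb e) (h.ep4 ht (h.aB b hb) (h.asq e))⟩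

theorem B_Mx : B ≤ h.Mx := fun _ hb => h.mem_Mx (h.BT hb) (h.nrm hb)

theorem n_Mx [Finite G] (hk : 1 ≤ k) : ∀ g ∈ S, ∀ t ∈ h.Mx, g * t * g⁻¹ ∈ h.Mx :=
  h.inv_of (J := (· ∈ h.Mx)) (fun g hg t ht => by
    simpa using mul_mem ht (h.B_Mx (h.cenT hk ht.1 hg))) fun t ht => by
    have hN := fun y (hy : y ∈ h.Mx) => h.fpf (M := h.Mx) (fun _ hx => hx.1) h.a_Mx (h.Mx_fp hk) hy
    refine h.mem_Mx (h.nT s h.hs t ht.1) ?_
    rcases h.sa with e | e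
    · rw [e t ht.1, e _ (h.aT t ht.1), conj_mul, conj_mul, (hN t ht).1]; simp
    · rw [e t ht.1, e _ (h.aT _ (h.aT t ht.1)), h.a3 _ (h.aT t ht.1), conj_mul, conj_mul, mul_assoc t,
        ← (hN _ (h.a_Mx t ht)).2, ← mul_assoc t, (hN t ht).1]; simp

theorem dec_Mx [Finite G] (hk : 1 ≤ k) {t : G} (ht : t ∈ T) : ∃ c ∈ T, a c = c ∧ c⁻¹ * t ∈ h.Mx := by
  have t1 := h.aT t ht
  have t2 := h.aT _ t1
  have hr : a t * a (a t) ∈ h.Mx := ⟨mul_mem t1 t2, fun b hb e => by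
    have b1 := h.aB b hb
    have p0 := h.ep4 ht hb e
    have p1 := h.ep4 ht b1 (h.asq e)
    have p2 := h.ep4 ht (h.aB _ b1) (h.asq (h.asq e))
    have e0 : ep t b = ep t (a b) * ep t (a (a b)) := by
      have := h.nrm hb
      rw [mul_assoc, mul_eq_one_iff_eq_inv] at this
      rw [← h.ep_mul_right (h.BT b1) p2, ← h.ep_inv_right (mul_mem (h.BT b1) (h.aT _ (h.BT b1)))
        (by rw [h.ep_mul_right (h.BT b1) p2]; exact mul_mem p1 p2), ← this]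
    have e1 : ep (a (a t)) b = a (a (ep t (a b))) := by rw [map_ep, map_ep, h.a3 b (h.BT hb)]
    rw [h.ep_mul_left t1 (h.BT hb) (h.ep4 t2 hb e), h.ep_mul_left t1 (h.BT b1) (h.ep4 t2 b1 (h.asq e)),
      h.ep_a (h.BT hb), e1, ← map_ep, ← map_ep a (a t) b, h.ep_a (h.BT hb), e0, map_mul, map_mul, map_mul,
      h.a3 _ (h.UT p2), h.a3 _ (h.UT (h.aU _ p1)), mul_assoc, h.mulU (h.aU _ p2), h.a3 _ (h.UT p2),
      h.cen _ (h.UT p2) _ (h.aU _ p1)]⟩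
  have hn := mul_mem (mul_mem ht t1) t2
  obtain ⟨c, e, b, hb, e'⟩ := h.exists_fix (t := t * a t * a (a t)) (by
    have := h.cenT hk hn (inv_mem ht)
    rwa [map_mul, map_mul, h.a3 t ht, show a t * a (a t) * t = t⁻¹ * (t * a t * a (a t)) * t⁻¹⁻¹ by group])
  refine ⟨c, by simpa [e'] using mul_mem hn (inv_mem (h.BT hb)), e, ?_⟩
  convert mul_mem (h.B_Mx hb) (inv_mem hr) using 1
  rw [inv_mul_eq_iff_eq_mul, ← mul_assoc, ← e']; group

theorem Mx_le [Finite G] (hk : 2 ≤ k) : h.Mx ≤ B := fun t ht => by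
  have key : ∀ j ∈ B, j * j ∈ U → ∃ d ∈ B, d * d = ep t j ∧ ep t d = ep t j := fun j hj e => by
    obtain ⟨y, hy, rfl⟩ := h.sqrt4 hk hj e
    have h1 := h.nB t (h.TS ht.1) y hy
    have e1 : ep t y * ep t y = ep t (y * y) := by
      rw [ep, mul_assoc, ← mul_assoc y⁻¹, h.comm _ (inv_mem hy) _ h1, ep]; group
    refine ⟨ep t y, mul_mem h1 (inv_mem hy), e1, ?_⟩
    rw [ep, h.inverts (h.sqT (by omega) ht.1) hy, ← mul_inv_rev, e1, h.inv_U (h.ep4 ht.1 hj e)]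
  obtain ⟨i, hi, i2⟩ := h.exists_i (by omega)
  have p := h.ep4 ht.1 hi (i2 ▸ h.zU)
  obtain ⟨d, hd, e1, e2⟩ := key i hi (i2 ▸ h.zU)
  have dU : d * d ∈ U := e1 ▸ p
  obtain ⟨d', hd', e3, e4⟩ := key _ (h.aB d hd) (h.asq dU)
  rw [ht.2 d hd dU, e2] at e3 e4
  obtain ⟨u, hu, rfl⟩ := h.of_sq (h.aB _ (h.aB d hd)) hd' (by rw [e3, ← map_mul, ← map_mul, e1])
  rw [h.ep_U' ht.1 (h.aT _ (h.aT _ (h.BT hd))) hu, ht.2 _ (h.aB d hd) (h.asq dU), ht.2 d hd dU, e2,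
    h.a3 _ (h.UT (h.aU _ p))] at e4
  exact h.Mx_ep (by omega) ht hi (i2 ▸ h.zU) (h.sq_notU i2 h.z1)
    (h.fixU p (h.inj (h.UT (h.aU _ p)) (h.UT p) e4.symm))

end Bx

/-- the structure of `T` -/
structure St (S T U B M : Subgroup G) (a : G →* G) (s z x c : G) (k : ℕ) : Prop
    extends Bx S T U B a s z x k where
  k1 : 1 ≤ k
  BM : B ≤ M
  MT : M ≤ T
  nM : ∀ g ∈ S, ∀ m ∈ M, g * m * g⁻¹ ∈ M
  aM : ∀ m ∈ M, a m ∈ M
  fp : ∀ m ∈ M, a m = m → m = 1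
  cT : c ∈ T
  ac : a c = c
  cc : c * c = 1
  covM : ∀ t ∈ T, t ∈ M ∨ c⁻¹ * t ∈ M
  inv : c = 1 ∨ ∀ b ∈ B, b * b ∈ U → c * b * c⁻¹ = b⁻¹
  big : M ≤ B ∨ k = 1

theorem Bx.exists_St [Finite G] (h : Bx S T U B a s z x k) (hk : 1 ≤ k) :
    ∃ M c, St S T U B M a s z x c k := by
  have big : h.Mx ≤ B ∨ k = 1 := hk.eq_or_lt.symm.imp h.Mx_le Eq.symm
  by_cases hc : ∃ c ∈ T, a c = c ∧ c ≠ 1
  · obtain ⟨c, hc, e, c1⟩ := hc
    have i1 := (h.fix_inv hk hc e).resolve_left c1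
    refine ⟨h.Mx, c, h, hk, h.B_Mx, fun _ ht => ht.1, h.n_Mx hk, h.a_Mx, h.Mx_fp hk, hc, e, h.fix_sq hk hc e,
      fun t ht => ?_, .inr fun b hb bU => ?_, big⟩
    · obtain ⟨c', hc', e', k⟩ := h.dec_Mx hk ht
      rcases h.fix_inv hk hc' e' with rfl | i2
      · exact .inl (by simpa using k)
      · obtain rfl : c = c' := mul_inv_eq_one.1 (h.fix (h.self4 hk (mul_mem hc (inv_mem hc')) fun b hb bU => by
          rw [h.ep_mul_left hc (h.BT hb) (h.ep4 (inv_mem hc') hb bU), h.ep_inv_left hc' (h.ep4 hc' hb bU),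
            i1 b hb bU, i2 b hb bU, h.sq _ bU]) (by rw [map_mul, map_inv, e, e']))
        exact .inr k
    · rw [conj_eq, i1 b hb bU, ← mul_eq_one_iff_eq_inv, mul_assoc, h.sq _ bU]
  · push Not at hc
    refine ⟨h.Mx, 1, h, hk, h.B_Mx, fun _ ht => ht.1, h.n_Mx hk, h.a_Mx, h.Mx_fp hk, one_mem _, map_one _,
      mul_one _, fun t ht => ?_, .inl rfl, big⟩
    obtain ⟨c', hc', e', k⟩ := h.dec_Mx hk ht
    exact .inr (hc c' hc' e' ▸ k)

theorem Ctx.exists_St [Finite G] (h : Ctx S T U a s z) (hr : ¬ T ≤ U) :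
    ∃ B M x c k, St S T U B M a s z x c k := by
  obtain ⟨B, x, k, hB⟩ := h.exists_Bx
  rcases k with _ | k
  · have : B ≤ U := fun b hb => by simpa using hB.topU hb
    exact (hr fun t ht => this (hB.self t ht fun b hb => (h.cen t ht b (this hb)).symm)).elim
  · obtain ⟨M, c, hM⟩ := hB.exists_St (by omega)
    exact ⟨B, M, x, c, _, hM⟩

end CL.NE
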