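import Cfsg.Agent.SYL.NE3
import Cfsg.Agent.SYL.L8

/-!
2-groups without normal elementary abelian subgroup of order eight whose normal four-group is fused:
the subgroup `M` and the recognition of the types `J₂` and `Ly`.
-/

set_option autoImplicit false

namespace CL.NE

open Subgroup CL.Syl

variable {G : Type*} [Group G] {S T U B M : Subgroup G} {a : G →* G} {s z x c e f : G} {k : ℕ}

/-- type `G₂(q)`, `q ≡ ±1 mod 8` -/
def TyW (S : Subgroup G) : Prop := ∃ (n : ℕ) (a b c s : G), orderOf (a * b) = 8 * 2 ^ n ∧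
  a ^ (8 * 2 ^ n) = 1 ∧ Commute a b ∧ c * c = 1 ∧ s * s = 1 ∧ Commute c s ∧ c * a * c⁻¹ = a⁻¹ ∧
  c * b * c⁻¹ = b⁻¹ ∧ s * a * s⁻¹ = b ∧ S ≤ closure {a, c, s} ∧ a ∈ S ∧ c ∈ S ∧ s ∈ S

/-- type `J₂` -/
def TyJ (S : Subgroup G) : Prop := ∃ e0 e1 f0 f1 z0 z1 s : G, UT e0 e1 f0 f1 z0 z1 ∧ s * s = 1 ∧
  s * e0 * s⁻¹ = f0 ∧ s * e1 * s⁻¹ = f0 * f1 ∧ S ≤ closure {e0, e1, s} ∧ e0 ∈ S ∧ e1 ∈ S ∧ s ∈ S

/-- type `Ly` -/
def TyL (S : Subgroup G) : Prop := ∃ e0 e1 f0 f1 z0 z1 c s : G, UT e0 e1 f0 f1 z0 z1 ∧ c * c = 1 ∧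
  s * s = 1 ∧ Commute c s ∧ c * e0 * c⁻¹ = f0 ∧ c * e1 * c⁻¹ = f1 ∧ s * e0 * s⁻¹ = e0 ∧
  s * e1 * s⁻¹ = e0 * e1 ∧ S ≤ closure {e0, e1, c, s} ∧ e0 ∈ S ∧ e1 ∈ S ∧ c ∈ S ∧ s ∈ S

theorem Ctx.gen2 (h : Ctx S T U a s z) {p q u : G} (hp : p ∈ U) (hq : q ∈ U) (p1 : p ≠ 1) (q1 : q ≠ 1)
    (pq : q ≠ p) (hu : u ∈ U) : u = 1 ∨ u = p ∨ u = q ∨ u = p * q := by
  have e1 := h.mulU hp
  have e2 : p * a (a p) = a p := by rw [← e1, ← mul_assoc, h.sq p hp, one_mul]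
  have := h.memU hp p1 hu
  rcases h.memU hp p1 hq with k | k | k | k
  · exact (q1 k).elim
  · exact (pq k).elim
  · rwa [k, e1]
  · rw [k, e2]; tauto

theorem Ctx.s_a (h : Ctx S T U a s z) (hs : s ∉ T) {y : G} (hy : y ∈ T) :
    s * a y * s⁻¹ = a (a (s * y * s⁻¹)) := by
  rw [h.sa' hs y hy, h.sa' hs _ (h.aT _ (h.aT y hy)), h.a3 _ (h.aT y hy)]

theorem Ctx.s_az (h : Ctx S T U a s z) (hs : s ∉ T) : s * a z * s⁻¹ = z * a z := by
  rw [h.s_a hs (h.UT h.zU), h.sz, h.zaz]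

theorem Ctx.s_fix (h : Ctx S T U a s z) (hs : s ∉ T) {u : G} (hu : u ∈ U) (e : s * u * s⁻¹ = u) :
    u = 1 ∨ u = z := by
  rcases h.mem u hu with rfl | rfl | rfl | rfl
  · exact .inl rfl
  · exact .inr rfl
  · rw [h.s_az hs] at e; exact (h.z1 (by simpa using e)).elim
  · rw [h.s_a hs (h.UT h.azU), h.s_az hs, h.zaz, h.a3 _ (h.UT h.azU)] at e
    exact (h.aaz' e.symm).elim

namespace St

variable (h : St S T U B M a s z x c k)
include h

theorem fixc {c' : G} (hc : c' ∈ T) (e : a c' = c') : c' = 1 ∨ c' = c :=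
  (h.covM c' hc).imp (h.fp _ · e) fun k =>
    (inv_mul_eq_one.1 (h.fp _ k (by rw [map_mul, map_inv, e, h.ac]))).symm

theorem sc : s * c * s⁻¹ = c := by
  refine (h.fixc (h.nT s h.hs c h.cT) ?_).elim (fun e => ?_) id
  · rcases h.sa with k | k <;> rw [k c h.cT] <;> simp only [h.ac]
  · rw [e]; simpa [mul_inv_eq_iff_eq_mul, eq_comm] using e

theorem ss' : s * s = 1 ∨ s * s = c := h.fixc h.ssT h.ss

theorem cinv : c⁻¹ = c := inv_eq_of_mul_eq_one_right h.cc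

theorem cM (c1 : c ≠ 1) : c ∉ M := fun e => c1 (h.fp c e h.ac)

theorem ep_c (b : G) : ep c (a b) = a (ep c b) := by rw [map_ep, h.ac]

theorem decS {y : G} (hy : y ∈ S) : ∃ d ∈ S, (d = 1 ∨ d = c ∨ d = s ∨ d = s * c) ∧ d⁻¹ * y ∈ M := by
  rcases h.cov y hy with e | e <;> rcases h.covM _ e with e | e
  · exact ⟨1, one_mem _, by simp, by simpa using e⟩
  · exact ⟨c, h.TS h.cT, by simp, e⟩
  · exact ⟨s, h.hs, by simp, e⟩
  · exact ⟨s * c, mul_mem h.hs (h.TS h.cT), by simp, by simpa [mul_assoc] using e⟩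

theorem commM (y : G) (hy : y ∈ S) (y' : G) (hy' : y' ∈ S) : y * y' * y⁻¹ * y'⁻¹ ∈ M := by
  obtain ⟨d, hd, e, hm⟩ := h.decS hy
  obtain ⟨d', hd', e', hm'⟩ := h.decS hy'
  have c1 : Commute s c := mul_inv_eq_iff_eq_mul.1 h.sc
  have c2 : d * d' * d⁻¹ = d' := by
    rw [mul_inv_eq_iff_eq_mul]
    rcases e with rfl | rfl | rfl | rfl <;> rcases e' with rfl | rfl | rfl | rfl <;>
      simp [mul_assoc, c1.eq, c1.left_comm]
  have := mul_mem (mul_mem (h.nM d hd _ hm) (h.nM _ (mul_mem hd hd') _ (mul_mem hm' (inv_mem hm))))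
    (h.nM d' hd' _ (inv_mem hm'))
  convert this using 1
  calc _ = y * y' * y⁻¹ * d * d'⁻¹ * d⁻¹ * (d * d' * d⁻¹) * y'⁻¹ := by group
    _ = _ := by rw [c2]; group

theorem notriv (c1 : c ≠ 1) : ¬ ∀ m ∈ M, ep c m ∈ U := fun hm => by
  refine c1 (h.fixU (h.kt' (J := fun y => c⁻¹ * y ∈ U) (fun y hy => by simpa using mul_mem h.cT (h.UT hy))
    (h.inv_of (fun g hg y hy => ?_) fun y hy => ?_) (fun y hy => ?_) (fun y y' hy hy' => ?_) (by simp)) h.ac)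
  · have k : ∀ m ∈ M, c⁻¹ * (m * y * m⁻¹) ∈ U := fun m m1 => by
      have := mul_mem (hm m m1) (h.nU m (h.TS (h.MT m1)) _ hy)
      rw [← h.cinv, ep, inv_inv, show c⁻¹ * m * c * m⁻¹ * (m * (c * y) * m⁻¹) =
        c⁻¹ * (m * (c * c) * y * m⁻¹) by group, h.cc, mul_one] at this
      exact this
    rcases h.covM g hg with e | e
    · exact k g e
    · convert h.nU c (h.TS h.cT) _ (k _ e) using 1; group
  · convert h.nU s h.hs _ hy using 1
    nth_rw 1 [← h.sc]; group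
  · have := h.mulU_sq h.cT hy
    rwa [mul_inv_cancel_left, h.cc] at this
  · simpa using h.comm_U h.cT h.cT hy hy' rfl

variable [Finite G]

theorem hN {m : G} (hm : m ∈ M) : m * a m * a (a m) = 1 ∧ m * a m = a m * m := h.fpf h.MT h.aM h.fp hm

omit [Finite G] in
theorem M1 (hk : k = 1) : M ≤ h.T1 := fun _ hm => h.T1_k1 hk (h.MT hm)

theorem four' (hk : k = 1) {t t' : G} (ht : t ∈ M) (tB : t ∉ B) (ht' : t' ∈ M) :
    ∃ b ∈ B, t' = b ∨ t' = t * b ∨ t' = a t * b ∨ t' = a (a t) * b := by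
  rcases h.four (h.M1 hk) h.aM (fun _ hy => (h.hN hy).1) ht tB ht' with e | e | e | e <;>
    exact ⟨_, e, by simp⟩

theorem ker' (hk : k = 1) {t b : G} (ht : t ∈ M) (tB : t ∉ B) (hb : b ∈ B) (e : ep t b = 1) : b ∈ U := by
  obtain ⟨y, hy, rfl⟩ := h.ker (h.M1 hk ht) (h.hN ht).1 tB hb e
  exact h.sq_k1 hk hy

theorem sqM (hk : k = 1) {m : G} (hm : m ∈ M) : m * m ∈ U := by
  by_cases mB : m ∈ B
  · exact h.sq_k1 hk mB
  · exact h.ker' hk hm mB (h.sqT h.k1 (h.MT hm)) (ep_eq_one.2 (mul_assoc _ _ _).symm)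

theorem epM (hk : k = 1) {m m' : G} (hm : m ∈ M) (hm' : m' ∈ M) : ep m m' ∈ U := by
  convert mul_mem (mul_mem (h.sqM hk (mul_mem hm hm'))
    (h.nU _ (h.TS (h.MT (inv_mem hm'))) _ (inv_mem (h.sqM hk hm)))) (inv_mem (h.sqM hk hm')) using 1
  simp only [ep]; group

theorem semiM (hk : k = 1) {m m' : G} (hm : m ∈ M) (hm' : m' ∈ M) : ep m (a m') = a (a (ep m m')) :=
  h.semi (h.MT hm) (h.MT hm') (by rw [(h.hN hm).1]; simp [ep]) (h.hN hm').1 (h.epM hk hm hm')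
    (h.epM hk hm (h.aM _ hm'))

theorem semiM' (hk : k = 1) {m m' : G} (hm : m ∈ M) (hm' : m' ∈ M) : ep (a m) m' = a (a (ep m m')) := by
  rw [h.ep_symm (h.epM hk hm' (h.aM _ hm)), h.semiM hk hm' hm, h.ep_symm (h.epM hk hm hm')]

theorem epM_mul (hk : k = 1) {m y y' : G} (hm : m ∈ M) (hy : y ∈ M) (hy' : y' ∈ M) :
    ep m (y * y') = ep m y * ep m y' := h.ep_mul_right (h.MT hy) (h.epM hk hm hy')

theorem ep_self (hk : k = 1) {m : G} (hm : m ∈ M) : ep m m = 1 ∧ ep m (a m) = 1 ∧ ep m (a (a m)) = 1 := by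
  have e : ep m m = 1 := ep_eq_one.2 rfl
  simp [h.semiM hk hm hm, h.semiM hk hm (h.aM _ hm), e]

theorem line (hk : k = 1) {m y : G} (hm : m ∈ M) (mU : m ∉ U) (hy : y ∈ M) (e : ep m y = 1) :
    ∃ u ∈ U, y = u ∨ y = m * u ∨ y = a m * u ∨ y = a (a m) * u := by
  by_cases mB : m ∈ B
  · refine h.cls4 mB (h.sqM hk hm) mU (by_contra fun yB => mU (h.ker' hk hy yB mB ?_)) (h.sqM hk hy)
    rw [h.ep_symm (h.epM hk hm hy), e]
  · obtain ⟨b, hb, k⟩ := h.four' hk hm mB hy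
    refine ⟨b, h.ker' hk hm mB hb ?_, k⟩
    have := h.ep_self hk hm
    rcases k with rfl | rfl | rfl | rfl
    · exact e
    · rwa [h.epM_mul hk hm hm (h.BM hb), this.1, one_mul] at e
    · rwa [h.epM_mul hk hm (h.aM _ hm) (h.BM hb), this.2.1, one_mul] at e
    · rwa [h.epM_mul hk hm (h.aM _ (h.aM _ hm)) (h.BM hb), this.2.2, one_mul] at e

theorem cB (c1 : c ≠ 1) {m : G} (hm : m ∈ M) (e : ep c m ∈ U) : m ∈ B ∧ m * m ∈ U := by
  rcases h.big with k | k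
  · refine ⟨k hm, by_contra fun mU => ?_⟩
    obtain ⟨j, h1, h2⟩ := h.four_pow (k (mul_mem hm hm)) mU
    have e1 := h.inv.resolve_left c1 _ (pow_mem (k (mul_mem hm hm)) _) h2
    rw [(Commute.pow_right (ep_eq_one.1 (h.ep_sq (h.MT hm) e)) _).eq, mul_inv_cancel_right] at e1
    exact h1 (h.om' (pow_mem (k (mul_mem hm hm)) _) (mul_eq_one_iff_eq_inv.2 e1))
  · refine ⟨by_contra fun mB => h.notriv c1 fun y hy => ?_, h.sqM k hm⟩
    obtain ⟨b, hb, l⟩ := h.four' k hm mB hy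
    have p := h.ep4 h.cT hb (h.sq_k1 k hb)
    have m1 := h.aM _ hm
    rcases l with rfl | rfl | rfl | rfl
    · exact p
    · rw [h.ep_mul_right (h.MT hm) p]; exact mul_mem e p
    · rw [h.ep_mul_right (h.MT m1) p, h.ep_c]; exact mul_mem (h.aU _ e) p
    · rw [h.ep_mul_right (h.MT (h.aM _ m1)) p, h.ep_c, h.ep_c]; exact mul_mem (h.aU _ (h.aU _ e)) p

theorem outer {c' : G} (hc : c' ∈ T) (cM : c' ∉ M) (c2 : c' * c' = 1) :
    (∀ b ∈ B, b * b ∈ U → c' * b * c'⁻¹ = b⁻¹) ∧ ∀ m ∈ M, ep c' m ∈ U → m ∈ B ∧ m * m ∈ U := by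
  have hm := (h.covM c' hc).resolve_left cM
  have c1 : c ≠ 1 := fun e => cM (by simpa [e] using hm)
  obtain ⟨m, rfl⟩ : ∃ m, c' = c * m := ⟨c⁻¹ * c', by group⟩
  rw [inv_mul_cancel_left] at hm
  have mB : m ∈ B := h.big.elim (· hm) fun k => (h.cB c1 hm (by
    have : ep c m = (m * m)⁻¹ := by
      rw [ep, h.cinv, mul_inv_rev, mul_left_inj, ← mul_eq_one_iff_eq_inv, mul_assoc, c2]
    rw [this]; exact inv_mem (h.sqM k hm))).1
  refine ⟨fun b hb e => ?_, fun y hy e => h.cB c1 hy ?_⟩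
  · rw [conj_eq, h.ep_B hb mB, ← conj_eq, h.inv.resolve_left c1 b hb e]
  · rcases h.big with k | k
    · rwa [h.ep_B (k hy) mB] at e
    · rw [h.ep_mul_left h.cT (h.MT hy) (h.epM k hm hy)] at e
      simpa using mul_mem e (inv_mem (h.epM k hm hy))

theorem cent_outer {c' m : G} (hc : c' ∈ T) (cM : c' ∉ M) (c2 : c' * c' = 1) (hm : m ∈ M)
    (e : c' * m = m * c') : m ∈ U := by
  obtain ⟨h1, h2⟩ := h.outer hc cM c2
  obtain ⟨h3, h4⟩ := h2 m hm (by rw [ep_eq_one.2 e]; exact one_mem _)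
  have := h1 m h3 h4
  rw [e, mul_inv_cancel_right] at this
  exact h.om' h3 (mul_eq_one_iff_eq_inv.2 this)

/-- an involution of `M` outside `U` -/
structure _root_.CL.NE.Iv (U M : Subgroup G) (e : G) : Prop where
  mem : e ∈ M
  sq : e * e = 1
  nU : e ∉ U

omit [Finite G] in
theorem k_one (he : Iv U M e) : k = 1 := h.big.resolve_left fun l => he.nU (h.om' (l he.mem) he.sq)

omit [Finite G] in
theorem Iv_a (he : Iv U M e) : Iv U M (a e) := ⟨h.aM _ he.mem, by rw [← map_mul, he.sq, map_one],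
  fun l => he.nU (h.a3 e (h.MT he.mem) ▸ h.aU _ (h.aU _ l))⟩

omit [Finite G] in
theorem Iv_conj (he : Iv U M e) {g : G} (hg : g ∈ S) : Iv U M (g * e * g⁻¹) :=
  ⟨h.nM g hg _ he.mem, by rw [conj_mul, he.sq]; simp,
    fun l => he.nU (by simpa [mul_assoc] using h.nU _ (inv_mem hg) _ l)⟩

theorem line_sq (he : Iv U M e) {y : G} (hy : y ∈ M) (l : ep e y = 1) : y * y = 1 := by
  have e1 := h.Iv_a he
  have e2 := h.Iv_a e1
  obtain ⟨u, hu, rfl | rfl | rfl | rfl⟩ := h.line (h.k_one he) he.mem he.nU hy l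
  · exact h.sq _ hu
  · rw [h.mulU_sq (h.MT he.mem) hu, he.sq]
  · rw [h.mulU_sq (h.MT e1.mem) hu, e1.sq]
  · rw [h.mulU_sq (h.MT e2.mem) hu, e2.sq]

theorem line_ep (hk : k = 1) {m y w : G} (hm : m ∈ M) (mU : m ∉ U) (hy : y ∈ M) (hw : w ∈ M)
    (e1 : ep m y = 1) (e2 : ep m w = 1) : ep y w = 1 := by
  have wT := h.MT hw
  have m1 := h.aM _ hm
  have p : ∀ u ∈ U, ep u w = 1 := fun u hu => ep_eq_one.2 (h.cen w wT u hu).symm
  have q : ∀ v ∈ M, ∀ u ∈ U, ep (v * u) w = ep v w := fun v hv u hu => by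
    rw [h.ep_mul_left (h.MT hv) wT (by rw [p u hu]; exact one_mem _), p u hu, mul_one]
  obtain ⟨u, hu, rfl | rfl | rfl | rfl⟩ := h.line hk hm mU hy e1
  · exact p _ hu
  · rw [q _ hm u hu, e2]
  · rw [q _ m1 u hu, h.semiM' hk hm hw, e2]; simp
  · rw [q _ (h.aM _ m1) u hu, h.semiM' hk m1 hw, h.semiM' hk hm hw, e2]; simp

theorem dec2 (he : Iv U M e) (hf : f ∈ M) (ef : ep e f ≠ 1) {y : G} (hy : y ∈ M) :
    ∃ v ∈ M, ∃ w, (w = 1 ∨ w = f ∨ w = a f ∨ w = a (a f)) ∧ ep e v = 1 ∧ y = v * w := by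
  have hk := h.k_one he
  have p := h.epM hk he.mem hf
  have f1 := h.aM _ hf
  have key : ∀ w ∈ M, ep e y = ep e w → ep e (y * w⁻¹) = 1 := fun w hw l => by
    rw [h.epM_mul hk he.mem hy (inv_mem hw), h.ep_inv_right (h.MT hw) (h.epM hk he.mem hw), l,
      h.sq _ (h.epM hk he.mem hw)]
  rcases h.memU p ef (h.epM hk he.mem hy) with l | l | l | l
  · exact ⟨y, hy, 1, by simp, l, by simp⟩
  · exact ⟨_, mul_mem hy (inv_mem hf), f, by simp, key f hf l, by simp⟩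
  · exact ⟨_, mul_mem hy (inv_mem (h.aM _ f1)), a (a f), by simp, key _ (h.aM _ f1) (by
      rw [l, h.semiM hk he.mem f1, h.semiM hk he.mem hf, h.a3 _ (h.UT (h.aU _ p))]), by simp⟩
  · exact ⟨_, mul_mem hy (inv_mem f1), a f, by simp, key _ f1 (by rw [l, h.semiM hk he.mem hf]), by simp⟩

theorem two (he : Iv U M e) (hf : Iv U M f) (ef : ep e f ≠ 1) {y : G} (hy : y ∈ M) (y2 : y * y = 1) :
    ep e y = 1 ∨ ep f y = 1 := by
  have hk := h.k_one he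
  obtain ⟨v, hv, w, hw, l, rfl⟩ := h.dec2 he hf.mem ef hy
  have f1 := h.aM _ hf.mem
  have wM : w ∈ M := by rcases hw with rfl | rfl | rfl | rfl; exacts [one_mem _, hf.mem, f1, h.aM _ f1]
  have fw : ep f w = 1 := by
    have := h.ep_self hk hf.mem
    rcases hw with rfl | rfl | rfl | rfl; exacts [by simp [ep], this.1, this.2.1, this.2.2]
  rw [h.sq_mul (h.MT hv) (h.epM hk wM hv), h.line_sq he hv l, h.line_sq hf wM fw, mul_one, mul_one,
    h.ep_symm (h.epM hk hv wM)] at y2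
  by_cases vU : v ∈ U
  · exact .inr (by rw [h.epM_mul hk hf.mem hv wM, fw, h.ep_U (h.MT hf.mem) vU, mul_one])
  · refine .inl ?_
    rw [h.epM_mul hk he.mem hv wM, l, one_mul]
    exact h.line_ep hk hv vU he.mem wM (by rw [h.ep_symm (h.epM hk he.mem hv), l]) y2

theorem aa_eq (he : Iv U M e) : a (a e) = e * a e := by
  rw [eq_inv_of_mul_eq_one_right (h.hN he.mem).1, mul_inv_rev, inv_eq_of_mul_eq_one_right he.sq,
    inv_eq_of_mul_eq_one_right (h.Iv_a he).sq, (h.hN he.mem).2]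

theorem ut (he : Iv U M e) (hf : Iv U M f) (ef : ep e f ≠ 1) :
    UT e (a e) f (a f) (ep e f) (a (a (ep e f))) := by
  have hk := h.k_one he
  have p := h.epM hk he.mem hf.mem
  have q := h.aU _ (h.aU _ p)
  have e1 := h.Iv_a he
  have f1 := h.Iv_a hf
  have r : ∀ v ∈ M, ∀ w ∈ M, v * w = w * v * ep v w := fun v hv w hw => by
    rw [h.cen _ (h.MT (mul_mem hw hv)) _ (h.epM hk hv hw)]; simp only [ep]; group
  have cm : ∀ u ∈ U, ∀ v ∈ M, Commute u v := fun u hu v hv => (h.cen v (h.MT hv) u hu).symm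
  refine ⟨he.sq, e1.sq, (h.hN he.mem).2, hf.sq, f1.sq, (h.hN hf.mem).2, h.sq _ p, h.sq _ q,
    h.cen _ (h.UT p) _ q, cm _ p _ he.mem, cm _ p _ e1.mem, cm _ p _ hf.mem, cm _ p _ f1.mem,
    cm _ q _ he.mem, cm _ q _ e1.mem, cm _ q _ hf.mem, cm _ q _ f1.mem, r _ he.mem _ hf.mem, ?_, ?_, ?_, ef⟩
  · rw [← h.semiM hk he.mem hf.mem, ← r _ he.mem _ f1.mem]
  · rw [← h.semiM' hk he.mem hf.mem, ← r _ e1.mem _ hf.mem]
  · rw [r _ e1.mem _ f1.mem, ← map_ep, ← h.mulU p, ← mul_assoc (ep e f), h.sq _ p, one_mul]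

theorem M_le (he : Iv U M e) (hf : Iv U M f) (ef : ep e f ≠ 1) {H : Subgroup G} (h1 : e ∈ H) (h2 : a e ∈ H)
    (h3 : f ∈ H) (h4 : a f ∈ H) : M ≤ H := fun y hy => by
  have hk := h.k_one he
  have m : ∀ v ∈ H, ∀ w ∈ H, ep v w ∈ H := fun v hv w hw =>
    mul_mem (mul_mem (mul_mem hv hw) (inv_mem hv)) (inv_mem hw)
  have p := h.epM hk he.mem hf.mem
  have h5 := m _ h1 _ h4
  have h6 := m _ h2 _ h4
  rw [h.semiM hk he.mem hf.mem] at h5
  rw [← map_ep] at h6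
  have hU : U ≤ H := fun u hu => by
    rcases h.memU p ef hu with rfl | rfl | rfl | rfl; exacts [one_mem _, m _ h1 _ h3, h6, h5]
  obtain ⟨v, hv, w, hw, l, rfl⟩ := h.dec2 he hf.mem ef hy
  refine mul_mem ?_ ?_
  · obtain ⟨u, hu, rfl | rfl | rfl | rfl⟩ := h.line hk he.mem he.nU hv l
    exacts [hU hu, mul_mem h1 (hU hu), mul_mem h2 (hU hu), mul_mem (h.aa_eq he ▸ mul_mem h1 h2) (hU hu)]
  · rcases hw with rfl | rfl | rfl | rfl; exacts [one_mem _, h3, h4, h.aa_eq hf ▸ mul_mem h3 h4]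

theorem line_conj (he : Iv U M e) {g : G} (hg : g ∈ S) (l : ep e (g * e * g⁻¹) = 1) {y : G} (hy : y ∈ M)
    (l' : ep e y = 1) : ep e (g * y * g⁻¹) = 1 :=
  h.line_ep (h.k_one he) (h.Iv_conj he hg).mem (h.Iv_conj he hg).nU he.mem (h.nM g hg y hy)
    (ep_eq_one.2 (ep_eq_one.1 l).symm) (by rw [← conj_ep, l']; simp)

theorem not_normal (he : Iv U M e) (h1 : ep e (c * e * c⁻¹) = 1) (h2 : ep e (s * e * s⁻¹) = 1) : False := by
  have hk := h.k_one he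
  refine he.nU (h.kt' (J := fun y => y ∈ M ∧ ep e y = 1) (fun y hy => h.MT hy.1)
    (h.inv_of (fun g hg y hy => ⟨h.nM g (h.TS hg) y hy.1, ?_⟩)
      fun y hy => ⟨h.nM s h.hs y hy.1, h.line_conj he h.hs h2 hy.1 hy.2⟩)
    (fun y hy => h.line_sq he hy.1 hy.2)
    (fun y w hy hw => ep_eq_one.1 (h.line_ep hk he.mem he.nU hy.1 hw.1 hy.2 hw.2)) ⟨he.mem, ep_eq_one.2 rfl⟩)
  have k : ∀ m ∈ M, ep e (m * y * m⁻¹) = 1 := fun m hm => by
    rw [conj_eq, h.epM_mul hk he.mem (h.BM (h.UB (h.epM hk hm hy.1))) hy.1, hy.2,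
      h.ep_U (h.MT he.mem) (h.epM hk hm hy.1), mul_one]
  rcases h.covM g hg with l | l
  · exact k g l
  · convert h.line_conj he (h.TS h.cT) h1 (h.nM _ (h.TS (h.MT l)) y hy.1) (k _ l) using 2; group

theorem tyJ (he : Iv U M e) (c1 : c = 1) : TyJ S := by
  subst c1
  have ef : ep e (s * e * s⁻¹) ≠ 1 := h.not_normal he (by simp [ep])
  have TM : T ≤ M := fun t ht => by simpa using h.covM t ht
  have hs : s ∉ T := fun hs => ef (by
    have p := h.epM (h.k_one he) (TM hs) he.mem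
    rw [conj_eq, h.epM_mul (h.k_one he) he.mem (TM (h.UT p)) he.mem, h.ep_U (h.MT he.mem) p, one_mul]
    exact ep_eq_one.2 rfl)
  have hf := h.Iv_conj he h.hs
  have e1 : s * a e * s⁻¹ = s * e * s⁻¹ * a (s * e * s⁻¹) := by rw [h.s_a hs (h.MT he.mem), h.aa_eq hf]
  refine ⟨_, _, _, _, _, _, s, h.ut he hf ef, h.ss'.elim id id, rfl, e1, ?_, h.TS (h.MT he.mem),
    h.TS (h.MT (h.aM _ he.mem)), h.hs⟩
  have m0 : e ∈ closure {e, a e, s} := subset_closure (by simp)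
  have m1 : a e ∈ closure {e, a e, s} := subset_closure (by simp)
  have m2 : s ∈ closure {e, a e, s} := subset_closure (by simp)
  have m3 := mul_mem (mul_mem m2 m0) (inv_mem m2)
  have m4 := mul_mem (inv_mem m3) (mul_mem (mul_mem m2 m1) (inv_mem m2))
  rw [e1, inv_mul_cancel_left] at m4
  have := TM.trans (h.M_le he hf ef m0 m1 m3 m4)
  exact fun y hy => (h.cov y hy).elim (this ·) fun l => by simpa using mul_mem m2 (this l)

theorem c_moves (he : Iv U M e) (c1 : c ≠ 1) : ep e (c * e * c⁻¹) ≠ 1 := fun l => by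
  have hk := h.k_one he
  have cS := h.TS h.cT
  have eT := h.MT he.mem
  have ca : ∀ y, c * a y * c⁻¹ = a (c * y * c⁻¹) := fun y => by rw [map_mul, map_mul, map_inv, h.ac]
  have c2 : c * (c * e * c⁻¹) * c⁻¹ = e := by
    rw [show c * (c * e * c⁻¹) * c⁻¹ = c * c * e * (c * c)⁻¹ by group, h.cc]; simp
  have e1 := h.Iv_a he
  have e2 := h.Iv_a e1
  obtain ⟨u, hu, k | k | k | k⟩ := h.line hk he.mem he.nU (h.Iv_conj he cS).mem l
  · exact (h.Iv_conj he cS).nU (k ▸ hu)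
  · exact he.nU (h.om' (h.cB c1 he.mem (by rw [ep, k, h.cen e eT u hu]; simpa using hu)).1 he.sq)
  · rw [k, ← conj_mul, ca, k, h.cjU h.cT hu, map_mul, h.aa_eq he, mul_assoc, mul_assoc, mul_eq_left,
      mul_eq_one_iff_eq_inv] at c2
    exact e1.nU (c2 ▸ inv_mem (mul_mem (h.aU _ hu) hu))
  · rw [k, ← conj_mul, ca, ca, k, h.cjU h.cT hu, map_mul, map_mul, h.a3 _ (h.MT e1.mem), mul_assoc] at c2
    refine e2.nU ?_
    have : e * a e = (a (a u) * u)⁻¹ := by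
      rw [← mul_eq_one_iff_eq_inv, mul_assoc, c2, he.sq]
    rw [h.aa_eq he, this]
    exact inv_mem (mul_mem (h.aU _ (h.aU _ hu)) hu)

omit [Finite G] in
theorem swap (hs : s ∉ T) : St S T U B M a (c * s) z x c k :=
  { h with
    hs := mul_mem (h.TS h.cT) h.hs
    sz := by rw [mul_inv_rev, mul_assoc c, mul_assoc c, ← mul_assoc (s * z), h.sz, ← mul_assoc, h.cjU h.cT h.zU]
    cov := fun y hy => (h.cov y hy).imp_right fun l => by
      convert mul_mem (h.nT _ (inv_mem h.hs) _ (inv_mem h.cT)) l using 1; group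
    sa := .inr fun y hy => by
      rw [show c * s * y * (c * s)⁻¹ = c * (s * y * s⁻¹) * c⁻¹ by group, map_mul, map_mul, map_inv, h.ac,
        h.sa' hs y hy]; group
    ss := by
      rw [show c * s * (c * s) = c * (s * c * s⁻¹) * (s * s) by group, h.sc, h.cc, one_mul, h.ss] }

theorem exists_fixed (he : Iv U M e) (hs : s ∉ T) (s2 : s * s = 1) (l : ep e (s * e * s⁻¹) = 1) :
    ∃ e, Iv U M e ∧ s * e * s⁻¹ = e := by
  have hk := h.k_one he
  have key : ∀ e u, Iv U M e → u ∈ U → s * e * s⁻¹ = e * u → ∃ e, Iv U M e ∧ s * e * s⁻¹ = e := by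
    intro e u he hu l
    have : s * (s * e * s⁻¹) * s⁻¹ = e := by
      rw [show s * (s * e * s⁻¹) * s⁻¹ = s * s * e * (s * s)⁻¹ by group, s2]; simp
    rw [l, ← conj_mul, l, mul_assoc, mul_eq_left, mul_eq_one_iff_eq_inv', h.inv_U hu] at this
    rcases h.s_fix hs hu this with rfl | rfl
    · exact ⟨e, he, by simpa using l⟩
    · refine ⟨e * a u, ⟨mul_mem he.mem (h.BM (h.UB h.azU)), by rw [h.mulU_sq (h.MT he.mem) h.azU, he.sq],
        fun k => he.nU (by simpa using mul_mem k (inv_mem h.azU))⟩, ?_⟩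
      rw [← conj_mul, l, h.s_az hs, mul_assoc, ← mul_assoc u, h.zz, one_mul]
  have eT := h.MT he.mem
  have e1 := h.Iv_a he
  obtain ⟨u, hu, k | k | k | k⟩ := h.line hk he.mem he.nU (h.Iv_conj he h.hs).mem l
  · exact ((h.Iv_conj he h.hs).nU (k ▸ hu)).elim
  · exact key e u he hu k
  · refine key _ (a u) (h.Iv_a e1) (h.aU _ hu) ?_
    rw [h.s_a hs (h.aT _ eT), h.s_a hs eT, k, h.a3 _ (h.aT _ (mul_mem (h.aT _ eT) (h.UT hu))), map_mul]
  · refine key _ (a (a u)) e1 (h.aU _ (h.aU _ hu)) ?_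
    rw [h.s_a hs eT, k, map_mul, map_mul, h.a3 _ (h.aT _ eT)]

theorem tyL' (he : Iv U M e) (c1 : c ≠ 1) (hs : s ∉ T) (l : ep e (s * e * s⁻¹) = 1) : TyL S := by
  have s2 : s * s = 1 := h.ss'.resolve_right fun k => h.c_moves he c1 (by
    convert h.line_conj he h.hs l (h.Iv_conj he h.hs).mem l using 2; rw [← k]; group)
  obtain ⟨e, he, l⟩ := h.exists_fixed he hs s2 l
  have hf := h.Iv_conj he (h.TS h.cT)
  have ef := h.c_moves he c1
  have e1 : c * a e * c⁻¹ = a (c * e * c⁻¹) := by rw [map_mul, map_mul, map_inv, h.ac]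
  refine ⟨_, _, _, _, _, _, c, s, h.ut he hf ef, h.cc, s2, (mul_inv_eq_iff_eq_mul.1 h.sc).symm, rfl, e1, l,
    by rw [h.s_a hs (h.MT he.mem), l, h.aa_eq he], ?_, h.TS (h.MT he.mem), h.TS (h.MT (h.aM _ he.mem)),
    h.TS h.cT, h.hs⟩
  have m0 : e ∈ closure {e, a e, c, s} := subset_closure (by simp)
  have m1 : a e ∈ closure {e, a e, c, s} := subset_closure (by simp)
  have m2 : c ∈ closure {e, a e, c, s} := subset_closure (by simp)
  have m3 : s ∈ closure {e, a e, c, s} := subset_closure (by simp)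
  have := h.M_le he hf ef m0 m1 (mul_mem (mul_mem m2 m0) (inv_mem m2))
    (e1 ▸ mul_mem (mul_mem m2 m1) (inv_mem m2))
  intro y hy
  obtain ⟨d, -, k, hd⟩ := h.decS hy
  have : d ∈ closure {e, a e, c, s} := by
    rcases k with rfl | rfl | rfl | rfl; exacts [one_mem _, m2, m3, mul_mem m3 m2]
  simpa using mul_mem this (‹M ≤ _› hd)

theorem tyL (he : Iv U M e) (c1 : c ≠ 1) (hs : s ∉ T) : TyL S := by
  have cS := h.TS h.cT
  have hf := h.Iv_conj he h.hs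
  rcases h.two he (h.Iv_conj he cS) (h.c_moves he c1) hf.mem hf.sq with l | l
  · exact h.tyL' he c1 hs l
  · refine (h.swap hs).tyL' he c1 (fun k => hs (by simpa using mul_mem (inv_mem h.cT) k)) ?_
    have := congrArg (fun y => c * y * c⁻¹) l
    simp only [conj_ep, mul_one, mul_inv_cancel] at this
    rw [show c * (c * e * c⁻¹) * c⁻¹ = c * c * e * (c * c)⁻¹ by group, h.cc] at this
    convert this using 2 <;> group

theorem exists_Iv (hB : ¬ M ≤ B) (hs : s ∉ T) (s2 : s * s = 1) : ∃ e, Iv U M e := by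
  have hk := h.big.resolve_left hB
  obtain ⟨t, ht, tB⟩ := SetLike.not_le_iff_exists.1 hB
  have fpB : ∀ t ∈ M, t⁻¹ * a t ∈ B → t ∈ B := fun t ht l => by
    obtain ⟨c, e, b, hb, rfl⟩ := h.exists_fix l
    rw [h.fp c (by simpa using mul_mem ht (inv_mem (h.BM hb))) e, one_mul]; exact hb
  obtain ⟨t, ht, tB⟩ : ∃ t ∈ M, t * (s * t * s⁻¹) ∉ B := by
    by_contra hn
    push Not at hn
    have h1 := h.aB _ (h.aB _ (hn t ht))
    have h2 := hn _ (h.aM t ht)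
    rw [map_mul, map_mul, ← h.s_a hs (h.MT ht)] at h1
    have h3 := h.aB _ (h.aB _ (mul_mem h1 (inv_mem h2)))
    rw [show a (a t) * (s * a t * s⁻¹) * (a t * (s * a t * s⁻¹))⁻¹ = a (a t) * (a t)⁻¹ by group, map_mul,
      map_mul, map_inv, map_inv, h.a3 _ (h.aT t (h.MT ht)), h.a3 t (h.MT ht)] at h3
    exact tB (fpB t ht (by convert h.nB _ (inv_mem (h.TS (h.MT ht))) _ h3 using 1; group))
  have fx : ∀ y ∈ M, ∀ u ∈ U, s * y * s⁻¹ = y * u → y * y = 1 ∨ y * y = z := fun y hy u hu l =>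
    h.s_fix hs (h.sqM hk hy) (by rw [← conj_mul, l, h.mulU_sq (h.MT hy) hu])
  have fy : ∀ m ∈ M, ∃ u ∈ U, s * (m * (s * m * s⁻¹)) * s⁻¹ = m * (s * m * s⁻¹) * u := fun m hm =>
    ⟨_, h.epM hk (inv_mem (h.nM s h.hs m hm)) (inv_mem hm), by
      rw [show s * (m * (s * m * s⁻¹)) * s⁻¹ = s * m * s⁻¹ * (s * s * m * (s * s)⁻¹) by group, s2]
      simp only [ep]; group⟩
  obtain ⟨i, hi, i2⟩ := h.exists_i h.k1
  have b1 := h.aB i hi
  have b2 := h.nB s h.hs _ b1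
  have y1 := mul_mem b1 b2
  have y2 := mul_mem ht (h.nM s h.hs t ht)
  have q1 : a i * (s * a i * s⁻¹) * (a i * (s * a i * s⁻¹)) = z := by
    rw [h.sq_mul (h.BT b1) (h.epM hk (h.BM b2) (h.BM b1)), ep_eq_one.2 (h.comm _ b2 _ b1), conj_mul,
      ← map_mul, i2, h.s_az hs, one_mul, ← mul_assoc, h.cen _ (h.UT h.azU) _ h.zU, mul_assoc,
      h.sq _ h.azU, mul_one]
  obtain ⟨u, hu, l1⟩ := fy _ (h.BM b1)
  obtain ⟨v, hv, l2⟩ := fy t ht
  generalize a i * (s * a i * s⁻¹) = y at y1 q1 l1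
  generalize t * (s * t * s⁻¹) = w at y2 tB l2
  have yw := mul_mem (h.BM y1) y2
  rcases fx w y2 v hv l2 with q2 | q2
  · exact ⟨w, y2, q2, fun k => tB (h.UB k)⟩
  rcases fx _ yw _ (mul_mem hu hv) (by
    rw [← conj_mul, l1, l2, mul_assoc, ← mul_assoc u, ← h.cen w (h.MT y2) u hu]; group) with q3 | q3
  · exact ⟨_, yw, q3, fun k => tB (by simpa using mul_mem (inv_mem y1) (h.UB k))⟩
  rw [h.sq_mul (h.BT y1) (h.epM hk y2 (h.BM y1)), q1, q2, mul_assoc, h.zz, mul_one] at q3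
  refine ⟨y * a w, mul_mem (h.BM y1) (h.aM w y2), ?_, fun k => tB ?_⟩
  · rw [h.sq_mul (h.BT y1) (h.epM hk (h.aM w y2) (h.BM y1)), h.semiM' hk y2 (h.BM y1), q3, q1, ← map_mul a w,
      q2, mul_assoc, h.zaz, h.sq _ (h.aU _ h.azU)]
  · have := h.aB _ (h.aB _ (mul_mem (inv_mem y1) (h.UB k)))
    rwa [inv_mul_cancel_left, h.a3 w (h.MT y2)] at this

end St

end CL.NE
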