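import Cfsg.Agent.SYL.NE4
import Cfsg.Agent.INV.Prod2.Tools

/-!
2-groups without normal elementary abelian subgroup of order eight whose normal four-group is fused:
exclusions by transfer, first part.
-/

set_option autoImplicit false

namespace CL.NE

open Subgroup CL.MSS Cfsg

variable {G : Type*} [Group G] [Finite G] {T U B M : Subgroup G} {a : G →* G} {s z x c e : G} {k : ℕ}

theorem xt' (hG : ∀ H : Subgroup G, H.index ≠ 2) (P : Sylow 2 G) {N : Subgroup G}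
    (hN : ∀ a ∈ (P : Subgroup G), ∀ b ∈ (P : Subgroup G), a * b * a⁻¹ * b⁻¹ ∈ N) {y : G}
    (hy : y ∈ (P : Subgroup G)) (hyN : y ∉ N) (hy2 : y * y = 1)
    (h2 : ∀ f ∈ (P : Subgroup G), f * f = 1 → f ∈ N ∨ y⁻¹ * f ∈ N) :
    ∃ g, g * y * g⁻¹ ∈ N ∧ ∀ r ∈ (P : Subgroup G), Commute r y → g * r * g⁻¹ ∈ (P : Subgroup G) := by
  obtain ⟨g, -, h⟩ := CL.SR1.xt (A := ⊤) (CL.Iso.pResidual_two_eq_top_iff.2 fun H e =>
    hG (H.map (⊤ : Subgroup G).subtype) (by rw [index_map_subtype, e, index_top])) (sylIn_top P) hN hy hyN hy2 h2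
  exact ⟨g, h⟩

omit [Finite G] in
theorem card_le_two {S M : Subgroup G} {c : G} (hc : c ∈ S) (h : ∀ t ∈ S, t ∈ M ∨ c⁻¹ * t ∈ M) :
    Nat.card S ≤ 2 * Nat.card ↥(M ⊓ S) := by
  have h1 : M.relIndex S ∣ 2 := index_dvd_two_iff'.2 ⟨⟨c⁻¹, inv_mem hc⟩, fun b => (h b b.2).symm⟩
  rw [← (M.subgroupOf S).card_mul_index, mul_comm, ← inf_subgroupOf_right,
    Nat.card_congr (subgroupOfEquivOfLe inf_le_right).toEquiv, inf_subgroupOf_right]
  exact Nat.mul_le_mul_right _ (Nat.le_of_dvd two_pos h1)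

omit [Finite G] in
theorem conj_comm {g r y : G} : Commute (g * r * g⁻¹) (g * y * g⁻¹) ↔ Commute r y := by
  rw [commute_iff_eq, commute_iff_eq, conj_mul, conj_mul, mul_left_inj, mul_right_inj]

omit [Finite G] in
theorem conj_sq {g r : G} (h : r * r = 1) : g * r * g⁻¹ * (g * r * g⁻¹) = 1 := by rw [conj_mul, h]; simp

/-- the elements centralizing `U` and fixing the coset `y U` -/
def Kc (U : Subgroup G) (y : G) : Subgroup G where
  carrier := {g | g ∈ centralizer (U : Set G) ∧ y⁻¹ * (g * y * g⁻¹) ∈ U}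
  one_mem' := ⟨one_mem _, by simp⟩
  mul_mem' := fun {g g'} hg hg' => ⟨mul_mem hg.1 hg'.1, by
    convert mul_mem hg.2 ((mem_normalizer_iff.1 (centralizer_le_normalizer _ hg.1) _).1 hg'.2) using 1; group⟩
  inv_mem' := fun {g} hg => ⟨inv_mem hg.1, by
    convert (mem_normalizer_iff.1 (centralizer_le_normalizer _ (inv_mem hg.1)) _).1 (inv_mem hg.2) using 1
    group⟩

namespace St

variable {P : Sylow 2 G} (h : St P T U B M a s z x c k)
include h

omit [Finite G] in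
theorem sqrtU {u : G} (hu : u ∈ U) : ∃ b ∈ B, b * b = u := by
  obtain ⟨j, rfl⟩ := Nat.exists_eq_add_of_le h.k1
  exact h.sqrt (h.UB hu) (by rw [pow_add, pow_mul, pow_one, pow_two, h.sq u hu, one_pow])

theorem x1 (hST : (P : Subgroup G) ≤ T) (c1 : c ≠ 1) {g u : G} (hg : g * c * g⁻¹ ∈ U) (hu : u ∈ U)
    (u1 : u ≠ 1) (hu' : g * u * g⁻¹ ∈ U) : False := by
  obtain ⟨b, hb, e⟩ := h.sqrtU hu
  have e1 : b * c * b⁻¹ = c * u := by
    have := h.inv.resolve_left c1 b hb (e ▸ hu)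
    rw [← h.inv_U hu, ← e, mul_inv_rev, ← mul_assoc, mul_left_inj, ← this, h.cinv, ← mul_assoc, ← mul_assoc,
      h.cc, one_mul]
  have e2 : g * b * g⁻¹ * (g * c * g⁻¹) * (g * b * g⁻¹)⁻¹ = g * c * g⁻¹ * (g * u * g⁻¹) := by
    rw [conj_mul (a := c) (b := g), ← e1]; group
  have e3 : g * b * g⁻¹ * (g * u * g⁻¹) * (g * b * g⁻¹)⁻¹ = g * u * g⁻¹ := by
    rw [conj_mul, h.cen b (h.BT hb) u hu]; group
  have hn : g * b * g⁻¹ ∈ normalizer (U : Set G) := mem_normalizer_fintype fun v hv => by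
    rcases h.gen2 hg hu' (by simpa using c1) (by simpa using u1)
      (fun l => c1 (h.fixU ((by simpa using l : u = c) ▸ hu) h.ac)) hv with rfl | rfl | rfl | rfl
    · simp
    · exact e2 ▸ mul_mem hg hu'
    · exact e3.symm ▸ hu'
    · rw [← conj_mul, e2, e3]; exact mul_mem (mul_mem hg hu') hu'
  obtain ⟨n, hn, l⟩ := CL.P2.conj_into P (H := normalizer (U : Set G))
    (fun y hy => mem_normalizer_fintype (h.nU y hy)) (zpowers_le.2 (h.TS (h.BT hb))) (g := g)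
    fun u hu => (zpowers_le (H := (normalizer (U : Set G)).comap (MulAut.conj g).toMonoidHom)).2 hn hu
  have := h.cen _ (hST (l b (mem_zpowers b))) _ ((mem_normalizer_iff.1 hn _).1 hg)
  rw [show n * g * b * (n * g)⁻¹ = n * (g * b * g⁻¹) * n⁻¹ by group, ← commute_iff_eq, conj_comm] at this
  rw [this.eq, mul_inv_cancel_right, left_eq_mul] at e2
  exact u1 (by simpa using e2)

theorem x15 (hG : ∀ H : Subgroup G, H.index ≠ 2) (hST : (P : Subgroup G) ≤ T) (c1 : c ≠ 1) :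
    ∃ g e, Iv U M e ∧ (g * c * g⁻¹ ∈ M ∧ ep e (g * c * g⁻¹) = 1) ∧
      ∀ u ∈ U, g * u * g⁻¹ ∈ M ∧ ep e (g * u * g⁻¹) = 1 := by
  obtain ⟨g, hg, hC⟩ := xt' hG P h.commM (h.TS h.cT) (h.cM c1) h.cc fun f hf _ => h.covM f (hST hf)
  have cu : ∀ u ∈ U, Commute u c := fun u hu => (h.cen c h.cT u hu).symm
  have hU : ∀ u ∈ U, g * u * g⁻¹ ∈ T := fun u hu => hST (hC u (h.US hu) (cu u hu))
  have key : ∀ y, Iv U M (g * y * g⁻¹) → Commute y c → (∀ u ∈ U, Commute y u) →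
      ∃ g e, Iv U M e ∧ (g * c * g⁻¹ ∈ M ∧ ep e (g * c * g⁻¹) = 1) ∧
      ∀ u ∈ U, g * u * g⁻¹ ∈ M ∧ ep e (g * u * g⁻¹) = 1 := fun y hy h1 h2 =>
    ⟨g, _, hy, ⟨hg, ep_eq_one.2 (conj_comm.2 h1)⟩, fun u hu => ⟨by_contra fun l =>
      hy.nU (h.cent_outer (hU u hu) l (conj_sq (h.sq u hu)) hy.mem (conj_comm.2 (h2 u hu)).symm),
      ep_eq_one.2 (conj_comm.2 (h2 u hu))⟩⟩
  by_cases l : g * c * g⁻¹ ∈ U
  · obtain ⟨u, hu, u1, hm⟩ : ∃ u ∈ U, u ≠ 1 ∧ g * u * g⁻¹ ∈ M := by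
      rcases h.covM _ (hU z h.zU) with l1 | l1
      · exact ⟨z, h.zU, h.z1, l1⟩
      rcases h.covM _ (hU _ h.azU) with l2 | l2
      · exact ⟨_, h.azU, h.a1, l2⟩
      refine ⟨z⁻¹ * a z, mul_mem (inv_mem h.zU) h.azU, fun k => h.az (inv_mul_eq_one.1 k).symm, ?_⟩
      convert mul_mem (inv_mem l1) l2 using 1; group
    exact key u ⟨hm, conj_sq (h.sq u hu), h.x1 hST c1 l hu u1⟩ (cu u hu) (h.cen u (h.UT hu))
  · exact key c ⟨hg, conj_sq h.cc, l⟩ rfl (h.cen c h.cT)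

/-- the subgroup generated by `U` and an involution -/
def ext2 {y : G} (hy : y ∈ T) (y2 : y * y = 1) : Subgroup G where
  carrier := {w | w ∈ U ∨ y⁻¹ * w ∈ U}
  one_mem' := .inl (one_mem _)
  mul_mem' := by
    rintro v w (hv | hv) (hw | hw)
    · exact .inl (mul_mem hv hw)
    · exact .inr (by rw [← mul_assoc, h.cen _ (inv_mem hy) v hv, mul_assoc]; exact mul_mem hv hw)
    · exact .inr (by simpa [mul_assoc] using mul_mem hv hw)
    · refine .inl ?_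
      have := mul_mem (h.nU y (h.TS hy) _ hv) hw
      rwa [show y * (y⁻¹ * v) * y⁻¹ * (y⁻¹ * w) = v * (y * y)⁻¹ * w by group, y2, inv_one, mul_one] at this
  inv_mem' := by
    rintro w (hw | hw)
    · exact .inl (inv_mem hw)
    · refine .inr ?_
      have := inv_mem (h.nU y (h.TS hy) _ hw)
      rwa [show (y * (y⁻¹ * w) * y⁻¹)⁻¹ = y⁻¹ * (y * y) * w⁻¹ by group, y2, mul_one] at this

theorem x5a {g n : G} (he : Iv U M e) (h1 : g * c * g⁻¹ ∈ M ∧ ep e (g * c * g⁻¹) = 1)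
    (hA : ∀ y ∈ M ⊓ centralizer {e}, n * g⁻¹ * y * (n * g⁻¹)⁻¹ ∈ T) : n * c * n⁻¹ ∈ M := by
  by_contra cM
  have hk := h.k_one he
  have m : ∀ {y}, y ∈ M ⊓ centralizer {e} ↔ y ∈ M ∧ ep e y = 1 := by
    intro y; rw [mem_inf, mem_centralizer_singleton_iff, ep_eq_one, eq_comm]
  have e0 : n * g⁻¹ * (g * c * g⁻¹) * (n * g⁻¹)⁻¹ = n * c * n⁻¹ := by group
  have cT := e0 ▸ hA _ (m.2 h1)
  have key : ∀ y ∈ M ⊓ centralizer {e}, n * g⁻¹ * y * (n * g⁻¹)⁻¹ ∈ M → y ∈ (n * g⁻¹)⁻¹ •ᶜ U := fun y hy l => by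
    rw [mem_cj, inv_inv]
    refine h.cent_outer cT cM (conj_sq h.cc) l ?_
    rw [← e0]
    exact conj_comm.2 (ep_eq_one.1 (h.line_ep hk he.mem he.nU h1.1 hy.1 h1.2 (m.1 hy).2))
  have c1 := card_le_two (M := (n * g⁻¹)⁻¹ •ᶜ U) (m.2 h1) fun y hy => by
    rcases h.covM _ (hA y hy) with l | l
    · exact .inl (key y hy l)
    · refine .inr (key _ (mul_mem (inv_mem (m.2 h1)) hy) ?_)
      convert mul_mem (inv_mem ((h.covM _ cT).resolve_left cM)) l using 1; group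
  have c2 := (card_le_of_le (inf_le_left (a := (n * g⁻¹)⁻¹ •ᶜ U) (b := M ⊓ centralizer {e}))).trans_eq
    (card_cj _ _)
  have eT := h.MT he.mem
  have c3 := two_mul_card_le (B := U) (F := h.ext2 eT he.sq) (fun _ => .inl)
    fun l => he.nU (l (.inr (by simp)))
  have c4 := two_mul_card_le (B := h.ext2 eT he.sq) (F := M ⊓ centralizer {e}) (by
      rintro y (hy | hy)
      · exact m.2 ⟨h.BM (h.UB hy), h.ep_U eT hy⟩
      · simpa using mul_mem (m.2 ⟨he.mem, ep_eq_one.2 rfl⟩) (m.2 ⟨h.BM (h.UB hy), h.ep_U eT hy⟩))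
    fun l => by
      rcases l (m.2 ⟨h.aM _ he.mem, (h.ep_self hk he.mem).2.1⟩) with l | l
      · exact (h.Iv_a he).nU l
      · rw [inv_eq_of_mul_eq_one_right he.sq, ← h.aa_eq he] at l
        exact (h.Iv_a (h.Iv_a he)).nU l
  have : 0 < Nat.card U := Nat.card_pos
  omega

theorem sylIn_Kc (hST : (P : Subgroup G) ≤ T) (he : Iv U M e) : SylIn 2 M (Kc U e) := by
  have hk := h.k_one he
  have TC : T ≤ centralizer (U : Set G) := fun t ht u hu => (h.cen t ht u hu).symm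
  refine ⟨fun m hm => ⟨TC (h.MT hm), ?_⟩, h.p2.to_le (h.MT.trans h.TS), fun Q hQ h1 h2 => ?_⟩
  · rw [conj_eq, ← h.cen e (h.MT he.mem) _ (h.epM hk hm he.mem), inv_mul_cancel_left]
    exact h.epM hk hm he.mem
  refine le_antisymm (by_contra fun l => ?_) h1
  obtain ⟨n, hn, l'⟩ := (sylIn_sylow P (hST.trans TC)).exists_conj_le hQ fun y hy => (h2 hy).1
  have e1 : n •ᶜ Q = P := eq_of_le_of_card_ge l' (by
    rw [card_cj]
    exact ((card_le_two (h.TS h.cT) fun t ht => h.covM t (hST ht)).trans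
      (Nat.mul_le_mul_left _ (card_le_of_le inf_le_left))).trans (two_mul_card_le h1 l))
  have eT := hST (l' (conj_mem_cj (h1 he.mem)))
  have cn : ∀ u ∈ U, n * u * n⁻¹ = u := fun u hu => by rw [← hn u hu, mul_inv_cancel_right]
  have := h.kt (h.ext2 eT (conj_sq he.sq)) (by
      rintro y (hy | hy)
      · exact h.US hy
      · have := mul_mem (h.TS eT) (h.US hy)
        rwa [mul_inv_cancel_left] at this)
    (by
      rintro g hg y (hy | hy)
      · exact .inl (h.nU g hg y hy)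
      · obtain ⟨q, hq, rfl⟩ := mem_cj'.1 (e1.ge hg)
        refine .inr ?_
        convert mul_mem (cn _ (h2 hq).2 ▸ (h2 hq).2) (h.nU _ hg _ hy) using 1; group)
    (by
      rintro y (hy | hy)
      · exact h.sq y hy
      · have := h.mulU_sq eT hy
        rwa [mul_inv_cancel_left, conj_sq he.sq] at this) (fun _ => .inl)
    (show n * e * n⁻¹ ∈ h.ext2 eT (conj_sq he.sq) from .inr (by rw [inv_mul_cancel]; exact one_mem _))
  exact he.nU ((mem_normalizer_iff.1 (centralizer_le_normalizer _ hn) _).2 this)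

theorem x5 (hG : ∀ H : Subgroup G, H.index ≠ 2) (hST : (P : Subgroup G) ≤ T) (c1 : c ≠ 1) : False := by
  obtain ⟨g, e, he, h1, h2⟩ := h.x15 hG hST c1
  have hk := h.k_one he
  have TC : T ≤ centralizer (U : Set G) := fun t ht u hu => (h.cen t ht u hu).symm
  obtain ⟨n, hn, hA⟩ := CL.P2.conj_into P (hST.trans TC) (R := M ⊓ centralizer {e})
    (inf_le_left.trans (h.MT.trans h.TS)) (g := g⁻¹) fun y hy u hu => by
      have := ep_eq_one.1 (h.line_ep hk he.mem he.nU (h2 u hu).1 hy.1 (h2 u hu).2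
        (ep_eq_one.2 (mem_centralizer_singleton_iff.1 hy.2).symm))
      calc _ = g⁻¹ * (g * u * g⁻¹ * y) * g := by group
        _ = _ := by rw [this]; group
  have nU : ∀ n ∈ centralizer (U : Set G), ∀ y, n * y * n⁻¹ ∈ U → y ∈ U := fun n hn y =>
    (mem_normalizer_iff.1 (centralizer_le_normalizer _ hn) _).2
  have cB : ∀ b ∈ B, c * b ∉ U := fun b hb l => h.cM c1 (by simpa using mul_mem (h.BM (h.UB l)) (inv_mem (h.BM hb)))
  have he' : Iv U M (n * c * n⁻¹) := ⟨h.x5a he h1 fun y hy => hST (hA y hy), conj_sq h.cc,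
    fun l => cB 1 (one_mem _) (by simpa using nU n hn c l)⟩
  have ci : ∀ b ∈ B, c * b * c⁻¹ = b⁻¹ := fun b hb => h.inv.resolve_left c1 b hb (h.sq_k1 hk hb)
  obtain ⟨m, hm, l⟩ := (h.sylIn_Kc hST he').exists_conj_le (R := n •ᶜ (T ⊓ Kc U c))
    (isPGroup_cj _ (h.p2.to_le (inf_le_left.trans h.TS))) (by
      rintro _ ⟨y, hy, rfl⟩
      refine ⟨mul_mem (mul_mem hn hy.2.1) (inv_mem hn), ?_⟩
      convert (mem_normalizer_iff.1 (centralizer_le_normalizer _ hn) _).1 hy.2.2 using 1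
      simp only [MulEquiv.coe_toMonoidHom, MulAut.conj_apply]; group)
  have iv : ∀ b ∈ B, Iv U M (m * n * (c * b) * (m * n)⁻¹) := fun b hb => ⟨by
      have : c * b ∈ T ⊓ Kc U c := ⟨mul_mem h.cT (h.BT hb), TC (mul_mem h.cT (h.BT hb)), by
        rw [show c⁻¹ * (c * b * c * (c * b)⁻¹) = b * (c * b * c⁻¹)⁻¹ by group, ci b hb]
        simpa using h.sq_k1 hk hb⟩
      convert l (conj_mem_cj (conj_mem_cj this)) using 1; group,
    conj_sq (by rw [← mul_assoc, ← h.cinv, mul_assoc c⁻¹, h.cinv]; nth_rw 2 [← h.cinv]; rw [← mul_assoc, ci b hb]; simp),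
    fun l => cB b hb (nU _ (mul_mem hm.1 hn) _ l)⟩
  have nc : ∀ b ∈ B, ∀ b' ∈ B, ep (m * n * (c * b) * (m * n)⁻¹) (m * n * (c * b') * (m * n)⁻¹) = 1 →
      b * b = b' * b' := fun b hb b' hb' l => by
    have l := (conj_comm.1 (ep_eq_one.1 l)).eq
    have e1 : ∀ b ∈ B, ∀ b', c * b * (c * b') = b⁻¹ * b' := fun b hb b' => by
      rw [← ci b hb, h.cinv]; group
    rw [e1 b hb, e1 b' hb', inv_mul_eq_iff_eq_mul] at l
    nth_rw 2 [l]
    rw [← mul_assoc, ← mul_assoc, h.comm b' hb' b hb]; group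
  obtain ⟨i, hi, i2⟩ := h.exists_i h.k1
  have i3 : a i * a i = a z := by rw [← map_mul, i2]
  rcases h.two (iv 1 (one_mem _)) (iv i hi) (fun l => h.z1 (by simpa [i2] using (nc _ (one_mem _) _ hi l).symm))
    (iv _ (h.aB i hi)).mem (iv _ (h.aB i hi)).sq with l | l
  · exact h.a1 (by simpa [i3] using (nc _ (one_mem _) _ (h.aB i hi) l).symm)
  · exact h.az (by rw [← i3, ← nc _ hi _ (h.aB i hi) l, i2])

omit [Finite G] in
theorem comm_T {y w : G} (hy : y ∈ T) (hw : w ∈ T) : ep y w ∈ M := h.commM y (h.TS hy) w (h.TS hw)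

theorem x2 (hG : ∀ H : Subgroup G, H.index ≠ 2) (hs : s ∉ T) (c1 : c ≠ 1) (s2 : s * s = c)
    (hI : ∀ e, ¬ Iv U M e) : False := by
  have sqT : ∀ f ∈ (P : Subgroup G), f * f ∈ M → f ∈ T := fun f hf l =>
    (h.cov f hf).resolve_right fun ht => h.cM c1 (by
      convert mul_mem (mul_mem l (inv_mem (h.BM (h.sqT h.k1 ht))))
        (inv_mem (h.commM _ (inv_mem h.hs) _ (h.TS ht))) using 1
      rw [← s2, ← pow_two s]; group)
  have iU : ∀ m ∈ M, m * m = 1 → m ∈ U := fun m hm m2 => by_contra fun l => hI m ⟨hm, m2, l⟩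
  obtain ⟨g, hg, hC⟩ := xt' hG P h.commM (h.TS h.cT) (h.cM c1) h.cc
    fun f hf f2 => h.covM f (sqT f hf (f2 ▸ one_mem _))
  have h1 : g * s * g⁻¹ ∈ T := sqT _ (hC s h.hs (s2 ▸ (Commute.refl s).mul_right (Commute.refl s)))
    (by rwa [conj_mul, s2])
  have h2 : g * a z * g⁻¹ ∈ T := sqT _ (hC _ (h.US h.azU) (h.cen c h.cT _ h.azU).symm)
    (by rw [conj_sq (h.sq _ h.azU)]; exact one_mem _)
  have e1 : ep (g * a z * g⁻¹) (g * s * g⁻¹) = g * z * g⁻¹ := by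
    rw [← conj_ep, h.ep_symm (t := s) (by rw [ep, h.s_az hs]; simpa using h.zU), ep, h.s_az hs]; simp
  have h3 : g * a z * g⁻¹ ∉ M := fun l => h.z1 (by
    have := ep_eq_one.2 (h.cen _ h1 _ (iU _ l (conj_sq (h.sq _ h.azU)))).symm
    simpa [e1] using this)
  have h4 : g * z * g⁻¹ ∈ U := iU _ (e1 ▸ h.comm_T h2 h1) (conj_sq h.zz)
  obtain ⟨h5, h6⟩ := h.outer h2 h3 (conj_sq (h.sq _ h.azU))
  have u2 := conj_sq (g := g) (h.sq _ h.azU)
  have e2 : g * s * g⁻¹ * (g * s * g⁻¹) = g * c * g⁻¹ := by rw [conj_mul, s2]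
  generalize g * a z * g⁻¹ = u at h2 e1 h3 h5 h6 u2
  generalize g * s * g⁻¹ = r at h1 e1 e2
  by_cases l : r ∈ M
  · obtain ⟨h7, h8⟩ := h6 r l (e1 ▸ h4)
    rw [ep, h5 r h7 h8, ← mul_inv_rev, h.inv_U h8, e2] at e1
    exact c1 (h.fixU ((by simpa using e1 : c = z) ▸ h.zU) h.ac)
  · have hm : u⁻¹ * r ∈ M := by
      convert mul_mem (inv_mem ((h.covM _ h2).resolve_left h3)) ((h.covM _ h1).resolve_left l) using 1; group
    obtain ⟨h7, h8⟩ := h6 _ hm (by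
      convert h.nU _ (inv_mem (h.TS h2)) _ (e1 ▸ h4) using 1; simp only [ep]; group)
    have := h5 _ h7 h8
    rw [show u * (u⁻¹ * r) * u⁻¹ = r * u⁻¹ by group, mul_inv_rev, inv_inv, inv_eq_of_mul_eq_one_right u2,
      mul_left_inj, ← mul_eq_one_iff_eq_inv, e2] at this
    exact c1 (by simpa using this)

end St

end CL.NE
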