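import Cfsg.Agent.SYL.NE5
import Cfsg.Agent.SOLV.SemiR2

/-!
2-groups without normal elementary abelian subgroup of order eight whose normal four-group is fused:
type `G₂(q)` and the classification.
-/

set_option autoImplicit false

namespace CL.NE

open Subgroup CL.MSS Cfsg

variable {G : Type*} [Group G] [Finite G] {T U B M : Subgroup G} {a : G →* G} {s z x c e j : G} {k : ℕ}

theorem mem_of_sq_mem (P : Sylow 2 G) {K : Subgroup G} (hK : (P : Subgroup G) ≤ K) {g : G}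
    (hg : ∀ y ∈ (P : Subgroup G), g * y * g⁻¹ ∈ (P : Subgroup G)) (h : g * g ∈ K) : g ∈ K := by
  have h1 : g ^ (P : Subgroup G).relIndex (normalizer ((P : Subgroup G) : Set G)) ∈ (P : Subgroup G) :=
    pow_index_mem ((P : Subgroup G).subgroupOf _)
      (⟨g, mem_normalizer_fintype hg⟩ : normalizer ((P : Subgroup G) : Set G))
  obtain ⟨j, hj⟩ : Odd ((P : Subgroup G).relIndex (normalizer ((P : Subgroup G) : Set G))) :=
    Nat.not_even_iff_odd.1 fun h => (sylIn_sylow P le_normalizer).not_dvd_relIndex h.two_dvd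
  rw [hj, pow_succ, pow_mul, pow_two] at h1
  simpa using mul_mem (inv_mem (pow_mem h j)) (hK h1)

namespace St

variable {P : Sylow 2 G} (h : St P T U B M a s z x c k)
include h

omit [Finite G] in
theorem zcen (g : G) (hg : g ∈ (P : Subgroup G)) : g * z = z * g :=
  mul_inv_eq_iff_eq_mul.1 (h.inv_of (J := (· = z)) (fun _ hg _ e => e ▸ h.cjU hg (e ▸ h.zU))
    (fun _ e => e ▸ h.sz) g hg z rfl)

omit [Finite G] in
theorem zp {w : G} (hw : w ∈ U) (l : w ∉ zpowers z) : (a z)⁻¹ * w ∈ zpowers z := by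
  rcases h.mem w hw with rfl | rfl | rfl | rfl
  · exact (l (one_mem _)).elim
  · exact (l (mem_zpowers _)).elim
  · simp
  · rw [← h.zaz, h.cen z (h.UT h.zU) _ h.azU]; simp

omit [Finite G] in
theorem az_zp : a z ∉ zpowers z := fun l => (CL.SR1.zp2 h.zz l).elim h.a1 h.az

omit [Finite G] in
theorem zpU : zpowers z ≤ U := zpowers_le.2 h.zU

omit [Finite G] in
theorem sqS (hB : M ≤ B) (s2 : s * s = 1) {y : G} (hy : y ∈ (P : Subgroup G)) : y * y ∈ B := by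
  obtain ⟨d, hd, e, hm⟩ := h.decS hy
  have d2 : d * d = 1 := by
    rcases e with rfl | rfl | rfl | rfl
    exacts [mul_one _, h.cc, s2, by
      rw [show s * c * (s * c) = s * c * s⁻¹ * (s * s) * c by group, h.sc, s2, mul_one, h.cc]]
  convert mul_mem (h.nB d hd _ (hB hm)) (hB hm) using 1
  calc _ = y * (d * d)⁻¹ * y := by rw [d2, inv_one, mul_one]
    _ = _ := by group

theorem tauU (c1 : c ≠ 1) {b : G} (hb : b ∈ B) : b * (c * b * c⁻¹) ∈ U := by
  have h1 := h.nB c (h.TS h.cT) b hb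
  refine h.cent_outer h.cT (h.cM c1) h.cc (h.BM (mul_mem hb h1)) ?_
  rw [← mul_inv_eq_iff_eq_mul, ← conj_mul, h.comm b hb _ h1,
    show c * (c * b * c⁻¹) * c⁻¹ = c * c * b * (c * c)⁻¹ by group, h.cc]; simp

omit [Finite G] in
theorem tau_mul {b b' : G} (hb : b ∈ B) (hb' : b' ∈ B) :
    b * b' * (c * (b * b') * c⁻¹) = b * (c * b * c⁻¹) * (b' * (c * b' * c⁻¹)) := by
  rw [← conj_mul, mul_assoc b, ← mul_assoc b', h.comm b' hb' _ (h.nB c (h.TS h.cT) b hb)]; group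

theorem tau_sq (c1 : c ≠ 1) {b y : G} (hb : b ∈ B) (hy : y ∈ B) :
    b * (y * y) * (c * (b * (y * y)) * c⁻¹) = b * (c * b * c⁻¹) := by
  rw [h.tau_mul hb (mul_mem hy hy), h.tau_mul hy hy, h.sq _ (h.tauU c1 hy), mul_one]

omit [Finite G] in
theorem tau_a (b : G) : a b * (c * a b * c⁻¹) = a (b * (c * b * c⁻¹)) := by simp [h.ac]

theorem tau_ne (c1 : c ≠ 1) (hx : x * (c * x * c⁻¹) ≠ 1) {b : G} (hb : b ∈ B) (e : b ^ 2 ^ k ≠ 1) :
    b * (c * b * c⁻¹) ≠ 1 := by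
  have i : ∀ u ∈ U, u ≠ 1 → a u ≠ 1 := fun u hu l e => l (h.inj (h.UT hu) (one_mem _) (by rw [e, map_one]))
  have p := h.tauU c1 h.xB
  obtain ⟨y, hy, rfl | rfl | rfl | rfl⟩ := h.cls hb
  · exact (e (by rw [← pow_two, ← pow_mul, ← pow_succ', h.ex y hy])).elim
  · rwa [h.tau_sq c1 h.xB hy]
  · rw [h.tau_sq c1 (h.aB _ h.xB) hy, h.tau_a]; exact i _ p hx
  · rw [h.tau_sq c1 (h.aB _ (h.aB _ h.xB)) hy, h.tau_a, h.tau_a]; exact i _ (h.aU _ p) (i _ p hx)

theorem tyW (hB : M ≤ B) (hk : 2 ≤ k) (hs : s ∉ T) (s2 : s * s = 1) (c1 : c ≠ 1)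
    (hx : x * (c * x * c⁻¹) = 1) : TyW (P : Subgroup G) := by
  have ci : ∀ b ∈ B, c * b * c⁻¹ = b⁻¹ := fun b hb => eq_inv_of_mul_eq_one_right (by
    obtain ⟨y, hy, rfl | rfl | rfl | rfl⟩ := h.cls hb
    · simpa using h.tau_sq c1 (one_mem _) hy
    · rwa [h.tau_sq c1 h.xB hy]
    · rw [h.tau_sq c1 (h.aB _ h.xB) hy, h.tau_a, hx, map_one]
    · rw [h.tau_sq c1 (h.aB _ (h.aB _ h.xB)) hy, h.tau_a, h.tau_a, hx, map_one, map_one])
  have b0 := h.aB _ h.xB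
  have b1 := h.nB s h.hs _ b0
  have e0 : a x ^ 2 ^ k = a z := by rw [← map_pow, h.xz]
  have e1 : (s * a x * s⁻¹) ^ 2 ^ k = z * a z := by rw [conj_pow, e0, h.s_az hs]
  have e2 : (a x * (s * a x * s⁻¹)) ^ 2 ^ k = z := by
    rw [Commute.mul_pow (h.comm _ b0 _ b1), e0, e1, ← mul_assoc, h.cen _ (h.UT h.azU) z h.zU, mul_assoc,
      h.sq _ h.azU, mul_one]
  obtain ⟨n, rfl⟩ := Nat.exists_eq_add_of_le' hk
  have e3 : 8 * 2 ^ n = 2 ^ (n + 2 + 1) := by ring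
  have m0 : a x ∈ closure {a x, c, s} := subset_closure (by simp)
  have m1 : c ∈ closure {a x, c, s} := subset_closure (by simp)
  have m2 : s ∈ closure {a x, c, s} := subset_closure (by simp)
  have m3 := mul_mem (mul_mem m2 m0) (inv_mem m2)
  refine ⟨n, a x, s * a x * s⁻¹, c, s, ?_, e3 ▸ h.ex _ b0, h.comm _ b0 _ b1, h.cc, s2,
    (mul_inv_eq_iff_eq_mul.1 h.sc).symm, ci _ b0, ci _ b1, rfl, fun y hy => ?_, h.TS (h.BT b0), h.TS h.cT, h.hs⟩
  · exact e3 ▸ orderOf_eq_prime_pow (e2.symm ▸ h.z1) (h.ex _ (mul_mem b0 b1))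
  obtain ⟨d, -, l, hd⟩ := h.decS hy
  obtain ⟨w, hw, e⟩ := h.root (H := closure {a x, c, s} ⊓ B) inf_le_right (fun w hw => by
    rcases h.mem w hw with rfl | rfl | rfl | rfl
    · exact ⟨1, one_mem _, one_pow _⟩
    · exact ⟨_, ⟨mul_mem m0 m3, mul_mem b0 b1⟩, e2⟩
    · exact ⟨_, ⟨m0, b0⟩, e0⟩
    · exact ⟨_, ⟨m3, b1⟩, h.zaz ▸ e1⟩) _ 0 (zero_add _) _ (hB hd) (h.ex _ (hB hd))
  have : d ∈ closure {a x, c, s} := by
    rcases l with rfl | rfl | rfl | rfl; exacts [one_mem _, m1, m2, mul_mem m2 m1]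
  have := mul_mem this hw.1
  rwa [show w = d⁻¹ * y by simpa using e, mul_inv_cancel_left] at this

omit [Finite G] in
theorem cj_z (c1 : c ≠ 1) {b w : G} (hb : b ∈ B) (e : b * b = z) (hw : w ∈ zpowers z) : IsConj (b * w) b := by
  rcases CL.SR1.zp2 h.zz hw with rfl | rfl
  · rw [mul_one]
  · refine (isConj_iff.2 ⟨c, ?_⟩).symm
    rw [h.inv.resolve_left c1 b hb (e ▸ h.zU), inv_eq_iff_mul_eq_one, ← mul_assoc, e, h.zz]

omit [Finite G] in
theorem cj_pair (c1 : c ≠ 1) (hj : j ∈ B) (j2 : j * j = z) {b v : G} (hb : b ∈ B) (hv : v ∈ U) (e : b * b ∈ U)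
    (e1 : b * b ≠ 1) (v1 : v ∉ zpowers (b * b)) : IsConj b (j * a z) ∨ IsConj (b * v) (j * a z) := by
  have key : ∀ b ∈ B, ∀ v ∈ U, b * b = z → v ∉ zpowers (b * b) →
      IsConj b (j * a z) ∨ IsConj (b * v) (j * a z) := fun b hb v hv e v1 => by
    obtain ⟨w, hw, rfl⟩ := h.of_sq hj hb (e.trans j2.symm)
    have q : ∀ w ∈ U, w ∉ zpowers z → IsConj (j * w) (j * a z) := fun w hw l => by
      simpa [mul_assoc] using h.cj_z c1 (mul_mem hj (h.UB h.azU))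
        (by rw [h.mulU_sq (h.BT hj) h.azU, j2]) (h.zp hw l)
    by_cases l : w ∈ zpowers z
    · exact .inr (mul_assoc j w v ▸ q _ (mul_mem hw hv) fun l' => v1 (by simpa [e] using mul_mem (inv_mem l) l'))
    · exact .inl (q w hw l)
  have red : ∀ b ∈ B, ∀ v ∈ U, b * b ∈ U → v ∉ zpowers (b * b) → a v ∉ zpowers (a b * a b) :=
    fun b hb v hv e v1 l => v1 (by
      obtain ⟨n, l⟩ := l
      refine ⟨n, h.inj (h.UT (zpow_mem e n)) (h.UT hv) ?_⟩
      simpa using l)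
  have up : ∀ b v, IsConj (a b) (j * a z) ∨ IsConj (a b * a v) (j * a z) →
      IsConj b (j * a z) ∨ IsConj (b * v) (j * a z) := fun b v =>
    Or.imp (h.cj b).trans fun l => (h.cj _).trans (by rwa [map_mul])
  rcases h.memU e e1 h.zU with l | l | l | l
  · exact (h.z1 l).elim
  · exact key b hb v hv l.symm v1
  · exact up _ _ (key _ (h.aB b hb) _ (h.aU v hv) (by rw [l, map_mul]) (red b hb v hv e v1))
  · exact up _ _ (up _ _ (key _ (h.aB _ (h.aB b hb)) _ (h.aU _ (h.aU v hv)) (by rw [l, map_mul, map_mul])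
      (red _ (h.aB b hb) _ (h.aU v hv) (h.asq e) (red b hb v hv e v1))))

omit [Finite G] in
theorem cj_s (hs : s ∉ T) (s2 : s * s = 1) (hj : j ∈ B) (j2 : j * j = z) (sj : s * j * s⁻¹ = j) {b : G}
    (hb : b ∈ B) (e : s * b * (s * b) = z) : IsConj (s * j) (s * b) := by
  have si : s⁻¹ = s := inv_eq_of_mul_eq_one_right s2
  have hd := mul_mem (inv_mem hj) hb
  have e1 : s * (j⁻¹ * b) * s⁻¹ = (j⁻¹ * b)⁻¹ := by
    rw [← conj_mul, ← conj_inv, sj, ← mul_eq_one_iff_eq_inv, mul_assoc, ← mul_assoc _ j⁻¹,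
      h.comm _ (h.nB s h.hs b hb) _ (inv_mem hj), mul_assoc j⁻¹, si, mul_assoc _ s b, e, ← j2]; group
  have e2 := h.nrm hd
  have e3 := h.s_a hs (h.BT hd)
  rw [e1, map_inv, map_inv] at e3
  have e4 := h.comm _ (inv_mem (h.aB _ (h.aB _ hd))) j hj
  refine isConj_iff.2 ⟨a (j⁻¹ * b), ?_⟩
  have e5 : a (j⁻¹ * b) * s = s * (a (a (j⁻¹ * b)))⁻¹ := by
    rw [← e3, ← mul_assoc, ← mul_assoc, s2, one_mul, si]
  rw [← mul_assoc, e5, mul_assoc s, e4, ← mul_assoc, mul_assoc (s * j), ← mul_inv_rev,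
    ← eq_inv_of_mul_eq_one_left (mul_assoc (j⁻¹ * b) _ _ ▸ e2)]; group

/-- the elements of `c B` which are not involutions are conjugate -/
theorem x3b (hk : 2 ≤ k) (c1 : c ≠ 1) {b : G} (hb : b ∈ B) (e : c * b * (c * b) ≠ 1) :
    IsConj (c * x) (c * b) := by
  have key : ∀ w ∈ B, ∀ y ∈ B, IsConj (c * w) (c * (w * (y * y))) := fun w hw y hy => by
    obtain ⟨v, hv, l⟩ := h.sqrtU (h.tauU c1 hy)
    obtain ⟨v, hv', rfl⟩ := h.sqrt4 hk hv (l ▸ h.tauU c1 hy)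
    have e1 := h.tau_sq c1 hy hv'
    have m := mul_mem hy hv
    refine isConj_iff.2 ⟨(y * (v * v))⁻¹, ?_⟩
    rw [← l] at e1
    generalize v * v = t at hv e1
    have k1 : Commute y t := h.comm y hy t hv
    have k2 : Commute w t := h.comm w hw t hv
    have k3 : Commute y w := h.comm y hy w hw
    calc _ = c⁻¹ * (c * (y * t) * c⁻¹)⁻¹ * (c * c) * (w * (y * t)) := by group
      _ = _ := by
        rw [h.cc, eq_inv_mul_iff_mul_eq.2 e1, h.cinv, mul_inv_rev, inv_inv, mul_one, mul_assoc, mul_assoc,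
          mul_right_inj, inv_mul_eq_iff_eq_mul]
        simp only [mul_assoc, k1.eq, k1.left_comm, k2.left_comm, k3.left_comm]
  obtain ⟨y, hy, rfl | rfl | rfl | rfl⟩ := h.cls hb
  · refine (e ?_).elim
    have := h.tau_sq c1 (one_mem _) hy
    rw [one_mul, mul_one, mul_inv_cancel, mul_one, h.comm _ (mul_mem hy hy) _
      (h.nB c (h.TS h.cT) _ (mul_mem hy hy)), h.cinv, mul_assoc] at this
    exact this
  · exact key x h.xB y hy
  · exact IsConj.trans (by simpa [h.ac] using h.cj (c * x)) (key _ (h.aB _ h.xB) y hy)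
  · exact IsConj.trans (by simpa [h.ac] using (h.cj (c * x)).trans (h.cj _)) (key _ (h.aB _ (h.aB _ h.xB)) y hy)

omit [Finite G] in
theorem le_Kc (hB : M ≤ B) (c1 : c ≠ 1) {b : G} (hb : b ∈ B) (e : b * b = z)
    (l : b⁻¹ * (s * b * s⁻¹) ∈ zpowers z) : (P : Subgroup G) ≤ Kc (zpowers z) b := by
  have cz : (P : Subgroup G) ≤ centralizer (zpowers z : Set G) := by
    rintro g hg _ ⟨n, rfl⟩; exact (Commute.zpow_right (h.zcen g hg) n).symm
  have h1 : B ≤ Kc (zpowers z) b := fun y hy => ⟨cz (h.TS (h.BT hy)), by rw [h.comm y hy b hb]; simp⟩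
  have h2 : c ∈ Kc (zpowers z) b := ⟨cz (h.TS h.cT), by
    rw [h.inv.resolve_left c1 b hb (e ▸ h.zU), ← mul_inv_rev, e]; simp⟩
  have h3 : s ∈ Kc (zpowers z) b := ⟨cz h.hs, l⟩
  intro y hy
  obtain ⟨d, -, l, hd⟩ := h.decS hy
  have : d ∈ Kc (zpowers z) b := by
    rcases l with rfl | rfl | rfl | rfl; exacts [one_mem _, h2, h3, mul_mem h3 h2]
  simpa using mul_mem this (h1 (hB hd))

theorem x3c (hB : M ≤ B) (hk : 2 ≤ k) (hs : s ∉ T) (s2 : s * s = 1) (c1 : c ≠ 1) (hj : j ∈ B) (j2 : j * j = z)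
    (sj : s * j * s⁻¹ = j) : ¬ IsConj j (j * a z) := fun l => by
  obtain ⟨g, e⟩ := isConj_iff.1 l
  have hu := mul_mem hj (h.UB h.azU)
  have u2 : j * a z * (j * a z) = z := by rw [h.mulU_sq (h.BT hj) h.azU, j2]
  have k1 := h.le_Kc hB c1 hj j2 (by rw [sj]; simp)
  have k2 := h.le_Kc hB c1 hu u2 (by
    rw [← conj_mul, sj, h.s_az hs, h.cen z (h.UT h.zU) _ h.azU, ← mul_assoc j, inv_mul_cancel_left]
    exact mem_zpowers z)
  have gz : g ∈ centralizer (zpowers z : Set G) := by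
    rintro _ ⟨n, rfl⟩
    refine (Commute.zpow_right (mul_inv_eq_iff_eq_mul.1 ?_) n).symm
    rw [← j2, ← conj_mul, e, u2, j2]
  have nz : ∀ g ∈ centralizer (zpowers z : Set G), ∀ y, g * y * g⁻¹ ∈ zpowers z ↔ y ∈ zpowers z :=
    fun g hg y => (mem_normalizer_iff.1 (centralizer_le_normalizer _ hg) y).symm
  obtain ⟨n, hn, l⟩ := CL.P2.conj_into P k2 le_rfl (g := g) fun y hy =>
    ⟨mul_mem (mul_mem gz (k1 hy).1) (inv_mem gz), by
      rw [← e]; convert (nz g gz _).2 (k1 hy).2 using 1; group⟩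
  have e1 : (j * a z)⁻¹ * (n * g * j * (n * g)⁻¹) ∈ zpowers z := by
    convert hn.2 using 2; rw [← e]; group
  have dz := mul_mem hn.1 gz
  generalize n * g = d at l e1 dz
  obtain ⟨y, hy, e2⟩ := h.sqrt4 hk hu (by rw [u2]; exact h.zU)
  obtain ⟨w, hw, e3⟩ := h.of_sq hj (b := d * (j * a z) * d⁻¹)
    (by rw [← e2, ← conj_mul]; exact h.sqS hB s2 (l y (h.TS (h.BT hy))))
    (by rw [conj_mul, u2, j2, ← dz z (mem_zpowers z), mul_inv_cancel_right])
  by_cases lw : w ∈ zpowers z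
  · have := mem_of_sq_mem P k1 l ⟨mul_mem dz dz, by
      convert mul_mem lw ((nz d dz _).2 e1) using 1
      rw [eq_inv_mul_iff_mul_eq.2 e3.symm]; group⟩
    refine h.az_zp ?_
    convert mul_mem this.2 (inv_mem e1) using 1; group
  · refine h.az_zp ((nz d dz _).1 ?_)
    convert mul_mem (inv_mem e1) (h.zp hw lw) using 1
    rw [eq_inv_mul_iff_mul_eq.2 e3.symm]; group

theorem x3a (hG : ∀ H : Subgroup G, H.index ≠ 2) (hB : M ≤ B) (hk : 2 ≤ k) (hs : s ∉ T) (s2 : s * s = 1)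
    (c1 : c ≠ 1) (hx : x * (c * x * c⁻¹) ≠ 1) (hj : j ∈ B) (j2 : j * j = z) (sj : s * j * s⁻¹ = j) :
    (∀ b ∈ B, s * b * (s * b) = z → IsConj (s * b) (j * a z)) ∧
      ∃ b ∈ B, c * s * b * (c * s * b) = z ∧ IsConj (c * x) (c * s * b) := by
  obtain ⟨g, hg, hC⟩ := xt' hG P (N := T) (fun y hy w hw => h.MT (h.commM y hy w hw)) h.hs hs s2
    fun f hf _ => h.cov f hf
  obtain ⟨y, hy, sy, ey⟩ : ∃ y ∈ B, Commute y s ∧ y ^ 2 ^ k = z := by
    have b0 := h.aB _ h.xB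
    have b1 := h.nB s h.hs _ b0
    refine ⟨_, mul_mem b0 b1, (mul_inv_eq_iff_eq_mul.1 ?_).symm, ?_⟩
    · rw [← conj_mul, h.comm _ b0 _ b1, show s * (s * a x * s⁻¹) * s⁻¹ = s * s * a x * (s * s)⁻¹ by group, s2]
      simp
    · rw [Commute.mul_pow (h.comm _ b0 _ b1), conj_pow, ← map_pow, h.xz, h.s_az hs, ← mul_assoc,
        h.cen _ (h.UT h.azU) z h.zU, mul_assoc, h.sq _ h.azU, mul_one]
  have yS := h.TS (h.BT hy)
  have y3 : y * y * (y * y) ≠ 1 := fun this => h.z1 (by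
    obtain ⟨n, rfl⟩ := Nat.exists_eq_add_of_le hk
    rw [← ey, pow_add, pow_mul, show y ^ 2 ^ 2 = y * y * (y * y) by simp [pow_succ, mul_assoc], this, one_pow])
  have y4 : g * (y * y) * g⁻¹ ∉ U := fun l => y3 (by
    have := h.sq _ l
    rwa [conj_mul, mul_inv_eq_one, mul_eq_left] at this)
  have y2 : g * (y * y) * g⁻¹ ∈ B := by rw [← conj_mul]; exact h.sqS hB s2 (hC y yS sy)
  have sU : g * s * g⁻¹ ∈ U := h.om' (hB (by_contra fun l => y4 (h.cent_outer hg l (conj_sq s2) (h.BM y2)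
    (conj_comm.2 (sy.symm.mul_right sy.symm))))) (conj_sq s2)
  have js : Commute j s := (mul_inv_eq_iff_eq_mul.1 sj).symm
  have jS := h.TS (h.BT hj)
  have zU : g * z * g⁻¹ ∈ U :=
    h.om' (by rw [← j2, ← conj_mul]; exact h.sqS hB s2 (hC j jS js)) (conj_sq h.zz)
  have s1 : s ≠ 1 := fun e => hs (e ▸ one_mem _)
  have sz : s ≠ z := fun e => hs (e ▸ h.UT h.zU)
  have hT : ∀ r ∈ (P : Subgroup G), Commute r s → g * r * g⁻¹ ∈ T := fun r hr l =>
    h.hT _ (hC r hr l) fun u hu => by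
      have l1 := conj_comm (g := g).2 l
      have l2 := conj_comm (g := g).2 (h.zcen r hr)
      rcases h.gen2 zU sU (by simpa using h.z1) (by simpa using s1) (by simpa using sz) hu with rfl | rfl | rfl | rfl
      exacts [by simp, l2, l1, l2.mul_right l1]
  have hB' : ∀ r ∈ (P : Subgroup G), Commute r s → (g * r * g⁻¹ ∈ B ↔ Commute r (y * y)) := fun r hr l =>
    ⟨fun l' => conj_comm.1 (h.comm _ l' _ y2), fun l' => hB (by_contra fun l1 => y4 (by
      have l2 := (h.covM _ (hT r hr l)).resolve_left l1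
      refine h.cent_outer h.cT (h.cM c1) h.cc (h.BM y2) ?_
      have := (conj_comm (g := g).2 l').mul_left (Commute.inv_left (h.comm _ (hB l2) _ y2))
      rwa [mul_inv_rev, inv_inv, mul_inv_cancel_left] at this))⟩
  have cs : Commute c s := (mul_inv_eq_iff_eq_mul.1 h.sc).symm
  refine ⟨fun b hb e => ?_, y, hy, ?_, ?_⟩
  · have jB := (hB' j jS js).2 (h.comm j hj _ (mul_mem hy hy))
    have q : g * j * g⁻¹ * (g * j * g⁻¹) = g * z * g⁻¹ := by rw [conj_mul, j2]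
    rcases h.cj_pair c1 hj j2 jB sU (q ▸ zU) (by simpa [q] using h.z1) (fun l => by
      exact (CL.SR1.zp2 (conj_sq h.zz) (q ▸ l)).elim (by simpa using s1) (by simpa using sz)) with l | l
    · exact (h.x3c hB hk hs s2 c1 hj j2 sj ((isConj_iff.2 ⟨g, rfl⟩).trans l)).elim
    · refine (h.cj_s hs s2 hj j2 sj hb e).symm.trans ((isConj_iff.2 ⟨g, ?_⟩).trans l)
      rw [conj_mul, js.eq]
  all_goals
    have e : c * s * y * (c * s * y) = z := by
      have l := h.tauU c1 hy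
      have e : c * s * y * (c * s * y) = y * (c * y * c⁻¹) := by
        rw [h.comm y hy _ (h.nB c (h.TS h.cT) y hy), h.cinv]
        calc _ = c * (s * y) * c * s * y := by group
          _ = c * y * (s * c * s⁻¹) * (s * s) * y := by rw [← sy.eq]; group
          _ = _ := by rw [h.sc, s2, mul_one]
      rw [e]
      refine (h.s_fix hs l ?_).resolve_left (h.tau_ne c1 hx hy (ey.symm ▸ h.z1))
      rw [(sy.symm.mul_right ((cs.symm.mul_right sy.symm).mul_right cs.symm.inv_right)).eq, mul_inv_cancel_right]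
  · exact e
  have rS := mul_mem (mul_mem (h.TS h.cT) h.hs) yS
  have rs : Commute (c * s * y) s := (cs.mul_left rfl).mul_left sy
  have := (h.covM _ (hT _ rS rs)).resolve_left fun l => y3 (h.sq _ (by
    refine h.cent_outer h.cT (h.cM c1) h.cc (h.BM (mul_mem hy hy)) ?_
    have := ((hB' _ rS rs).1 (hB l)).mul_left
      ((sy.symm.mul_right sy.symm).mul_left ((Commute.refl y).mul_right rfl)).inv_left
    rwa [mul_assoc c s y, mul_inv_cancel_right] at this))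
  have l := h.x3b hk c1 (hB this) (by rw [mul_inv_cancel_left, conj_mul, e]; simpa using h.z1)
  rw [mul_inv_cancel_left] at l
  exact l.trans (isConj_iff.2 ⟨g, rfl⟩).symm

theorem x3 (hG : ∀ H : Subgroup G, H.index ≠ 2) (hB : M ≤ B) (hk : 2 ≤ k) (hs : s ∉ T) (s2 : s * s = 1)
    (c1 : c ≠ 1) : x * (c * x * c⁻¹) = 1 := by
  by_contra hx
  obtain ⟨j, hj, j2, sj⟩ : ∃ j ∈ B, j * j = z ∧ s * j * s⁻¹ = j := by
    obtain ⟨i, hi, i2⟩ := h.exists_i h.k1
    have b0 := h.aB _ hi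
    have b1 := h.nB s h.hs _ b0
    refine ⟨_, mul_mem b0 b1, ?_, ?_⟩
    · rw [← pow_two, Commute.mul_pow (h.comm _ b0 _ b1), conj_pow, ← map_pow, pow_two, i2, h.s_az hs, ← mul_assoc,
        h.cen _ (h.UT h.azU) z h.zU, mul_assoc, h.sq _ h.azU, mul_one]
    · rw [← conj_mul, h.comm _ b0 _ b1, show s * (s * a i * s⁻¹) * s⁻¹ = s * s * a i * (s * s)⁻¹ by group, s2]
      simp
  obtain ⟨h1, b, hb, h2, h3⟩ := h.x3a hG hB hk hs s2 c1 hx hj j2 sj
  obtain ⟨h4, b', hb', h5, h6⟩ := (h.swap hs).x3a hG hB hk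
    (fun k => hs (by simpa using mul_mem (inv_mem h.cT) k))
    (by rw [show c * s * (c * s) = c * (s * c * s⁻¹) * (s * s) by group, h.sc, h.cc, s2, mul_one]) c1 hx
    (mul_mem hj (h.UB h.azU)) (by rw [h.mulU_sq (h.BT hj) h.azU, j2]) (by
      rw [show c * s * (j * a z) * (c * s)⁻¹ = c * (s * j * s⁻¹) * c⁻¹ * (c * (s * a z * s⁻¹) * c⁻¹) by group, sj,
        h.s_az hs, h.cjU h.cT (mul_mem h.zU h.azU), h.inv.resolve_left c1 j hj (j2 ▸ h.zU), ← j2]; group)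
  rw [← mul_assoc c c, h.cc, one_mul] at h5 h6
  have := h4 b hb h2
  rw [mul_assoc j, h.sq _ h.azU, mul_one] at this
  exact h.x3c hB hk hs s2 c1 hj j2 sj (this.symm.trans (h3.symm.trans (h6.trans (h1 b' hb' h5))))

theorem cases (hG : ∀ H : Subgroup G, H.index ≠ 2) {t : G} (ht : t ∈ T) (t2 : t * t = 1) (tU : t ∉ U) :
    (c = 1 ∧ ∃ e, Iv U M e) ∨ (c ≠ 1 ∧ s ∉ T ∧ ((∃ e, Iv U M e) ∨
      (M ≤ B ∧ 2 ≤ k ∧ s * s = 1 ∧ x * (c * x * c⁻¹) = 1))) := by
  by_cases c1 : c = 1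
  · exact .inl ⟨c1, t, by simpa [c1] using h.covM t ht, t2, tU⟩
  have hs : s ∉ T := fun hs => h.x5 hG (fun y hy => (h.cov y hy).elim id fun l => by simpa using mul_mem hs l) c1
  refine .inr ⟨c1, hs, or_iff_not_imp_left.2 fun hI => ?_⟩
  have s2 := h.ss'.resolve_right fun s2 => h.x2 hG hs c1 s2 fun e he => hI ⟨e, he⟩
  have hB : M ≤ B := by_contra fun hB => hI (h.exists_Iv hB hs s2)
  have hk : 2 ≤ k := h.k1.lt_of_ne fun hk => h.notriv c1 fun m hm =>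
    h.ep4 h.cT (hB hm) (h.sq_k1 hk.symm (hB hm))
  exact ⟨hB, hk, s2, h.x3 hG hB hk hs s2 c1⟩

end St

theorem Ctx.main {P : Sylow 2 G} (h : Ctx P T U a s z) (hG : ∀ H : Subgroup G, H.index ≠ 2) {t : G} (ht : t ∈ T)
    (t2 : t * t = 1) (tU : t ∉ U) : TyW (P : Subgroup G) ∨ TyJ (P : Subgroup G) ∨ TyL (P : Subgroup G) := by
  obtain ⟨B, M, x, c, k, h⟩ := h.exists_St fun l => tU (l ht)
  rcases h.cases hG ht t2 tU with ⟨c1, e, he⟩ | ⟨c1, hs, ⟨e, he⟩ | ⟨hB, hk, s2, hx⟩⟩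
  · exact .inr (.inl (h.tyJ he c1))
  · exact .inr (.inr (h.tyL he c1 hs))
  · exact .inl (h.tyW hB hk hs s2 c1 hx)

end CL.NE
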