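import Mathlib
import Cfsg.Agent.INV.MacW.Fus
import Cfsg.Prelude.Def_Local
import Cfsg.Agent.SYL.NEy

/-! Janko–Thompson: if a Sylow 2-subgroup has no normal `E₈` and the involutions of a normal
four-subgroup have 2-constrained centralizers, then these involutions are conjugate. -/

set_option autoImplicit false

namespace CL.NEx

open Subgroup

variable {G : Type*} [Group G] [Finite G]

theorem pre (S : Sylow 2 G)
    (h8 : ∀ E : Subgroup G, E ≤ S → (S : Subgroup G) ≤ normalizer (E : Set G) →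
      (∀ a ∈ E, a * a = 1) → Nat.card E ≤ 4)
    {U : Subgroup G} (US : U ≤ S) (Un : (S : Subgroup G) ≤ normalizer (U : Set G))
    (U4 : Nat.card U = 4) (U2 : ∀ a ∈ U, a * a = 1) : CL.NE.Pre S U where
  p2 := S.isPGroup'
  US := US
  kl := by
    have : Nontrivial U := Finite.one_lt_card_iff_nontrivial.1 (by omega)
    refine ⟨U4, (Monoid.exponent_eq_prime_iff Nat.prime_two).2 fun g g1 => orderOf_eq_prime ?_ g1⟩
    exact Subtype.ext (by simpa [pow_two] using U2 g g.2)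
  nU := fun g hg u hu => (mem_normalizer_iff.1 (Un hg) u).1 hu
  k4 := fun E hE hn h2 => h8 E hE (fun g hg => mem_normalizer_iff.2 fun x =>
    ⟨hn g hg x, fun hx => by simpa [mul_assoc] using hn _ (inv_mem hg) _ hx⟩) h2

theorem fused (hG : ∀ H : Subgroup G, H.index ≠ 2) (S : Sylow 2 G)
    (hZ : ∀ z ∈ (S : Subgroup G), orderOf z = 2 →
      ∃ g : G, g * z * g⁻¹ ∈ (S : Subgroup G) ∧ g * z * g⁻¹ ≠ z)
    (h8 : ∀ E : Subgroup G, E ≤ S → (S : Subgroup G) ≤ normalizer (E : Set G) →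
      (∀ a ∈ E, a * a = 1) → Nat.card E ≤ 4)
    {U : Subgroup G} (US : U ≤ S) (Un : (S : Subgroup G) ≤ normalizer (U : Set G))
    (U4 : Nat.card U = 4) (U2 : ∀ a ∈ U, a * a = 1)
    (hC : ∀ t ∈ U, t ≠ 1 → Cfsg.IsPConstrained 2 (centralizer ({t} : Set G))) :
    ∀ a ∈ U, ∀ b ∈ U, a ≠ 1 → b ≠ 1 → IsConj a b :=
  (pre S h8 US Un U4 U2).fused' hG hZ hC

theorem fused_of_simple [IsSimpleGroup G] (hna : ¬ IsMulCommutative G) (S : Sylow 2 G)
    (h8 : ∀ E : Subgroup G, E ≤ S → (S : Subgroup G) ≤ normalizer (E : Set G) →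
      (∀ a ∈ E, a * a = 1) → Nat.card E ≤ 4)
    {U : Subgroup G} (US : U ≤ S) (Un : (S : Subgroup G) ≤ normalizer (U : Set G))
    (U4 : Nat.card U = 4) (U2 : ∀ a ∈ U, a * a = 1)
    (hC : ∀ t ∈ U, t ≠ 1 → Cfsg.IsPConstrained 2 (centralizer ({t} : Set G))) :
    ∀ a ∈ U, ∀ b ∈ U, a ≠ 1 → b ≠ 1 → IsConj a b :=
  (pre S h8 US Un U4 U2).fused hna hC

end CL.NEx
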