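import Cfsg.Agent.SYL.NE7
import Cfsg.Agent.SIG.Opp
import Cfsg.Agent.S0501
import Cfsg.Agent.S1327

/-!
No normal elementary abelian subgroup of order eight, the normal four-group not fused: tools.
-/

set_option autoImplicit false
set_option linter.unusedSectionVars false

namespace CL.NE

open Subgroup CL.MSS CL.PComp Cfsg
open scoped commutatorElement

variable {G : Type*} [Group G] {S T U : Subgroup G} {z t u v x y : G}

theorem nx_inv (h : x * x = 1) : x⁻¹ = x := inv_eq_of_mul_eq_one_right h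

theorem nx_zp (h : z * z = 1) : x ∈ zpowers z ↔ x = 1 ∨ x = z := by
  refine ⟨fun hx => ?_, by rintro (rfl | rfl); exacts [one_mem _, mem_zpowers _]⟩
  rw [zpowers_eq_closure, ← Set.pair_eq_singleton z] at hx
  simpa [h, or_assoc, or_comm, or_left_comm] using (CL.Four.mem_closure_pair_iff_of_commute h h rfl).1 hx

theorem nx_p2 (h : x * x = 1) : IsPGroup 2 (zpowers x) :=
  MSS.isPGroup_zpowers (k := 1) (by simpa [pow_two] using h)

theorem nx_el {E : Subgroup G} (h : ∀ x ∈ E, x * x = 1) : IsPGroup 2 E :=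
  isPGroup_iff_forall_mem.2 fun x hx => ⟨1, by simpa [pow_two] using h x hx⟩

theorem nx_comm {E : Subgroup G} (h : ∀ x ∈ E, x * x = 1) (hx : x ∈ E) (hy : y ∈ E) : x * y = y * x := by
  rw [← nx_inv (h _ (mul_mem hx hy)), mul_inv_rev, nx_inv (h x hx), nx_inv (h y hy)]

theorem nx_cj (c : x * y = y * x) : x * y * x⁻¹ = y := by rw [c, mul_inv_cancel_right]

theorem nx_cj' (c : x * y * x⁻¹ = y) : x * y = y * x := mul_inv_eq_iff_eq_mul.1 c

theorem nx_cjc (g : G) (c : x * y = y * x) : g * x * g⁻¹ * (g * y * g⁻¹) = g * y * g⁻¹ * (g * x * g⁻¹) := by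
  rw [conj_mul, conj_mul, c]

theorem nx_cj2 (g : G) (c : x * x = 1) : g * x * g⁻¹ * (g * x * g⁻¹) = 1 := by rw [conj_mul, c, mul_one, mul_inv_cancel]

theorem nx_cm (h : z * z = 1) : ⁅x, y⁆ ∈ zpowers z ↔ x * y * x⁻¹ = y ∨ x * y * x⁻¹ = z * y := by
  rw [nx_zp h, commutatorElement_def, mul_inv_eq_one, mul_inv_eq_iff_eq_mul (a := x * y * x⁻¹)]

theorem nx_cms {Z : Subgroup G} (h : ⁅x, y⁆ ∈ Z) : ⁅y, x⁆ ∈ Z := by
  rw [← commutatorElement_inv]; exact inv_mem h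

/-- the elements centralizing `t` and `y ⟨t⟩` -/
def stz (t y : G) : Subgroup G where
  carrier := {x | x * t = t * x ∧ ⁅x, y⁆ ∈ zpowers t}
  one_mem' := ⟨by simp, by simp⟩
  mul_mem' := fun {a b} ha hb => ⟨by rw [mul_assoc, hb.1, ← mul_assoc, ha.1, mul_assoc], by
    obtain ⟨k, hk⟩ := hb.2
    have : ⁅a * b, y⁆ = a * ⁅b, y⁆ * a⁻¹ * ⁅a, y⁆ := by group
    rw [this, ← hk, nx_cj ((Commute.zpow_right ha.1 k).eq)]
    exact mul_mem (zpow_mem (mem_zpowers t) k) ha.2⟩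
  inv_mem' := fun {a} ha => ⟨(Commute.inv_left ha.1).eq, by
    obtain ⟨k, hk⟩ := inv_mem ha.2
    have : ⁅a⁻¹, y⁆ = a⁻¹ * ⁅a, y⁆⁻¹ * a⁻¹⁻¹ := by group
    rw [this, ← hk, nx_cj ((Commute.zpow_right (Commute.inv_left ha.1) k).eq)]
    exact zpow_mem (mem_zpowers t) k⟩

theorem nx_sqmod {K : Set G} (hc : ∀ x ∈ K, x * t = t * x) (h2 : ∀ x ∈ K, x * x = 1)
    (hK : ∀ x ∈ K, ∀ y ∈ K, ⁅x, y⁆ ∈ zpowers t) :
    ∀ x ∈ closure K, x * t = t * x ∧ x * x ∈ zpowers t := by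
  have h1 : ∀ y ∈ K, closure K ≤ stz t y := fun y hy => (closure_le _).2 fun x hx => ⟨hc x hx, hK x hx y hy⟩
  have h3 : ∀ y ∈ closure K, closure K ≤ stz t y := fun y hy =>
    (closure_le _).2 fun x hx => ⟨hc x hx, nx_cms (h1 x hx hy).2⟩
  intro x hx
  refine ⟨(h3 x hx hx).1, ?_⟩
  induction hx using closure_induction with
  | mem x hx => rw [h2 x hx]; exact one_mem _
  | one => simp
  | mul a b ha hb e1 e2 =>
    obtain ⟨k, hk⟩ := e1
    have : a * b * (a * b) = ⁅a, b⁆ * (b * (a * a) * b⁻¹) * (b * b) := by group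
    rw [this, ← hk, nx_cj ((Commute.zpow_right (h3 b hb hb).1 k).eq)]
    exact mul_mem (mul_mem (h3 b hb ha).2 (zpow_mem (mem_zpowers t) k)) e2
  | inv a _ e => rw [← mul_inv_rev]; exact inv_mem e

variable [Finite G]

theorem nx_cov {A B : Subgroup G} (hle : A ≤ B) (hc : Nat.card B ≤ 2 * Nat.card A) (hx : x ∈ B) (hy : y ∈ B)
    (xA : x ∉ A) (yA : y ∉ A) : x⁻¹ * y ∈ A := by
  have e := (A.subgroupOf B).card_mul_index
  rw [Nat.card_congr (subgroupOfEquivOfLe hle).toEquiv] at e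
  have h0 : 0 < Nat.card A := Nat.card_pos
  have h1 : A.relIndex B ≠ 1 := fun e => xA (relIndex_eq_one.1 e hx)
  have h2 : A.relIndex B ≠ 0 := (A.subgroupOf B).index_ne_zero_of_finite
  have h3 : A.relIndex B ≤ 2 := by
    by_contra hn
    change Nat.card A * A.relIndex B = _ at e
    nlinarith
  exact (CL.SR1.mul_iff (show A.relIndex B = 2 by omega) (inv_mem hx) hy).2 (iff_of_false (by simpa using xA) yA)

theorem nx_card {A B : Subgroup G} (hle : A ≤ B) (h : ∀ x ∈ B, ∀ y ∈ B, x ∉ A → y ∉ A → x⁻¹ * y ∈ A) :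
    Nat.card B ≤ 2 * Nat.card A := by
  have e := (A.subgroupOf B).card_mul_index
  rw [Nat.card_congr (subgroupOfEquivOfLe hle).toEquiv] at e
  have h2 : A.relIndex B ∣ 2 := by
    by_cases c : B ≤ A
    · rw [relIndex_eq_one.2 c]; exact one_dvd _
    obtain ⟨a, ha, aA⟩ := SetLike.not_le_iff_exists.1 c
    refine relIndex_dvd_two_iff.2 ⟨a, ha, fun b hb => or_iff_not_imp_right.2 fun bA => ?_⟩
    simpa using h b⁻¹ (inv_mem hb) a ha (by simpa using bA) aA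
  change Nat.card A * A.relIndex B = _ at e
  rw [← e, mul_comm]
  exact Nat.mul_le_mul_right _ (Nat.le_of_dvd two_pos h2)

/-- What is used of 2-constraint. -/
theorem nx_con (v2 : v * v = 1) (hc : IsPConstrained 2 (centralizer ({v} : Set G))) {P : Subgroup G}
    (hP : SylIn 2 P (centralizer {v})) :
    ∃ Q N : Subgroup G, Q ≤ P ∧ P ≤ N ∧ N ≤ centralizer {v} ∧ N ≤ normalizer (Q : Set G) ∧
      (∀ x ∈ P, (∀ q ∈ Q, ⁅x, q⁆ ∈ zpowers v) → x ∈ Q) ∧
      ∀ x ∈ Q, ∀ k ∈ centralizer ({v} : Set G), k * x * k⁻¹ ∈ P → ∃ n ∈ N, n * x * n⁻¹ = k * x * k⁻¹ := by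
  set H := centralizer ({v} : Set G)
  have hL : pLayerOf 2 H = ⊥ := pLayerOf_eq_bot_iff_pLayer.2 ((Cfsg.Agent.S1327.result 2).1 hc)
  have hQ := hP.inf_normal_of_le (le_normalizer_oppOf H) (oppOf_le (p := 2) H)
  have hQ' : CL.Misc.SylIn 2 _ _ := ⟨hQ.le, hQ.pgroup, hQ.not_dvd_relIndex⟩
  refine ⟨P ⊓ oppOf 2 H, H ⊓ normalizer ((P ⊓ oppOf 2 H : Subgroup G) : Set G), inf_le_left,
    le_inf hP.le (le_normalizer_inf le_normalizer (hP.le.trans (le_normalizer_oppOf H))), inf_le_left,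
    inf_le_right, fun x hx h => ⟨hx, mem_oppOf_of_commutator_mem hL hQ'
      (mem_centralizer_singleton_iff.2 rfl) le_rfl v2 (hP.le hx) h⟩, fun x hx k hk e => ?_⟩
  obtain ⟨o, ho, n, hn, rfl⟩ := hQ.frattini (le_normalizer_oppOf H hk)
  have hnH : n ∈ H := (mul_mem_cancel_left (oppOf_le H ho)).1 hk
  have hO : P ⊓ oppOf 2 H ≤ normalizer (opOf 2 H : Set G) :=
    (inf_le_left.trans hP.le).trans (le_normalizer.trans (normalizer_le_normalizer_opOf 2 H))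
  rw [oppOf_eq_sup hQ', sup_comm, mem_sup_of_normalizes_left hO] at ho
  obtain ⟨o, ho, q, hq, rfl⟩ := ho
  have h1 : q * n ∈ normalizer ((P ⊓ oppOf 2 H : Subgroup G) : Set G) := mul_mem (le_normalizer hq) hn
  refine ⟨q * n, ⟨mul_mem (hP.le hq.1) hnH, h1⟩, ?_⟩
  have h2 := conj_mem_of_normalizes (H := normalizer _) le_rfl h1 hx
  have h3 : o * q * n * x * (o * q * n)⁻¹ ∈ P ⊓ oppOf 2 H :=
    ⟨e, conj_mem_of_normalizes (le_normalizer_oppOf H) hk hx.2⟩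
  have h4 : (q * n * x * (q * n)⁻¹)⁻¹ * (o * q * n * x * (o * q * n)⁻¹) ∈ opOf 2 H := by
    have := mul_mem (conj_mem_of_normalizes' hO h2 ho) (inv_mem ho)
    convert this using 1
    group
  obtain ⟨j, hj⟩ := isPGroup_iff_forall_mem.1 hQ.pgroup _ (mul_mem (inv_mem h2) h3)
  exact inv_mul_eq_one.1 (PComp.eq_one_of_coprime_of_pow
    ((opOf_coprime 2 H).coprime_dvd_left (orderOf_dvd_natCard _ h4)) hj)

/-- The setting: `z ∈ U ∩ Z(S)` is not conjugate to another element of `U`. -/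
structure NX (S U : Subgroup G) (z : G) : Prop extends Pre S U where
  syl : SylIn 2 S ⊤
  zU : z ∈ U
  z1 : z ≠ 1
  zc : ∀ g ∈ S, g * z = z * g
  p0 : ∀ g : G, g * z * g⁻¹ ∈ U → g * z * g⁻¹ = z
  con : ∀ v ∈ U, v ≠ 1 → IsPConstrained 2 (centralizer ({v} : Set G))

omit [Finite G] in
theorem Pre.cj (h : Pre S U) (g : G) : Pre (g •ᶜ S) (g •ᶜ U) where
  p2 := isPGroup_cj g h.p2
  US := cj_mono g h.US
  kl := CL.Four.isKleinFour_map h.kl (MulAut.conj g).injective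
  nU := by
    rintro _ ⟨s, hs, rfl⟩ _ ⟨u, hu, rfl⟩
    exact ⟨_, h.nU s hs u hu, by simp [mul_assoc]⟩
  k4 := fun E h1 h2 h3 => by
    rw [← card_cj g⁻¹ E]
    refine h.k4 _ (cj_le_iff.2 (by rwa [inv_inv])) ?_ ?_
    · rintro s hs _ ⟨x, hx, rfl⟩
      exact ⟨_, h2 _ (conj_mem_cj hs) x hx, by simp [mul_assoc]⟩
    · rintro _ ⟨x, hx, rfl⟩
      exact nx_cj2 _ (h3 x hx)

theorem Pre.sec (h : Pre S U) (hS : SylIn 2 S ⊤) {B N : Subgroup G} (hp : IsPGroup 2 B) (hle : N ≤ B)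
    (hn : B ≤ normalizer (N : Set G)) (h2 : ∀ x ∈ B, x * x ∈ N) : Nat.card B ≤ 16 * Nat.card N := by
  obtain ⟨g, -, hg⟩ := hS.exists_le_conj hp le_top
  have h' := h.cj g
  have r := Cfsg.Agent.S0501.result h'.p2 fun A hA _ h2 => by
    rw [← card_map_of_injective (g •ᶜ S).subtype_injective]
    refine h'.k4 _ (map_subtype_le A) ?_ ?_
    · rintro s hs _ ⟨a, ha, rfl⟩
      exact ⟨_, hA.conj_mem a ha ⟨s, hs⟩, rfl⟩
    · rintro _ ⟨a, ha, rfl⟩
      exact congrArg Subtype.val ((pow_two a).symm.trans (h2 a ha))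
  let N' := (N.subgroupOf (g •ᶜ S)).subgroupOf (B.subgroupOf (g •ᶜ S))
  have : N'.Normal := ⟨fun x hx k => conj_mem_of_normalizes hn k.2 hx⟩
  have e2 : ∀ a : B.subgroupOf (g •ᶜ S) ⧸ N', a * a = 1 := fun a => by
    obtain ⟨a, rfl⟩ := QuotientGroup.mk_surjective a
    exact (QuotientGroup.eq_one_iff (a * a)).2 (h2 _ a.2)
  have r1 := r _ N' ⊤ ⟨⟨fun a b => Subtype.ext (nx_comm (E := ⊤) (fun x _ => e2 x) trivial trivial)⟩⟩
    fun a _ => (pow_two a).trans (e2 a)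
  rw [card_top] at r1
  have e := N'.card_eq_card_quotient_mul_card_subgroup
  rw [Nat.card_congr (subgroupOfEquivOfLe hg).toEquiv,
    Nat.card_congr (subgroupOfEquivOfLe (show N.subgroupOf (g •ᶜ S) ≤ B.subgroupOf _ from fun _ hx => hle hx)).toEquiv,
    Nat.card_congr (subgroupOfEquivOfLe (hle.trans hg)).toEquiv] at e
  rw [e]
  exact Nat.mul_le_mul_right _ r1

theorem Pre.burn (h : Pre S U) (hS : SylIn 2 S ⊤) (hc : S ≤ centralizer (U : Set G)) {a g : G} (ha : a ∈ U)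
    (a1 : a ≠ 1) (hb : g * a * g⁻¹ ∈ U) (ne : g * a * g⁻¹ ≠ a) : IsConj a (a * (g * a * g⁻¹)) := by
  have cU : ∀ v ∈ U, v ∈ centralizer (S : Set G) := fun v hv s hs => (hc hs v hv).symm
  obtain ⟨n, hn, e⟩ := hS.toSylowTop.conj_eq_normalizer_conj_of_mem_centralizer a g⁻¹ (cU a ha)
    (by rw [inv_inv]; exact cU _ hb)
  rw [inv_inv] at e
  have hn' : n⁻¹ ∈ normalizer (S : Set G) := inv_mem hn
  have e' : n⁻¹ * a * n⁻¹⁻¹ = g * a * g⁻¹ := by rw [inv_inv, e]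
  have m : n⁻¹ * (g * a * g⁻¹) * n⁻¹⁻¹ ∈ U := by
    have c := conj_mem_of_normalizes (normalizer_le_normalizer_centralizer S) hn' (cU _ hb)
    refine h.kt' (J := fun y => y = n⁻¹ * (g * a * g⁻¹) * n⁻¹⁻¹) ?_ ?_ ?_ ?_ rfl
    · rintro _ rfl
      have := conj_mem_of_normalizes (H := normalizer _) le_rfl hn' (h.US hb)
      exact ⟨this, hc this⟩
    · rintro s hs _ rfl
      exact nx_cj (c s hs)
    · rintro _ rfl
      exact nx_cj2 _ (h.sq _ hb)
    · rintro _ _ rfl rfl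
      rfl
  have b1 : g * a * g⁻¹ ≠ 1 := by simpa using a1
  rcases CL.Four.eq_or_of_mem h.kl ha hb m a1 b1 ne.symm with e1 | e1 | e1 | e1
  · exact (b1 (conj_eq_one_iff.1 e1)).elim
  · exact (ne (e' ▸ CL.Four.conj_eq_of_sq hS.toSylowTop (cU a ha) hn' (by rw [e', e1]))).elim
  · exact (ne (by simpa using (e1.trans e'.symm))).elim
  · exact (isConj_iff.2 ⟨g, rfl⟩).trans (isConj_iff.2 ⟨n⁻¹, e1⟩)

namespace NX

variable (h : NX S U z)
include h

theorem cj (g : G) : NX (g •ᶜ S) (g •ᶜ U) (g * z * g⁻¹) where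
  toPre := h.toPre.cj g
  syl := h.syl.cj_of_mem trivial
  zU := conj_mem_cj h.zU
  z1 := by simpa using h.z1
  zc := by
    rintro _ ⟨s, hs, rfl⟩
    exact nx_cjc g (h.zc s hs)
  p0 := fun k hk => by
    have := h.p0 (g⁻¹ * k * g) (by simpa [mul_assoc] using mem_cj.1 hk)
    calc _ = g * (g⁻¹ * k * g * z * (g⁻¹ * k * g)⁻¹) * g⁻¹ := by group
      _ = _ := by rw [this]
  con := by
    rintro _ ⟨v, hv, rfl⟩ v1
    have := (CL.PC.isPConstrained_cj_iff g _).2 (h.con v hv fun e => v1 (by simp [e]))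
    rwa [cj_centralizer_singleton] at this

omit [Finite G]

theorem z2 : z * z = 1 := h.sq z h.zU

theorem cases (hu : u ∈ U) (u1 : u ≠ 1) (uz : u ≠ z) (hv : v ∈ U) : v = 1 ∨ v = z ∨ v = u ∨ v = z * u :=
  CL.Four.eq_or_of_mem h.kl h.zU hu hv h.z1 u1 uz.symm

theorem cm (hu : u ∈ U) (hv : v ∈ U) : u * v = v * u := CL.Four.comm_of_mem h.kl hu hv

theorem exists_u : ∃ u ∈ U, u ≠ 1 ∧ u ≠ z := CL.Four.exists_ne_of_mem h.kl z

theorem zu (hu : u ∈ U) (u1 : u ≠ 1) (uz : u ≠ z) : z * u ∈ U ∧ z * u ≠ 1 ∧ z * u ≠ z :=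
  ⟨mul_mem h.zU hu, fun e => uz (by rw [← nx_inv h.z2]; exact eq_inv_of_mul_eq_one_right e), by simpa using u1⟩

theorem nc (hu : u ∈ U) (uz : u ≠ z) (c : IsConj u z) : False := by
  obtain ⟨g, e⟩ := isConj_iff.1 c.symm
  exact uz (e ▸ h.p0 g (e ▸ hu))

theorem cen (hu : u ∈ U) (u1 : u ≠ 1) (uz : u ≠ z) (c1 : x * z = z * x) (c2 : x * u = u * x) :
    x ∈ centralizer (U : Set G) := h.cenU h.zU hu h.z1 u1 uz.symm c1 c2

theorem cmU (hx : x ∈ S) (hu : u ∈ U) : ⁅x, u⁆ ∈ zpowers z := by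
  rw [nx_cm h.z2]
  by_cases c : x ∈ S ⊓ centralizer (U : Set G)
  · exact Or.inl (nx_cj (c.2 u hu).symm)
  by_cases u1 : u = 1
  · simp [u1]
  by_cases uz : z = u
  · exact Or.inl (nx_cj (uz ▸ h.zc x hx))
  · exact Or.inr (h.mv h.zU h.z1 h.zc hu u1 uz hx c)

end NX

namespace NX

variable (h : NX S U z)
include h

theorem r4 {K : Set G} (hp : IsPGroup 2 (closure K)) (t2 : t * t = 1) (tK : t ∈ K)
    (hc : ∀ x ∈ K, x * t = t * x) (h2 : ∀ x ∈ K, x * x = 1)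
    (hK : ∀ x ∈ K, ∀ y ∈ K, ⁅x, y⁆ ∈ zpowers t) : Nat.card (closure K) ≤ 32 := by
  have k := nx_sqmod hc h2 hK
  have e := h.sec h.syl hp (zpowers_le.2 (subset_closure tK)) (fun x hx => centralizer_le_normalizer _ fun y hy => by
    obtain ⟨n, rfl⟩ := hy
    exact ((Commute.zpow_right (k x hx).1 n).eq).symm) fun x hx => (k x hx).2
  have : orderOf t ≤ 2 := orderOf_le_of_pow_eq_one two_pos ((pow_two t).trans t2)
  rw [Nat.card_zpowers] at e
  omega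

theorem r4' {E : Subgroup G} (h2 : ∀ x ∈ E, x * x = 1) : Nat.card E ≤ 16 := by
  simpa using h.sec h.syl (nx_el h2) bot_le (by rw [normalizer_eq_top]; exact le_top) fun x hx => mem_bot.2 (h2 x hx)

theorem cenz (hx : x ∈ S) (x2 : x * x = 1) (c : ∀ g ∈ S, g * x = x * g) : x ∈ U :=
  h.kt' (J := fun y => y = x) (by rintro _ rfl; exact ⟨hx, fun v hv => c v (h.US hv)⟩)
    (by rintro s hs _ rfl; exact nx_cj (c s hs)) (by rintro _ rfl; exact x2) (by rintro _ _ rfl rfl; rfl) rfl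

theorem cenz' (hb : ¬ S ≤ centralizer (U : Set G)) (hx : x ∈ S) (x2 : x * x = 1) (x1 : x ≠ 1)
    (c : ∀ g ∈ S, g * x = x * g) : x = z := by
  by_contra e
  exact hb fun g hg => h.cen (h.cenz hx x2 c) x1 e (h.zc g hg) (c g hg)

theorem nz (hb : ¬ S ≤ centralizer (U : Set G)) {M : Subgroup G} (hM : M ≤ S) (hn : S ≤ normalizer (M : Set G))
    (h1 : M ≠ ⊥) : z ∈ M := by
  have hp := h.p2.to_le hM
  have e := inf_centralizer_ne_bot h.p2 hp hn h1
  obtain ⟨a, ha⟩ := exists_prime_orderOf_dvd_card' 2 (dvd_card_of_isPGroup_le (hp.to_le inf_le_left) e le_rfl)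
  have a2 : (a : G) * a = 1 := by rw [← coe_mul, ← pow_two, ← ha, pow_orderOf_eq_one, coe_one]
  exact h.cenz' hb (hM a.2.1) a2 (fun e => by simp [show a = 1 from Subtype.ext e] at ha) a.2.2 ▸ a.2.1

theorem adj (hu : u ∈ U) (u1 : u ≠ 1) (uz : u ≠ z) {g : G} (hv : g * u * g⁻¹ ∈ U) :
    ∃ s ∈ S, s * u * s⁻¹ = g * u * g⁻¹ := by
  rcases h.cases hu u1 uz hv with e | e | e | e
  · simp [u1] at e
  · exact (h.nc hu uz (isConj_iff.2 ⟨g, e⟩)).elim
  · exact ⟨1, one_mem _, by simp [e]⟩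
  by_cases hc : S ≤ centralizer (U : Set G)
  · have := h.burn h.syl hc hu u1 hv (by rw [e]; simpa using h.z1)
    rw [e, h.cm h.zU hu, ← mul_assoc, h.sq u hu, one_mul] at this
    exact (h.nc hu uz this).elim
  · obtain ⟨s, hs, sT⟩ := SetLike.not_le_iff_exists.1 hc
    exact ⟨s, hs, (h.mv h.zU h.z1 h.zc hu u1 (Ne.symm uz) hs fun c => sT c.2).trans e.symm⟩

theorem cardS : Nat.card S ≤ 2 * Nat.card (S ⊓ centralizer (U : Set G) : Subgroup G) :=
  nx_card inf_le_left fun _ hx _ hy => h.cov h.zU h.z1 h.zc hx hy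

theorem sylT (hu : u ∈ U) (u1 : u ≠ 1) (uz : u ≠ z) : SylIn 2 (S ⊓ centralizer (U : Set G)) (centralizer {u}) := by
  have le : S ⊓ centralizer (U : Set G) ≤ centralizer {u} := fun x hx =>
    mem_centralizer_singleton_iff.2 (hx.2 u hu).symm
  by_cases hc : S ≤ centralizer (U : Set G)
  · rw [inf_eq_left.2 hc] at le ⊢
    exact h.syl.of_le le le_top
  refine ⟨le, h.p2.to_le inf_le_left, fun R hR h1 h2 => le_antisymm (by_contra fun hn => ?_) h1⟩
  obtain ⟨g, -, e⟩ := h.syl.exists_conj (h.syl.of_card_le hR le_top (h.cardS.trans (two_mul_card_le h1 hn)))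
  have := (h.cj g).cenz' (x := u) (by rwa [← cj_centralizer, cj_le_cj_iff]) (e ▸ h1 (h.UT hu)) (h.sq u hu) u1
    fun s hs => mem_centralizer_singleton_iff.1 (h2 (e ▸ hs))
  exact h.nc hu uz (isConj_iff.2 ⟨g, this.symm⟩).symm

theorem sylz : SylIn 2 S (centralizer {z}) :=
  h.syl.of_le (fun g hg => mem_centralizer_singleton_iff.2 (h.zc g hg)) le_top

theorem ext {P : Subgroup G} (g : G) (hP : IsPGroup 2 P) (hc : P ≤ centralizer {g * z * g⁻¹}) :
    ∃ k, k * z * k⁻¹ = g * z * g⁻¹ ∧ P ≤ k •ᶜ S := by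
  obtain ⟨x, hx, e⟩ := (h.cj g).sylz.exists_le_conj hP hc
  refine ⟨x * g, ?_, by rwa [cj_mul]⟩
  rw [← nx_cj (mem_centralizer_singleton_iff.1 hx)]
  group

end NX

end CL.NE
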