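import Cfsg.Agent.SYL.NEy1
import Cfsg.Agent.INV.ThompsonTransfer

/-!
No normal elementary abelian subgroup of order eight, the normal four-group not fused:
`z` is weakly closed in `C_S(U)` with respect to `C(u)`, `u ∈ U ∖ ⟨z⟩`.
-/

set_option autoImplicit false
set_option linter.unusedSectionVars false

namespace CL.NE

open Subgroup CL.MSS CL.PComp Cfsg
open scoped commutatorElement

variable {G : Type*} [Group G] [Finite G] {S T U : Subgroup G} {z t u v x y : G}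

theorem nx_clos {A B : Set G} {g : G} (h : ∀ x ∈ A, g * x * g⁻¹ ∈ B) (hx : x ∈ closure A) :
    g * x * g⁻¹ ∈ closure B :=
  (closure_le ((closure B).comap (MulAut.conj g).toMonoidHom)).2 (fun x hx => subset_closure (h x hx)) hx

theorem nx_sd {s w : G} (w2 : w * w = 1) (r : w * s * w⁻¹ = s ^ 3) (s8 : orderOf s = 8)
    (hx : x ∈ closure ({s, w} : Set G)) (x2 : x * x = 1) : x ∈ zpowers (s ^ 4) ∨ IsConj w x := by
  have ws : ∀ i : ℤ, w * s ^ i = s ^ (3 * i) * w := fun i => by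
    rw [zpow_mul, show s ^ (3 : ℤ) = s ^ 3 from zpow_natCast s 3, ← r, conj_zpow, inv_mul_cancel_right]
  have key : ∃ i : ℤ, x = s ^ i ∨ x = s ^ i * w := by
    have k1 : ∀ (j : ℤ) y, (∃ i : ℤ, y = s ^ i ∨ y = s ^ i * w) → ∃ i : ℤ, s ^ j * y = s ^ i ∨ s ^ j * y = s ^ i * w := by
      rintro j _ ⟨i, rfl | rfl⟩
      · exact ⟨j + i, Or.inl (zpow_add _ _ _).symm⟩
      · exact ⟨j + i, Or.inr (by rw [zpow_add, mul_assoc])⟩
    have k2 : ∀ y, (∃ i : ℤ, y = s ^ i ∨ y = s ^ i * w) → ∃ i : ℤ, w * y = s ^ i ∨ w * y = s ^ i * w := by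
      rintro _ ⟨i, rfl | rfl⟩
      · exact ⟨_, Or.inr (ws i)⟩
      · exact ⟨3 * i, Or.inl (by rw [← mul_assoc, ws, mul_assoc, w2, mul_one])⟩
    clear x2
    induction hx using closure_induction_left with
    | one => exact ⟨0, Or.inl (zpow_zero s).symm⟩
    | mul_left a ha y _ hy =>
      rcases ha with rfl | rfl
      · simpa using k1 1 y hy
      · exact k2 y hy
    | inv_mul_cancel a ha y _ hy =>
      rcases ha with rfl | rfl
      · simpa using k1 (-1) y hy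
      · rw [nx_inv w2]; exact k2 y hy
  obtain ⟨i, rfl | rfl⟩ := key
  · rw [← zpow_add, ← orderOf_dvd_iff_zpow_eq_one, s8] at x2
    obtain ⟨k, rfl⟩ : ∃ k, i = 4 * k := ⟨i / 4, by omega⟩
    exact Or.inl ⟨k, by rw [zpow_mul]; exact congrArg (· ^ k) (zpow_natCast s 4).symm⟩
  · rw [mul_assoc, ← mul_assoc w, ws, mul_assoc, w2, mul_one, ← zpow_add, ← orderOf_dvd_iff_zpow_eq_one, s8] at x2
    obtain ⟨k, rfl⟩ : ∃ k, i = 2 * k := ⟨i / 2, by omega⟩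
    refine Or.inr (isConj_iff.2 ⟨s ^ (-k), ?_⟩)
    rw [← zpow_neg, neg_neg, mul_assoc, ws, ← mul_assoc, ← zpow_add]
    congr 2
    ring

namespace NX

variable (h : NX S U z)
include h

/-- `C_S(U) = D₈ × ⟨u⟩` is impossible. -/
theorem no32 (hG : ∀ H : Subgroup G, H.index ≠ 2) (hu : u ∈ U) (u1 : u ≠ 1) (uz : u ≠ z) {s w : G} (hs : s ∈ S)
    (sT : s ∉ S ⊓ centralizer (U : Set G)) (hw : w ∈ S ⊓ centralizer (U : Set G)) (w2 : w * w = 1)
    (wz : IsConj w z) (c1 : w * (s * w * s⁻¹) * w⁻¹ = z * (s * w * s⁻¹))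
    (c2 : s * (s * w * s⁻¹) * s⁻¹ = z * w)
    (cov : ∀ x ∈ S ⊓ centralizer (U : Set G), x ∈ U ∨ w * x ∈ U ∨ s * w * s⁻¹ * x ∈ U ∨
      w * (s * w * s⁻¹) * x ∈ U) : False := by
  have main : ∀ s ∈ S, ∀ w', s ∉ S ⊓ centralizer (U : Set G) → s * w * s⁻¹ = w' → s * s = w * w' →
      w * w' * w⁻¹ = z * w' → (∀ x ∈ S ⊓ centralizer (U : Set G), x ∈ U ∨ w * x ∈ U ∨ w' * x ∈ U ∨
      w * w' * x ∈ U) → False := fun s hs w' sT e1 e2 c1 cov => by
    have w'2 : w' * w' = 1 := e1 ▸ nx_cj2 s w2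
    have s4 : s ^ 4 = z := by
      calc s ^ 4 = s * s * (s * s) := by simp [pow_succ, mul_assoc]
        _ = w * w' * w⁻¹ * w' := by rw [e2, nx_inv w2, mul_assoc (w * w')]
        _ = z := by rw [c1, mul_assoc, w'2, mul_one]
    have s8 : orderOf s = 2 ^ (2 + 1) := orderOf_eq_prime_pow (by simpa [s4] using h.z1)
      (by rw [show 2 ^ (2 + 1) = 4 + 4 from rfl, pow_add, s4, h.z2])
    have r : w * s * w⁻¹ = s ^ 3 := by
      calc w * s * w⁻¹ = w * (s * w * s⁻¹) * s := by rw [nx_inv w2]; group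
        _ = _ := by rw [e1, ← e2]; simp [pow_succ]
    have m1 : s ∈ closure ({s, w} : Set G) := subset_closure (by simp)
    have m2 : w ∈ closure ({s, w} : Set G) := subset_closure (by simp)
    have m3 : w' ∈ closure ({s, w} : Set G) := e1 ▸ mul_mem (mul_mem m1 m2) (inv_mem m1)
    have m4 : z ∈ closure ({s, w} : Set G) := s4 ▸ pow_mem m1 4
    have k1 : ∀ a ∈ closure ({s, w} : Set G), ∀ x, a * x ∈ U →
        x * u ∈ closure ({s, w} : Set G) ∨ x ∈ closure ({s, w} : Set G) := fun a ha x hx => by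
      rw [← mul_mem_cancel_left ha, ← mul_assoc, ← mul_mem_cancel_left (y := x) ha]
      rcases h.cases hu u1 uz hx with e | e | e | e <;> rw [e]
      · exact Or.inr (one_mem _)
      · exact Or.inr m4
      · exact Or.inl (h.sq u hu ▸ one_mem _)
      · exact Or.inl (by rwa [mul_assoc, h.sq u hu, mul_one])
    have k2 : ∀ a ∈ closure ({s, w} : Set G), ∀ x, a * x ∈ S ⊓ centralizer (U : Set G) →
        x * u ∈ closure ({s, w} : Set G) ∨ x ∈ closure ({s, w} : Set G) := fun a ha x hx => by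
      rcases cov _ hx with e | e | e | e
      · exact k1 _ ha x e
      · exact k1 _ (mul_mem m2 ha) x (by rwa [mul_assoc])
      · exact k1 _ (mul_mem m3 ha) x (by rwa [mul_assoc])
      · exact k1 _ (mul_mem (mul_mem m2 m3) ha) x (by rwa [mul_assoc])
    obtain ⟨g, hg⟩ := CL.ThompsonTransfer.exists_conj_mem hG h.syl.toSylowTop (Q := closure {s, w})
      ((closure_le _).2 (by rintro _ (rfl | rfl); exacts [hs, hw.1]))
      (relIndex_dvd_two_iff.2 ⟨u, h.US hu, fun x hx => by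
        by_cases c : x ∈ S ⊓ centralizer (U : Set G)
        · exact k2 1 (one_mem _) x (by rwa [one_mul])
        · exact k2 _ (inv_mem m1) x (h.cov h.zU h.z1 h.zc hs hx sT c)⟩) (h.sq u hu)
    rcases nx_sd w2 r s8 hg (nx_cj2 g (h.sq u hu)) with e | e
    · rw [s4, nx_zp h.z2] at e
      exact e.elim (fun e => u1 (conj_eq_one_iff.1 e)) fun e => h.nc hu uz (isConj_iff.2 ⟨g, e⟩)
    · exact h.nc hu uz ((isConj_iff.2 ⟨g, rfl⟩).trans (e.symm.trans wz))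
  obtain ⟨w', e1⟩ : ∃ w', s * w * s⁻¹ = w' := ⟨_, rfl⟩
  rw [e1] at c1 c2 cov
  have w'T : w' ∈ S ⊓ centralizer (U : Set G) := e1 ▸ h.nT s hs w hw
  have w'2 : w' * w' = 1 := e1 ▸ nx_cj2 s w2
  have ssT : s * s ∈ S ⊓ centralizer (U : Set G) := by
    simpa using h.cov h.zU h.z1 h.zc (inv_mem hs) hs (by simpa using sT) sT
  have a1 : s * s * w * (s * s)⁻¹ = z * w := by rw [← c2, ← e1]; group
  have a2 : s * s * w' * (s * s)⁻¹ = z * w' := by
    calc _ = s * (s * w' * s⁻¹) * s⁻¹ := by group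
      _ = s * z * s⁻¹ * (s * w * s⁻¹) := by rw [c2]; group
      _ = _ := by rw [nx_cj (h.zc s hs), e1]
  have nz : ∀ x : G, z * x ≠ x := fun x e => h.z1 (mul_eq_right.1 e)
  have fx : ∀ a b : G, a * (s * s) ∈ U → b ∈ S ⊓ centralizer (U : Set G) → s * s * b * (s * s)⁻¹ = a⁻¹ * b * a :=
    fun a b ha hb => by
      calc _ = a⁻¹ * (a * (s * s) * b * (a * (s * s))⁻¹) * a := by group
        _ = _ := by rw [nx_cj (hb.2 _ ha)]
  rcases cov _ ssT with e | e | e | e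
  · exact nz w (a1.symm.trans (nx_cj (hw.2 _ e)))
  · exact nz w (by rw [← a1, fx w w e hw]; group)
  · exact nz w' (by rw [← a2, fx w' w' e w'T]; group)
  have zw := h.zc w hw.1
  have zw' := h.zc w' w'T.1
  have c3 : w * w' = z * (w' * w) := by rw [← mul_assoc, ← c1, inv_mul_cancel_right]
  have c4 : s * (w * w') * s⁻¹ = w * w' := by
    calc _ = s * w * s⁻¹ * (s * w' * s⁻¹) := by group
      _ = _ := by rw [e1, c2, ← mul_assoc, zw', mul_assoc, ← c3]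
  have c5 : s * (w * w' * (s * s)) * s⁻¹ = w * w' * (s * s) := by
    calc _ = s * (w * w') * s⁻¹ * (s * s) := by group
      _ = _ := by rw [c4]
  have c6 : w * w' * (w * w') = z := by
    rw [nx_inv w2] at c1
    rw [← mul_assoc, c1, mul_assoc, w'2, mul_one]
  have su := h.mv h.zU h.z1 h.zc hu u1 (Ne.symm uz) hs sT
  rcases h.cases hu u1 uz e with e2 | e2 | e2 | e2
  · have uw := nx_cj (hw.2 u hu)
    refine main (s * u) (mul_mem hs (h.US hu)) w' (fun c => sT ((mul_mem_cancel_right (h.UT hu)).1 c))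
      (by rw [show s * u * w * (s * u)⁻¹ = s * (u * w * u⁻¹) * s⁻¹ by group, uw, e1]) ?_ c1 cov
    calc s * u * (s * u) = s * u * s⁻¹ * (s * s) * u := by group
      _ = z * (s * s) := by rw [su, mul_assoc z, ssT.2 u hu, mul_assoc, mul_assoc, h.sq u hu, mul_one]
      _ = _ := by rw [← c6, mul_assoc, e2, mul_one]
  · exact main s hs w' sT e1 (mul_left_cancel (e2.trans c6.symm)) c1 cov
  · exact nz u (by rw [← su, ← e2, c5])
  · refine nz u ?_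
    rw [e2, ← conj_mul, nx_cj (h.zc s hs), su] at c5
    exact mul_left_cancel c5

theorem wc (hG : ∀ H : Subgroup G, H.index ≠ 2) (hu : u ∈ U) (u1 : u ≠ 1) (uz : u ≠ z) {k : G}
    (hk : k * u = u * k) (hT : k * z * k⁻¹ ∈ S ⊓ centralizer (U : Set G)) : k * z * k⁻¹ = z := by
  have sT := h.sylT hu u1 uz
  obtain ⟨Q, N, QT, TN, Nu, NQ, c1, c2⟩ := nx_con (h.sq u hu) (h.con u hu u1) sT
  set T := S ⊓ centralizer (U : Set G) with hTd
  have zQ : z ∈ Q := c1 z (h.UT h.zU) fun q hq => by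
    rw [commutatorElement_eq_one_iff_mul_comm.2 (h.zc q (QT hq).1).symm]; exact one_mem _
  obtain ⟨Ω, hΩ⟩ : ∃ Ω : Set G, ∀ x, x ∈ Ω ↔ ∃ n ∈ N, n * z * n⁻¹ = x := ⟨{x | _}, fun _ => Iff.rfl⟩
  have zΩ : z ∈ Ω := (hΩ z).2 ⟨1, one_mem _, by simp⟩
  have ΩQ : ∀ x ∈ Ω, x ∈ Q := fun x hx => by
    obtain ⟨n, hn, rfl⟩ := (hΩ x).1 hx
    exact conj_mem_of_normalizes NQ hn zQ
  have ΩT : ∀ x ∈ Ω, x ∈ T := fun x hx => QT (ΩQ x hx)
  have Ωc : ∀ x ∈ Ω, ∀ y ∈ Ω, x * y = y * x := fun x hx y hy => by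
    obtain ⟨n, hn, rfl⟩ := (hΩ y).1 hy
    have := nx_cjc n (h.zc _ (QT (conj_mem_of_normalizes' NQ hn (ΩQ x hx))).1)
    simpa [mul_assoc] using this
  have ΩN : ∀ n ∈ N, ∀ x ∈ Ω, n * x * n⁻¹ ∈ Ω := fun n hn x hx => by
    obtain ⟨m, hm, rfl⟩ := (hΩ x).1 hx
    exact (hΩ _).2 ⟨n * m, mul_mem hn hm, by group⟩
  have Ω2 : ∀ x ∈ Ω, x * x = 1 := fun x hx => by
    obtain ⟨n, -, rfl⟩ := (hΩ x).1 hx
    exact nx_cj2 n h.z2
  have Ωz : ∀ x ∈ Ω, IsConj x z := fun x hx => by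
    obtain ⟨n, -, rfl⟩ := (hΩ x).1 hx
    exact (isConj_iff.2 ⟨n, rfl⟩).symm
  have ΩU : ∀ x ∈ Ω, x ∈ U → x = z := fun x hx hU => by_contra fun e => h.nc hU e (Ωz x hx)
  obtain ⟨zu1, zu2, zu3⟩ := h.zu hu u1 uz
  have Ωu : ∀ x ∈ Ω, u * x ∉ Ω := fun x hx hx' => by
    obtain ⟨n, hn, rfl⟩ := (hΩ x).1 hx
    refine h.nc zu1 zu3 ((isConj_iff.2 ⟨n, ?_⟩).trans (Ωz _ hx'))
    rw [h.cm h.zU hu, ← conj_mul, nx_cj (mem_centralizer_singleton_iff.1 (Nu hn))]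
  by_contra ne
  obtain ⟨n₀, hn₀, e₀⟩ := c2 z zQ k (mem_centralizer_singleton_iff.2 hk) hT
  have a₀ : k * z * k⁻¹ ∈ Ω := (hΩ _).2 ⟨n₀, hn₀, e₀⟩
  by_cases hb : S ≤ centralizer (U : Set G)
  · exact ne (ΩU _ a₀ (h.kt' (J := fun x => x ∈ Ω) ΩT (fun g hg => ΩN g (TN ⟨hg, hb hg⟩)) Ω2
      (fun x y hx hy => Ωc x hx y hy) a₀))
  obtain ⟨s, hs, sT'⟩ := SetLike.not_le_iff_exists.1 hb
  have sT : s ∉ T := fun c => sT' c.2
  have su := h.mv h.zU h.z1 h.zc hu u1 (Ne.symm uz) hs sT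
  obtain ⟨Ω', hΩ'⟩ : ∃ Ω' : Set G, ∀ x, x ∈ Ω' ↔ s⁻¹ * x * s⁻¹⁻¹ ∈ Ω := ⟨{x | _}, fun _ => Iff.rfl⟩
  have p1 : ∀ g ∈ T, ∀ x ∈ Ω', g * x * g⁻¹ ∈ Ω' := fun g hg x hx => (hΩ' _).2 (by
    convert ΩN _ (TN (h.nT _ (inv_mem hs) g hg)) _ ((hΩ' x).1 hx) using 1; group)
  have p2 : ∀ g ∈ S, g ∉ T → ∀ x ∈ Ω, g * x * g⁻¹ ∈ Ω' := fun g hg gT x hx => (hΩ' _).2 (by
    convert ΩN _ (TN (h.cov h.zU h.z1 h.zc hs hg sT gT)) _ hx using 1; group)
  have p3 : ∀ g ∈ S, g ∉ T → ∀ x ∈ Ω', g * x * g⁻¹ ∈ Ω := fun g hg gT x hx => by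
    convert ΩN _ (TN (h.cov h.zU h.z1 h.zc (inv_mem hg) hs (fun c => gT (inv_mem_iff.1 c)) sT)) _ ((hΩ' x).1 hx) using 1
    group
  have Ω'T : ∀ x ∈ Ω', x ∈ T := fun x hx => by
    convert h.nT s hs _ (ΩT _ ((hΩ' x).1 hx)) using 1; group
  have Ω'2 : ∀ x ∈ Ω', x * x = 1 := fun x hx => by
    have := Ω2 _ ((hΩ' x).1 hx)
    rwa [conj_mul, conj_eq_one_iff] at this
  have Ω'c : ∀ x ∈ Ω', ∀ y ∈ Ω', x * y = y * x := fun x hx y hy => by
    have := Ωc _ ((hΩ' x).1 hx) _ ((hΩ' y).1 hy)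
    rwa [conj_mul, conj_mul, mul_left_inj, mul_right_inj] at this
  have Y2 : ∀ Λ : Set G, (∀ x ∈ Λ, x ∈ T) → (∀ x ∈ Λ, x * x = 1) → (∀ x ∈ Λ, ∀ y ∈ Λ, x * y = y * x) →
      closure (Λ ∪ U) ≤ T ∧ ∀ x ∈ closure (Λ ∪ U), x * x = 1 := fun Λ h1 h2 h3 =>
    ⟨(closure_le _).2 fun x hx => hx.elim (h1 x) fun hx => h.UT hx,
      closure_sq (fun x hx => hx.elim (h2 x) (h.sq x)) (by
        rintro x (hx | hx) y (hy | hy)
        exacts [h3 x hx y hy, ((h1 x hx).2 y hy).symm, (h1 y hy).2 x hx, h.cm hx hy])⟩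
  obtain ⟨YT, Ys⟩ := Y2 Ω ΩT Ω2 Ωc
  obtain ⟨Y'T, Y's⟩ := Y2 Ω' Ω'T Ω'2 Ω'c
  have mY : ∀ x ∈ Ω, x ∈ closure (Ω ∪ U) := fun x hx => subset_closure (Or.inl hx)
  have mY' : ∀ x ∈ Ω', x ∈ closure (Ω' ∪ U) := fun x hx => subset_closure (Or.inl hx)
  have YY : ∀ x, x ∈ closure (Ω ∪ U) → x ∈ closure (Ω' ∪ U) → x ∈ U := fun x h1 h2 =>
    h.kt' (J := fun x => x ∈ closure (Ω ∪ U) ∧ x ∈ closure (Ω' ∪ U)) (fun x hx => YT hx.1) (fun g hg x hx => by
      by_cases c : g ∈ T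
      · exact ⟨nx_clos (fun y hy => hy.imp (ΩN g (TN c) y) (h.nU g hg y)) hx.1,
          nx_clos (fun y hy => hy.imp (p1 g c y) (h.nU g hg y)) hx.2⟩
      · exact ⟨nx_clos (fun y hy => hy.imp (p3 g hg c y) (h.nU g hg y)) hx.2,
          nx_clos (fun y hy => hy.imp (p2 g hg c y) (h.nU g hg y)) hx.1⟩)
      (fun x hx => Ys x hx.1) (fun x y hx hy => nx_comm Ys hx.1 hy.1) ⟨h1, h2⟩
  have cm : ∀ a ∈ Ω, ∀ b ∈ Ω', ⁅b, a⁆ ∈ zpowers z := fun a ha b hb => by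
    have q1 := ΩN b (TN (Ω'T b hb)) a ha
    have q2 := p1 a (ΩT a ha) b hb
    have q3 : ⁅b, a⁆ = (a * b * a⁻¹) * b⁻¹ := by
      rw [← commutatorElement_inv, commutatorElement_def, nx_inv (Y's _ (mul_mem (mY' _ q2) (inv_mem (mY' b hb))))]
    have q4 : ⁅b, a⁆ ∈ U := YY _ (mul_mem (mY _ q1) (inv_mem (mY a ha))) (q3 ▸ mul_mem (mY' _ q2) (inv_mem (mY' b hb)))
    rw [nx_zp h.z2]
    rcases h.cases hu u1 uz q4 with e | e | e | e
    · exact Or.inl e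
    · exact Or.inr e
    · exact (Ωu a ha (by rwa [← e, commutatorElement_def, inv_mul_cancel_right])).elim
    · refine (Ωu _ ((hΩ' b).1 hb) ?_).elim
      convert (hΩ' _).1 q2 using 1
      rw [eq_mul_of_mul_inv_eq (q3.symm.trans e), ← su]
      group
  obtain ⟨w, hw, b, hb', ab⟩ : ∃ a ∈ Ω, ∃ b ∈ Ω', b * a * b⁻¹ = z * a := by
    by_contra hn
    have hn' : ∀ a ∈ Ω, ∀ b ∈ Ω', b * a = a * b := fun a ha b hb =>
      nx_cj' (((nx_cm h.z2).1 (cm a ha b hb)).resolve_right fun e => hn ⟨a, ha, b, hb, e⟩)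
    refine ne (ΩU _ a₀ (h.kt' (J := fun x => x ∈ Ω ∨ x ∈ Ω') (fun x hx => hx.elim (ΩT x) (Ω'T x)) (fun g hg x hx => ?_)
      (fun x hx => hx.elim (Ω2 x) (Ω'2 x)) ?_ (Or.inl a₀)))
    · by_cases c : g ∈ T
      · exact hx.imp (ΩN g (TN c) x) (p1 g c x)
      · exact hx.symm.imp (p3 g hg c x) (p2 g hg c x)
    · rintro x y (hx | hx) (hy | hy)
      exacts [Ωc x hx y hy, (hn' x hx y hy).symm, hn' y hy x hx, Ω'c x hx y hy]
  have nz : ∀ x : G, z * x ≠ x := fun x e => h.z1 (mul_eq_right.1 e)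
  have zw : z * w ∈ Ω := ab ▸ ΩN b (TN (Ω'T b hb')) w hw
  have wU : w ∉ U := fun c => nz w (ab.symm.trans (nx_cj ((Ω'T b hb').2 w c).symm))
  have Ω3 : ∀ x ∈ Ω, x = z ∨ x = w ∨ x = z * w := fun x hx => by
    by_contra hn
    push Not at hn
    have UY : U ≤ closure (Ω ∪ U) := fun x hx => subset_closure (Or.inr hx)
    have wn : zpowers w ≤ normalizer (U : Set G) :=
      zpowers_le.2 (centralizer_le_normalizer _ (ΩT w hw).2)
    have k1 := two_mul_card_le (le_sup_left : U ≤ U ⊔ zpowers w) fun c => wU (c (mem_sup_right (mem_zpowers w)))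
    have k2 := two_mul_card_le (sup_le UY (zpowers_le.2 (mY w hw))) fun c => by
      obtain ⟨v, hv, y, hy, e⟩ := (mem_sup_of_normalizes_left wn).1 (c (mY x hx))
      rcases (nx_zp (Ω2 w hw)).1 hy with rfl | rfl
      · exact hn.1 (ΩU x hx (by rw [← e, mul_one]; exact hv))
      rcases h.cases hu u1 uz hv with rfl | rfl | rfl | rfl
      · exact hn.2.1 (by rw [← e, one_mul])
      · exact hn.2.2 e.symm
      · exact Ωu _ hw (e ▸ hx)
      · exact Ωu _ zw (by rwa [← mul_assoc, h.cm hu h.zU, e])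
    have k3 : Nat.card (closure (Ω ∪ U)) ≤ Nat.card (closure (Ω' ∪ U)) := by
      rw [← card_cj s]
      exact card_le_of_le (cj_le_iff_forall.2 fun x hx =>
        nx_clos (fun y hy => hy.imp (p2 s hs sT y) (h.nU s hs y)) hx)
    have k4 := CL.PN.card_sup_mul_card_inf (H := closure (Ω ∪ U)) (K := closure (Ω' ∪ U))
      (YT.trans (le_normalizer_of_cj_le fun g hg => cj_le_iff_forall.2 fun x hx =>
        nx_clos (fun y hy => hy.imp (p1 g hg y) (h.nU g hg.1 y)) hx))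
    have k5 := card_le_of_le (show closure (Ω ∪ U) ⊓ closure (Ω' ∪ U) ≤ U from fun x hx => YY x hx.1 hx.2)
    have c0 : ∀ x y : G, x * y = y * x → ⁅x, y⁆ ∈ zpowers z := fun x y e => by
      rw [commutatorElement_eq_one_iff_mul_comm.2 e]; exact one_mem _
    have KT : ∀ x ∈ (Ω ∪ U) ∪ (Ω' ∪ U), x ∈ T := fun x hx =>
      hx.elim (fun hx => YT (subset_closure hx)) fun hx => Y'T (subset_closure hx)
    have k6 := h.r4 (K := (Ω ∪ U) ∪ (Ω' ∪ U)) (h.p2.to_le ((closure_le _).2 fun x hx => (KT x hx).1)) h.z2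
      (Or.inl (Or.inl zΩ)) (fun x hx => h.zc x (KT x hx).1)
      (fun x hx => hx.elim (fun hx => Ys x (subset_closure hx)) fun hx => Y's x (subset_closure hx)) (by
        have k7 : ∀ x ∈ Ω ∪ U, ∀ y ∈ Ω' ∪ U, ⁅y, x⁆ ∈ zpowers z := by
          rintro x (hx | hx) y hy
          · exact hy.elim (cm x hx y) fun hy => c0 _ _ ((ΩT x hx).2 y hy)
          · exact c0 _ _ ((KT y (Or.inr hy)).2 x hx).symm
        rintro x (hx | hx) y (hy | hy)
        exacts [c0 _ _ (nx_comm Ys (subset_closure hx) (subset_closure hy)), nx_cms (k7 x hx y hy), k7 y hy x hx,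
          c0 _ _ (nx_comm Y's (subset_closure hx) (subset_closure hy))])
    rw [Subgroup.closure_union] at k6
    have := h.kl.card_four
    nlinarith
  have zc : ∀ g ∈ S, ∀ x, g * (z * x) * g⁻¹ = z * (g * x * g⁻¹) := fun g hg x => by
    rw [← conj_mul, nx_cj (h.zc g hg)]
  have q1 : ∀ g ∈ S, ∀ x, x ∉ U → g * x * g⁻¹ ∈ Ω → g * x * g⁻¹ = w ∨ g * x * g⁻¹ = z * w := fun g hg x xU hx =>
    (Ω3 _ hx).resolve_left fun e => xU (by
      have := h.nU _ (inv_mem hg) _ (e ▸ h.zU : g * x * g⁻¹ ∈ U)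
      simpa [mul_assoc] using this)
  have fin : ∀ s ∈ S, s ∉ T → w * (s * w * s⁻¹) * w⁻¹ = z * (s * w * s⁻¹) := fun s' hs' sT' => by
    have m := p2 s' hs' sT' w hw
    refine ((nx_cm h.z2).1 (nx_cms (cm w hw _ m))).resolve_left fun e => nz w ?_
    have bU : b ∉ U := fun c => nz w (ab.symm.trans (nx_cj ((ΩT w hw).2 b c)))
    have e' : w * b = b * w := by
      rcases q1 _ (inv_mem hs') b bU (p3 _ (inv_mem hs') (by simpa using sT') b hb') with e1 | e1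
      · exact nx_cj' (by rwa [show b = s' * w * s'⁻¹ by rw [← e1]; group])
      · exact nx_cj' (by rw [show b = z * (s' * w * s'⁻¹) by rw [← zc s' hs', ← e1]; group, zc w (ΩT w hw).1, e])
    rw [← ab, ← e', mul_inv_cancel_right]
  have cov : ∀ s ∈ S, s ∉ T → ∀ x ∈ T, x ∈ U ∨ w * x ∈ U ∨ s * w * s⁻¹ * x ∈ U ∨ w * (s * w * s⁻¹) * x ∈ U := by
    intro s hs sT
    have c1 := fin s hs sT
    have m := p2 s hs sT w hw
    obtain ⟨w', e1⟩ : ∃ w', s * w * s⁻¹ = w' := ⟨_, rfl⟩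
    have q2 : ∀ g ∈ S, ∀ x, x ∉ U → g * x * g⁻¹ ∈ Ω' → g * x * g⁻¹ = w' ∨ g * x * g⁻¹ = z * w' := fun g hg x xU hx => by
      have := q1 (s⁻¹ * g) (mul_mem (inv_mem hs) hg) x xU (by
        convert p3 _ (inv_mem hs) (by simpa using sT) _ hx using 1; group)
      rw [← e1, ← zc s hs]
      exact this.imp (fun e => by rw [← e]; group) fun e => by rw [← e]; group
    rw [e1] at c1 m ⊢
    have w'U : w' ∉ U := fun c => nz w' (c1.symm.trans (nx_cj ((ΩT w hw).2 w' c).symm))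
    have c2 : w' * w * w'⁻¹ = z * w := ((nx_cm h.z2).1 (cm w hw w' m)).resolve_left fun e =>
      nz w' (c1.symm.trans (nx_cj (nx_cj' e).symm))
    let R := T ⊓ centralizer {w} ⊓ centralizer {w'}
    have mR : ∀ x, x ∈ R ↔ (x ∈ T ∧ x * w = w * x) ∧ x * w' = w' * x := fun x => by
      simp only [R, mem_inf, mem_centralizer_singleton_iff]
    have Rn : ∀ g ∈ S, ∀ r ∈ R, g * r * g⁻¹ ∈ R := fun g hg r hr => by
      have key : ∀ y, (g⁻¹ * y * g⁻¹⁻¹ = w ∨ g⁻¹ * y * g⁻¹⁻¹ = z * w) ∨ (g⁻¹ * y * g⁻¹⁻¹ = w' ∨ g⁻¹ * y * g⁻¹⁻¹ = z * w') →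
          g * r * g⁻¹ * y = y * (g * r * g⁻¹) := fun y hy => by
        obtain ⟨⟨r1, r2⟩, r3⟩ := (mR r).1 hr
        have r4 := h.zc r r1.1
        have : r * (g⁻¹ * y * g⁻¹⁻¹) = g⁻¹ * y * g⁻¹⁻¹ * r := by
          rcases hy with (e | e) | e | e <;> rw [e]
          exacts [r2, (Commute.mul_right r4 r2).eq, r3, (Commute.mul_right r4 r3).eq]
        simpa [mul_assoc] using nx_cjc g this
      have gi := inv_mem hg
      refine (mR _).2 ⟨⟨h.nT g hg r hr.1.1, key w ?_⟩, key w' ?_⟩ <;> by_cases c : g⁻¹ ∈ T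
      exacts [Or.inl (q1 _ gi w wU (ΩN _ (TN c) w hw)), Or.inr (q2 _ gi w wU (p2 _ gi c w hw)),
        Or.inr (q2 _ gi w' w'U (p1 _ c w' m)), Or.inl (q1 _ gi w' w'U (p3 _ gi c w' m))]
    have PR : ∀ x ∈ T ⊓ centralizer {w}, x ∈ R ∨ w * x ∈ R := fun x hx => by
      have xw := mem_centralizer_singleton_iff.1 hx.2
      refine (q2 x hx.1.1 w' w'U (p1 x hx.1 w' m)).imp (fun e => (mR _).2 ⟨⟨hx.1, xw⟩, nx_cj' e⟩) fun e =>
        (mR _).2 ⟨⟨mul_mem (ΩT w hw) hx.1, by rw [mul_assoc, xw]⟩, nx_cj' ?_⟩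
      rw [show w * x * w' * (w * x)⁻¹ = w * (x * w' * x⁻¹) * w⁻¹ by group, e, zc w (ΩT w hw).1, c1, ← mul_assoc,
        h.z2, one_mul]
    have Psq : ∀ x ∈ T ⊓ centralizer {w}, ∃ r ∈ R, x * x = r * r := fun x hx => by
      refine (PR x hx).elim (fun e => ⟨x, e, rfl⟩) fun e => ⟨_, e, ?_⟩
      rw [mul_assoc, ← mul_assoc x, mem_centralizer_singleton_iff.1 hx.2, ← mul_assoc, ← mul_assoc, Ω2 w hw, one_mul]
    obtain ⟨n, hn, en⟩ := (hΩ w).1 hw
    have N1 : N ≤ normalizer ((N ⊓ centralizer Ω : Subgroup G) : Set G) :=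
      le_normalizer_inf le_normalizer (le_normalizer_of_cj_le fun g hg => cj_le_iff_forall.2 fun x hx y hy => by
        simpa [mul_assoc] using nx_cjc g (hx _ (ΩN _ (inv_mem hg) y hy)))
    have s1 := ((h.sylT hu u1 uz).of_le TN Nu).inf_normal_of_le N1 inf_le_left
    have s2 : T ⊓ (N ⊓ centralizer Ω) = T ⊓ centralizer {w} := le_antisymm
      (fun x hx => ⟨hx.1, mem_centralizer_singleton_iff.2 (hx.2.2 w hw).symm⟩) fun x hx => ⟨hx.1, TN hx.1, fun y hy => by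
        have xw := mem_centralizer_singleton_iff.1 hx.2
        rcases Ω3 y hy with rfl | rfl | rfl
        exacts [(h.zc x hx.1.1).symm, xw.symm, (Commute.mul_right (h.zc x hx.1.1) xw).eq.symm]⟩
    rw [← hTd, s2] at s1
    obtain ⟨c, hc, y, hy, rfl⟩ := s1.frattini (N1 hn)
    have ey : y * z * y⁻¹ = w := by
      calc _ = c⁻¹ * (c * y * z * (c * y)⁻¹) * c := by group
        _ = _ := by rw [en, mul_assoc, hc.2 w hw, inv_mul_cancel_left]
    have M1 : closure {x | ∃ p ∈ T ⊓ centralizer ({w} : Set G), p * p = x} ≤ R := (closure_le _).2 (by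
      rintro _ ⟨p, hp, rfl⟩
      obtain ⟨r, hr, e⟩ := Psq p hp
      exact e ▸ mul_mem hr hr)
    have M0 : closure {x | ∃ p ∈ T ⊓ centralizer ({w} : Set G), p * p = x} = ⊥ := by
      by_contra hM
      have z1 := h.nz hb (fun x hx => (M1 hx).1.1.1) (le_normalizer_of_cj_le fun g hg => cj_le_iff_forall.2 fun x hx =>
        nx_clos (by
          rintro _ ⟨p, hp, rfl⟩
          obtain ⟨r, hr, e⟩ := Psq p hp
          exact ⟨_, (Rn g hg r hr).1, by rw [e, conj_mul]⟩) hx) hM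
      have z2 := M1 (nx_clos (g := y) (by
        rintro _ ⟨p, hp, rfl⟩
        exact ⟨_, conj_mem_of_normalizes (H := normalizer _) le_rfl hy hp, by rw [conj_mul]⟩) z1)
      exact nz w' (c1.symm.trans (nx_cj ((mR _).1 (ey ▸ z2)).2))
    have RU : R ≤ U := h.kt R (fun x hx => hx.1.1.1) Rn
      (fun x hx => mem_bot.1 (M0 ▸ subset_closure ⟨x, hx.1, rfl⟩))
      fun v hv => (mR v).2 ⟨⟨h.UT hv, (ΩT w hw).2 v hv⟩, (Ω'T w' m).2 v hv⟩
    intro x hx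
    rcases q1 x hx.1 w wU (ΩN x (TN hx) w hw) with e | e
    · exact (PR x ⟨hx, mem_centralizer_singleton_iff.2 (nx_cj' e)⟩).elim (fun e => Or.inl (RU e))
        fun e => Or.inr (Or.inl (RU e))
    · refine Or.inr (Or.inr ((PR (w' * x) ⟨mul_mem (Ω'T w' m) hx, mem_centralizer_singleton_iff.2 (nx_cj' ?_)⟩).imp
        (fun e => RU e) fun e => RU (by rwa [mul_assoc])))
      rw [show w' * x * w * (w' * x)⁻¹ = w' * (x * w * x⁻¹) * w'⁻¹ by group, e, zc w' (Ω'T w' m).1, c2, ← mul_assoc,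
        h.z2, one_mul]
  have m := p2 s hs sT w hw
  have w'U : s * w * s⁻¹ ∉ U := fun c => wU (by simpa [mul_assoc] using h.nU _ (inv_mem hs) _ c)
  rcases q1 s hs _ w'U (p3 s hs sT _ m) with e | e
  · have hs' := mul_mem (ΩT w hw).1 hs
    have sT' : w * s ∉ T := fun c => sT ((mul_mem_cancel_left (ΩT w hw)).1 c)
    refine h.no32 hG hu u1 uz hs' sT' (ΩT w hw) (Ω2 w hw) (Ωz w hw) (fin _ hs' sT') ?_ (cov _ hs' sT')
    rw [show w * s * w * (w * s)⁻¹ = w * (s * w * s⁻¹) * w⁻¹ by group, fin s hs sT, zc _ hs',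
      show w * s * (s * w * s⁻¹) * (w * s)⁻¹ = w * (s * (s * w * s⁻¹) * s⁻¹) * w⁻¹ by group, e, mul_inv_cancel_right]
  · exact h.no32 hG hu u1 uz hs sT (ΩT w hw) (Ω2 w hw) (Ωz w hw) (fin s hs sT) e (cov s hs sT)

end NX

end CL.NE
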